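/-
Strongly embedded point stabilizers: definitions and the basic facts on involutions.
-/
import Cfsg.Agent.FT.BG01
import Cfsg.Agent.L.BSW1
import Cfsg.Agent.H8.ThompsonTransfer

set_option autoImplicit false
set_option linter.unusedSectionVars false

namespace Cfsg.Agent.P6

open Subgroup Cfsg Cfsg.Agent Cfsg.Agent.FT MulAction

universe u v

variable {G : Type u} [Group G] {Ω : Type v} [MulAction G Ω]

/-- `a` is an involution. -/
structure Inv (a : G) : Prop where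
  ne : a ≠ 1
  sq : a * a = 1

/-- Every involution fixes exactly one point. -/
structure SE (G : Type u) (Ω : Type v) [Group G] [MulAction G Ω] : Prop where
  uniq : ∀ {a : G}, Inv a → ∀ {α β : Ω}, a • α = α → a • β = β → α = β
  ex : ∀ {a : G}, Inv a → ∃ α : Ω, a • α = α

/-- The standing hypothesis: abelian Sylow 2-subgroups, solvable point stabilizers. -/
structure Hyp (G : Type u) (Ω : Type v) [Group G] [MulAction G Ω] : Prop extends SE G Ω where
  ab : ∀ P : Subgroup G, IsPGroup 2 P → IsMulCommutative P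
  sol : ∀ α : Ω, Group.IsSolvable (stabilizer G α)

/-- The points fixed by some involution of `N`. -/
def Fx (Ω : Type v) [MulAction G Ω] (N : Subgroup G) : Set Ω :=
  {α | ∃ a ∈ N, Inv a ∧ a • α = α}

/-- `N` contains a four-group. -/
def Rk2 (N : Subgroup G) : Prop :=
  ∃ a ∈ N, ∃ b ∈ N, Inv a ∧ Inv b ∧ a ≠ b ∧ a * b = b * a

/-- What the induction gives for a subgroup `N`: it acts on `Fx Ω N` like an extension of
`SL₂(2^k)`. -/
structure BT (Ω : Type v) [MulAction G Ω] (N : Subgroup G) : Prop where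
  reg : ∀ {α β γ : Ω}, α ∈ Fx Ω N → β ∈ Fx Ω N → γ ∈ Fx Ω N → β ≠ α → γ ≠ α → β ≠ γ →
    ∃ a ∈ N, Inv a ∧ a • α = α ∧ a • β = γ
  comm : ∀ a ∈ N, ∀ b ∈ N, Inv a → Inv b → ∀ α : Ω, a • α = α → b • α = α →
    ∀ δ ∈ Fx Ω N, a • b • δ = b • a • δ
  odd : ∀ Y : Subgroup G, Y ≤ N → Odd 𝐨(Y) → ∃ c ∈ N, Inv c ∧
    ∀ y ∈ Y, c * y * c = y⁻¹ → ∀ δ ∈ Fx Ω N, y • δ = δ

/-- The simple group of the induction step. -/
structure Min (G : Type u) (Ω : Type v) [Group G] [MulAction G Ω] : Prop extends Hyp G Ω where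
  simple : IsSimpleGroup G
  rk2 : Rk2 (⊤ : Subgroup G)
  two : Nontrivial Ω
  all : ∀ α : Ω, ∃ a : G, Inv a ∧ a • α = α
  ih : ∀ N : Subgroup G, N ≠ ⊤ → Rk2 N → (Fx Ω N).Nontrivial → BT Ω N

/-- No element of order `r` of a point stabilizer is inverted by an involution of it. -/
def NW (G : Type u) (Ω : Type v) [Group G] [MulAction G Ω] (r : ℕ) : Prop :=
  ∀ (x a : G) (α : Ω), orderOf x = r → Inv a → a • α = α → x • α = α → a * x * a ≠ x⁻¹

/-- The involutions of a point stabilizer commute. -/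
def IComm (G : Type u) (Ω : Type v) [Group G] [MulAction G Ω] : Prop :=
  ∀ (a b : G) (α : Ω), Inv a → Inv b → a • α = α → b • α = α → a * b = b * a

/-- The involutions fixing `α`. -/
def Iv (G : Type u) [Group G] [MulAction G Ω] (α : Ω) : Set G := {a | Inv a ∧ a • α = α}

/-- The involutions swapping `α` and `β`. -/
def Jv (G : Type u) [Group G] [MulAction G Ω] (α β : Ω) : Set G := {a | Inv a ∧ a • α = β}

/-- The two point stabilizer. -/
abbrev St2 (G : Type u) [Group G] [MulAction G Ω] (α β : Ω) : Subgroup G :=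
  stabilizer G α ⊓ stabilizer G β

theorem mem_St2 {α β : Ω} {g : G} : g ∈ St2 G α β ↔ g • α = α ∧ g • β = β := Iff.rfl

theorem St2_comm (α β : Ω) : St2 G α β = St2 G β α := inf_comm _ _

namespace Inv

variable {a : G}

theorem inv_eq (h : Inv a) : a⁻¹ = a := L.inv_eq_self_of_mul_self h.sq

theorem smul_smul (h : Inv a) (α : Ω) : a • a • α = α := by
  rw [← mul_smul, h.sq, one_smul]

theorem smul_eq (h : Inv a) {α β : Ω} (e : a • α = β) : a • β = α := by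
  rw [← e, h.smul_smul]

theorem conj (h : Inv a) (g : G) : Inv (g * a * g⁻¹) :=
  ⟨fun e => h.ne (by simpa using e), by
    calc g * a * g⁻¹ * (g * a * g⁻¹) = g * (a * a) * g⁻¹ := by group
      _ = 1 := by rw [h.sq]; group⟩

theorem conj' (h : Inv a) (g : G) : Inv (g⁻¹ * a * g) := by simpa using h.conj g⁻¹

theorem conj_inv (h : Inv a) {v : G} (hv : Inv v) : Inv (v * a * v) := by
  simpa [hv.inv_eq] using h.conj v

theorem orderOf_eq (h : Inv a) : orderOf a = 2 :=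
  orderOf_eq_prime (by rw [pow_two, h.sq]) h.ne

theorem mul_cancel_left (h : Inv a) (x : G) : a * (a * x) = x := by
  rw [← mul_assoc, h.sq, one_mul]

theorem mul_cancel_right (h : Inv a) (x : G) : x * a * a = x := by
  rw [mul_assoc, h.sq, mul_one]

theorem card_zpowers (h : Inv a) : 𝐨(zpowers a) = 2 := by
  rw [Nat.card_zpowers, h.orderOf_eq]

theorem isPGroup (h : Inv a) : IsPGroup 2 (zpowers a) := isPGroup_of_card_prime h.card_zpowers

theorem not_mem_of_odd [Finite G] (h : Inv a) {X : Subgroup G} (hX : Odd 𝐨(X)) : a ∉ X :=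
  fun ha => h.ne (L.eq_one_of_sq_of_odd hX ha h.sq)

theorem mul (h : Inv a) {b : G} (hb : Inv b) (hne : a ≠ b) (hc : a * b = b * a) : Inv (a * b) :=
  ⟨fun e => hne (by rw [eq_inv_of_mul_eq_one_left e, hb.inv_eq]), by
    calc a * b * (a * b) = a * (b * a) * b := by group
      _ = a * (a * b) * b := by rw [hc]
      _ = 1 := by rw [h.mul_cancel_left, hb.sq]⟩

theorem coprime (h : Inv a) {X : Subgroup G} (hX : Odd 𝐨(X)) : 𝐨(zpowers a).Coprime 𝐨(X) := by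
  rw [h.card_zpowers]; exact Nat.coprime_two_left.2 hX

theorem solv (a : G) : Group.IsSolvable (zpowers a) :=
  H1.isSolvable_of_isMulCommutative (isMulComm_of_isCyclic (isCyclic_iff_zpowers.2 ⟨a, rfl⟩))

end Inv

theorem inv_of_orderOf {a : G} (h : orderOf a = 2) : Inv a :=
  ⟨fun e => by simp [e] at h, by rw [← pow_two, ← h, pow_orderOf_eq_one]⟩

theorem exists_inv_of_even [Finite G] {X : Subgroup G} (h : ¬ Odd 𝐨(X)) : ∃ a ∈ X, Inv a := by
  obtain ⟨a, ha, h2⟩ := exists_mem_orderOf_eq_prime Nat.prime_two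
    (even_iff_two_dvd.1 (Nat.not_odd_iff_even.1 h))
  exact ⟨a, ha, inv_of_orderOf h2⟩

theorem odd_of_no_inv [Finite G] {X : Subgroup G} (h : ∀ a ∈ X, ¬ Inv a) : Odd 𝐨(X) := by
  by_contra hn
  obtain ⟨a, ha, hi⟩ := exists_inv_of_even hn
  exact h a ha hi

theorem odd_of_le {X Y : Subgroup G} (h : X ≤ Y) (hY : Odd 𝐨(Y)) : Odd 𝐨(X) :=
  hY.of_dvd_nat (FT.card_dvd_of_le h)

theorem odd_orderOf_of_mem {X : Subgroup G} (hX : Odd 𝐨(X)) {x : G} (hx : x ∈ X) :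
    Odd (orderOf x) := hX.of_dvd_nat (orderOf_dvd_card_of_mem hx)

theorem odd_of_isPGroup [Finite G] {r : ℕ} (hr : r.Prime) (h2 : r ≠ 2) {X : Subgroup G}
    (hX : IsPGroup r X) : Odd 𝐨(X) := by
  obtain ⟨n, hn⟩ := exists_card_eq_pow hr hX
  rw [hn]; exact (hr.odd_of_ne_two h2).pow

theorem eq_one_of_eq_inv {x : G} (ho : Odd (orderOf x)) (h : x = x⁻¹) : x = 1 := by
  have h2 : orderOf x ∣ 2 := orderOf_dvd_of_pow_eq_one (by
    rw [pow_two]; nth_rewrite 2 [h]; exact mul_inv_cancel x)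
  rcases (Nat.dvd_prime Nat.prime_two).1 h2 with h1 | h1
  · exact orderOf_eq_one_iff.1 h1
  · rw [h1] at ho; exact absurd ho (by decide)

/-- An element of odd order lies in every subgroup containing its square. -/
theorem mem_of_sq_mem {x : G} (ho : Odd (orderOf x)) {N : Subgroup G} (h : x * x ∈ N) : x ∈ N :=
  H8.mem_of_pow_mem_of_coprime (n := 2) (Nat.coprime_two_right.2 ho) (by rwa [pow_two])

/-- An element of odd order cannot swap two different points. -/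
theorem eq_of_swap_of_odd {β : Type*} [MulAction G β] {g : G} (ho : Odd (orderOf g)) {x y : β}
    (h1 : g • x = y) (h2 : g • y = x) : x = y := by
  have : g ∈ stabilizer G x := mem_of_sq_mem ho (by rw [mem_stabilizer_iff, mul_smul, h1, h2])
  rw [← h1]; exact (mem_stabilizer_iff.1 this).symm

theorem inverts_pow {a x : G} (ha : a * a = 1) (h : a * x * a = x⁻¹) (n : ℕ) :
    a * x ^ n * a = (x ^ n)⁻¹ := by
  have h1 : a⁻¹ = a := L.inv_eq_self_of_mul_self ha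
  have : a * x ^ n * a⁻¹ = (a * x * a⁻¹) ^ n := (conj_pow).symm
  rw [h1] at this
  rw [this, h, inv_pow]

theorem inverts_of_mem_zpowers [Finite G] {a x y : G} (ha : a * a = 1) (h : a * x * a = x⁻¹)
    (hy : y ∈ zpowers x) : a * y * a = y⁻¹ := by
  obtain ⟨n, rfl⟩ := mem_powers_iff_mem_zpowers.2 hy
  exact inverts_pow ha h n

/-- The element `x⁻¹ x^a` is inverted by `a`. -/
theorem inverts_comm {a : G} (ha : a * a = 1) (x : G) :
    a * (x⁻¹ * (a * x * a)) * a = (x⁻¹ * (a * x * a))⁻¹ := by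
  have h1 : a⁻¹ = a := L.inv_eq_self_of_mul_self ha
  simp only [mul_inv_rev, h1, inv_inv]
  calc a * (x⁻¹ * (a * x * a)) * a = a * x⁻¹ * a * x * (a * a) := by group
    _ = a * (x⁻¹ * a) * x := by rw [ha]; group

/-- An involution normalizing `X` and not centralizing it inverts a nontrivial element. -/
theorem exists_inverted {a : G} (ha : a * a = 1) {X : Subgroup G} (hn : a ∈ 𝐍(X))
    (hc : a ∉ 𝐂(X)) : ∃ x ∈ X, x ≠ 1 ∧ a * x * a = x⁻¹ := by
  have h1 : a⁻¹ = a := L.inv_eq_self_of_mul_self ha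
  rw [mem_cent] at hc
  push Not at hc
  obtain ⟨y, hy, hne⟩ := hc
  refine ⟨y⁻¹ * (a * y * a), mul_mem (inv_mem hy) ?_, fun e => hne ?_, inverts_comm ha y⟩
  · have := (mem_normalizer_iff.1 hn y).1 hy
    rwa [h1] at this
  · have e2 : y = a * y * a := by rw [← inv_mul_eq_one, e]
    calc y * a = a * y * a * a := by rw [← e2]
      _ = a * y := by rw [mul_assoc, ha, mul_one]

theorem exists_prime_pow_mem [Finite G] {x : G} (h : x ≠ 1) :
    ∃ y ∈ zpowers x, (orderOf y).Prime := by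
  obtain ⟨p, hp, hd⟩ := exists_prime_dvd_card (H := zpowers x) (by simpa using h)
  obtain ⟨y, hy, ho⟩ := exists_mem_orderOf_eq_prime hp hd
  exact ⟨y, hy, ho ▸ hp⟩

theorem orderOf_eq_of_prime_of_mem [Finite G] {r : ℕ} (hr : r.Prime) {X : Subgroup G}
    (hX : IsPGroup r X) {y : G} (hy : y ∈ X) (hp : (orderOf y).Prime) : orderOf y = r :=
  eq_of_prime_dvd_card_of_isPGroup hr hp hX (orderOf_dvd_card_of_mem hy)

theorem NW.eq_one [Finite G] {r : ℕ} (hr : r.Prime) (h : NW G Ω r) {X : Subgroup G}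
    (hX : IsPGroup r X) {x a : G} {α : Ω} (hx : x ∈ X) (ha : Inv a) (h1 : a • α = α)
    (h2 : x • α = α) (hi : a * x * a = x⁻¹) : x = 1 := by
  by_contra hne
  obtain ⟨y, hy, hp⟩ := exists_prime_pow_mem hne
  have hyX : y ∈ X := (zpowers_le.2 hx) hy
  exact h y a α (orderOf_eq_of_prime_of_mem hr hX hyX hp) ha h1
    ((zpowers_le.2 (mem_stabilizer_iff.2 h2) : zpowers x ≤ stabilizer G α) hy)
    (inverts_of_mem_zpowers ha.sq hi hy)

/-- Under `NW r`, an involution fixing `α` and normalizing an `r`-subgroup fixing `α`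
centralizes it. -/
theorem NW.mem_cent [Finite G] {r : ℕ} (hr : r.Prime) (h : NW G Ω r) {X : Subgroup G}
    (hX : IsPGroup r X) {a : G} {α : Ω} (hXα : X ≤ stabilizer G α) (ha : Inv a) (h1 : a • α = α)
    (hn : a ∈ 𝐍(X)) : a ∈ 𝐂(X) := by
  by_contra hc
  obtain ⟨x, hx, hne, hi⟩ := exists_inverted ha.sq hn hc
  exact hne (h.eq_one hr hX hx ha h1 (hXα hx) hi)

theorem IComm.nw (h : IComm G Ω) {r : ℕ} (hr : r.Prime) (h2 : r ≠ 2) : NW G Ω r := by
  intro x a α hx ha h1 h3 hi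
  have hb : Inv (x * a * x⁻¹) := ha.conj x
  have hc := h a (x * a * x⁻¹) α ha hb h1 (by
    rw [mul_smul, mul_smul, inv_smul_eq_iff.2 h3.symm, h1, h3])
  have e1 : a * (x * a * x⁻¹) = x⁻¹ * x⁻¹ := by
    calc a * (x * a * x⁻¹) = (a * x * a) * x⁻¹ := by group
      _ = _ := by rw [hi]
  have e2 : x * a * x⁻¹ * a = x * x := by
    have : a * x⁻¹ * a = x := by
      have := congrArg (·⁻¹) hi
      simp only [mul_inv_rev, ha.inv_eq, inv_inv] at this
      rw [mul_assoc, this]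
    calc x * a * x⁻¹ * a = x * (a * x⁻¹ * a) := by group
      _ = _ := by rw [this]
  have ho : Odd (orderOf x) := hx ▸ hr.odd_of_ne_two h2
  have h4 : x * x = (x * x)⁻¹ := by rw [mul_inv_rev, ← e1, hc, e2]
  have h5 : x * x = 1 := eq_one_of_eq_inv (by
    rw [← pow_two]; exact ho.of_dvd_nat (orderOf_pow_dvd 2)) h4
  have h6 : x = 1 := eq_one_of_eq_inv ho (eq_inv_of_mul_eq_one_left h5)
  rw [h6, orderOf_one] at hx
  exact hr.one_lt.ne hx

/-! ### Counting tools -/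

/-- `G` with the conjugation action. -/
def Cj (G : Type u) : Type u := G

instance : MulAction G (Cj G) where
  smul (g : G) (x : G) := g * x * g⁻¹
  one_smul (x : G) := show 1 * x * 1⁻¹ = x by simp
  mul_smul (g h : G) (x : G) := show g * h * x * (g * h)⁻¹ = g * (h * x * h⁻¹) * g⁻¹ by group

theorem ncard_orbit {β : Type*} [MulAction G β] (Y : Subgroup G) (b : β) :
    {c | ∃ y ∈ Y, y • b = c}.ncard = (stabilizer G b).relIndex Y := by
  have h := MulAction.index_stabilizer Y b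
  have e1 : stabilizer Y b = (stabilizer G b).subgroupOf Y := by
    ext y; rfl
  have e2 : orbit Y b = {c | ∃ y ∈ Y, y • b = c} := by
    ext c
    exact ⟨fun ⟨y, hy⟩ => ⟨y, y.2, hy⟩, fun ⟨y, hy, e⟩ => ⟨⟨y, hy⟩, e⟩⟩
  rw [e1, e2] at h
  exact h.symm

theorem ncard_class (Y : Subgroup G) (b : G) :
    {c | ∃ y ∈ Y, y * b * y⁻¹ = c}.ncard = 𝐂[b].relIndex Y := by
  have h := ncard_orbit (β := Cj G) Y b
  have e : stabilizer G (show Cj G from b) = 𝐂[b] := by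
    ext g; rw [mem_cent1_iff_conj]; rfl
  rw [e] at h
  exact h

theorem ncard_modEq_fixed {β : Type*} [MulAction G β] {p : ℕ} (hp : p.Prime) {P : Subgroup G}
    (hP : IsPGroup p P) {S : Set β} (hS : S.Finite) (hi : ∀ x ∈ P, ∀ s ∈ S, x • s ∈ S) :
    S.ncard ≡ {s ∈ S | ∀ x ∈ P, x • s = s}.ncard [MOD p] := by
  have := Fact.mk hp
  have := hS.to_subtype
  let act : MulAction P S :=
    { smul := fun x s => ⟨(x : G) • (s : β), hi x x.2 s s.2⟩
      one_smul := fun s => Subtype.ext (one_smul G (s : β))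
      mul_smul := fun x y s => Subtype.ext (mul_smul (x : G) (y : G) (s : β)) }
  have h := hP.card_modEq_card_fixedPoints S
  have e : (Subtype.val '' fixedPoints P S) = {s ∈ S | ∀ x ∈ P, x • s = s} := by
    ext s
    constructor
    · rintro ⟨t, ht, rfl⟩
      exact ⟨t.2, fun x hx => congrArg Subtype.val (ht ⟨x, hx⟩)⟩
    · rintro ⟨h1, h2⟩
      exact ⟨⟨s, h1⟩, fun x => Subtype.ext (h2 x x.2), rfl⟩
  rw [← e, Set.ncard_image_of_injective _ Subtype.val_injective, ← Nat.card_coe_set_eq,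
    ← Nat.card_coe_set_eq]
  exact h

theorem exists_fixed_of_not_dvd {β : Type*} [MulAction G β] {p : ℕ} (hp : p.Prime)
    {P : Subgroup G} (hP : IsPGroup p P) {S : Set β} (hS : S.Finite)
    (hi : ∀ x ∈ P, ∀ s ∈ S, x • s ∈ S) (h : ¬ p ∣ S.ncard) : ∃ s ∈ S, ∀ x ∈ P, x • s = s := by
  by_contra hn
  have e : {s ∈ S | ∀ x ∈ P, x • s = s} = ∅ :=
    Set.eq_empty_of_forall_notMem fun s hs => hn ⟨s, hs.1, hs.2⟩
  have := ncard_modEq_fixed hp hP hS hi
  rw [e, Set.ncard_empty] at this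
  exact h ((Nat.modEq_zero_iff_dvd).1 this)

theorem ncard_modEq_cent [Finite G] {p : ℕ} (hp : p.Prime) {P : Subgroup G}
    (hP : IsPGroup p P) {S : Set G} (hi : ∀ x ∈ P, ∀ s ∈ S, x * s * x⁻¹ ∈ S) :
    S.ncard ≡ {s ∈ S | s ∈ 𝐂(P)}.ncard [MOD p] := by
  have h := ncard_modEq_fixed (β := Cj G) hp hP (S := S) (Set.toFinite (α := G) S) hi
  have e : {s ∈ S | s ∈ 𝐂(P)} = {s ∈ S | ∀ x ∈ P, x * s * x⁻¹ = s} := by
    ext s
    simp only [Set.mem_ofPred_eq, mem_cent, mul_inv_eq_iff_eq_mul]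
  rw [e]
  exact h

theorem exists_cent_of_not_dvd [Finite G] {p : ℕ} (hp : p.Prime) {P : Subgroup G}
    (hP : IsPGroup p P) {S : Set G} (hi : ∀ x ∈ P, ∀ s ∈ S, x * s * x⁻¹ ∈ S)
    (h : ¬ p ∣ S.ncard) : ∃ s ∈ S, s ∈ 𝐂(P) := by
  obtain ⟨s, hs, h2⟩ := exists_fixed_of_not_dvd (β := Cj G) hp hP (S := S)
    (Set.toFinite (α := G) S) hi h
  exact ⟨s, hs, mem_cent.2 fun x hx => mul_inv_eq_iff_eq_mul.1 (h2 x hx)⟩

theorem stabilizer_smul' (g : G) (α : Ω) : stabilizer G (g • α) = stabilizer G α ^ᵍ g := by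
  ext x
  rw [mem_conj, mem_stabilizer_iff, mem_stabilizer_iff, mul_smul, mul_smul, inv_smul_eq_iff]

theorem St2_smul (g : G) (α β : Ω) : St2 G (g • α) (g • β) = St2 G α β ^ᵍ g := by
  rw [conj_inf, St2, stabilizer_smul', stabilizer_smul']

theorem conj_smul_smul (g x : G) (α : Ω) : (g * x * g⁻¹) • g • α = g • x • α := by
  rw [mul_smul, mul_smul, inv_smul_smul]

theorem conj_fix {g x : G} {α : Ω} (h : x • α = α) : (g * x * g⁻¹) • g • α = g • α := by
  rw [conj_smul_smul, h]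

theorem conj_fix' {g x : G} {α : Ω} (h : x • α = α) (hg : g • α = α) :
    (g * x * g⁻¹) • α = α := by
  have := conj_fix (g := g) h
  rwa [hg] at this

/-- The normalizer of `X` permutes the fixed points of `X`. -/
theorem le_stab_smul {X : Subgroup G} {g : G} (hg : g ∈ 𝐍(X)) {α : Ω}
    (h : X ≤ stabilizer G α) : X ≤ stabilizer G (g • α) := by
  rw [stabilizer_smul', ← conj_eq_of_mem_norm hg]
  exact conj_mono h g

theorem smul_mem_Fx {N : Subgroup G} {g : G} (hg : g ∈ 𝐍(N)) {α : Ω} (h : α ∈ Fx Ω N) :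
    g • α ∈ Fx Ω N := by
  obtain ⟨a, ha, hi, e⟩ := h
  exact ⟨_, (mem_normalizer_iff.1 hg a).1 ha, hi.conj g, conj_fix e⟩

theorem smul_mem_Fx' {N : Subgroup G} {g : G} (hg : g ∈ N) {α : Ω} (h : α ∈ Fx Ω N) :
    g • α ∈ Fx Ω N := smul_mem_Fx (le_norm_self N hg) h

theorem Fx_mono {N M : Subgroup G} (h : N ≤ M) : Fx Ω N ⊆ Fx Ω M :=
  fun _ ⟨a, ha, h2⟩ => ⟨a, h ha, h2⟩

theorem Rk2.mono {N M : Subgroup G} (h : Rk2 N) (hl : N ≤ M) : Rk2 M := by
  obtain ⟨a, ha, b, hb, h⟩ := h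
  exact ⟨a, hl ha, b, hl hb, h⟩

theorem Rk2.conj {N : Subgroup G} (h : Rk2 N) (g : G) : Rk2 (N ^ᵍ g) := by
  obtain ⟨a, ha, b, hb, h1, h2, h3, h4⟩ := h
  refine ⟨_, conj_mem_conj ha g, _, conj_mem_conj hb g, h1.conj g, h2.conj g,
    fun e => h3 (by simpa using e), ?_⟩
  calc g * a * g⁻¹ * (g * b * g⁻¹) = g * (a * b) * g⁻¹ := by group
    _ = g * (b * a) * g⁻¹ := by rw [h4]
    _ = _ := by group

/-- Without four-groups, two involutions have a product of odd order. -/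
theorem odd_mul_of_not_rk2 [Finite G] {N : Subgroup G} (h : ¬ Rk2 N) {a b : G} (ha : a ∈ N)
    (hb : b ∈ N) (h1 : Inv a) (h2 : Inv b) : Odd (orderOf (a * b)) := by
  by_contra hn
  obtain ⟨k, k1, k2, k3, k4⟩ :=
    L.exists_invol_commute_of_even h1.sq h2.sq (Nat.not_odd_iff_even.1 hn)
  have hz : (a * b) ^ k ∈ N := pow_mem (mul_mem ha hb) k
  by_cases e : (a * b) ^ k = a
  · by_cases e' : a = b
    · rw [e', h2.sq, one_pow] at k1; exact k1 rfl
    · exact h ⟨a, ha, b, hb, h1, h2, e', by rw [e] at k4; exact k4⟩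
  · exact h ⟨_, hz, a, ha, ⟨k1, k2⟩, h1, e, k3⟩

/-- Two involutions with a product of odd order are conjugate by a power of the product. -/
theorem exists_conj_of_odd {a b : G} (h1 : Inv a) (h2 : Inv b) (ho : Odd (orderOf (a * b))) :
    ∃ y ∈ zpowers (a * b), y * a * y⁻¹ = b := by
  obtain ⟨k, k1, k2⟩ := L.exists_invol_conj_of_odd h1.sq h2.sq ho
  refine ⟨((a * b) ^ k)⁻¹, inv_mem (pow_mem (mem_zpowers _) k), ?_⟩
  have h3 := L.invol_conj_pow h1.sq h2.sq k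
  generalize (a * b) ^ k = z at *
  rw [← h3, ← k2]
  simp only [mul_inv_rev, h1.inv_eq]
  have h4 : a * z⁻¹ * a = z := by rw [← h3, ← mul_assoc, ← mul_assoc, h1.sq, one_mul,
    h1.mul_cancel_right]
  calc a * z * a * a * (a * (z⁻¹ * a)) = a * z * (a * a) * (a * z⁻¹ * a) := by group
    _ = a * z * z := by rw [h1.sq, h4, mul_one]
    _ = a * z * (a * a) * z := by rw [h1.sq, mul_one]
    _ = _ := by group

namespace SE

variable [Finite G] (h : SE G Ω)
include h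

theorem subgroup (N : Subgroup G) : SE N Ω :=
  ⟨fun {a} ha => h.uniq (a := a) ⟨fun e => ha.ne (Subtype.ext e), congrArg Subtype.val ha.sq⟩,
   fun {a} ha => h.ex (a := a) ⟨fun e => ha.ne (Subtype.ext e), congrArg Subtype.val ha.sq⟩⟩

theorem odd_St2 {α β : Ω} (hne : α ≠ β) : Odd 𝐨(St2 G α β) :=
  odd_of_no_inv fun _ ha hi => hne (h.uniq hi ha.1 ha.2)

theorem fix_of_commute {a g : G} {α : Ω} (ha : Inv a) (e : a • α = α) (hc : a * g = g * a) :
    g • α = α :=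
  h.uniq ha (by rw [← mul_smul, hc, mul_smul, e]) e

theorem cent1_le {a : G} {α : Ω} (ha : Inv a) (e : a • α = α) : 𝐂[a] ≤ stabilizer G α :=
  fun _ hg => h.fix_of_commute ha e (mem_cent1.1 hg)

/-- `F₁(X) ⊆ F(X)`. -/
theorem le_stab_of_mem_Fx {X : Subgroup G} {α : Ω} (hα : α ∈ Fx Ω 𝐂(X)) :
    X ≤ stabilizer G α := by
  obtain ⟨a, ha, hi, e⟩ := hα
  exact fun x hx => h.fix_of_commute hi e (mem_cent.1 ha x hx).symm

theorem smul_eq_of_conj {a g : G} {α β : Ω} (ha : Inv a) (e : a • α = α)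
    (e' : (g * a * g⁻¹) • β = β) : g • α = β :=
  h.uniq (ha.conj g) (conj_fix e) e'

theorem odd_mul {a b : G} {α β : Ω} (ha : Inv a) (hb : Inv b) (ea : a • α = α) (eb : b • β = β)
    (hne : α ≠ β) : Odd (orderOf (a * b)) := by
  by_contra hn
  obtain ⟨k, k1, k2, k3, k4⟩ :=
    L.exists_invol_commute_of_even ha.sq hb.sq (Nat.not_odd_iff_even.1 hn)
  exact hne (h.uniq ⟨k1, k2⟩ (h.fix_of_commute ha ea k3.symm) (h.fix_of_commute hb eb k4.symm))

theorem exists_swap {a b : G} {α β : Ω} (ha : Inv a) (hb : Inv b) (ea : a • α = α)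
    (eb : b • β = β) (hne : α ≠ β) : ∃ v : G, Inv v ∧ v * a * v = b ∧ v • α = β ∧
      ∀ N : Subgroup G, a ∈ N → b ∈ N → v ∈ N := by
  obtain ⟨k, k1, k2⟩ := L.exists_invol_conj_of_odd ha.sq hb.sq (h.odd_mul ha hb ea eb hne)
  have hv : Inv (a * (a * b) ^ k) := ⟨fun e => by
    rw [e, one_mul, mul_one] at k2
    exact hne (h.uniq ha ea (k2 ▸ eb)), k1⟩
  refine ⟨_, hv, k2, h.smul_eq_of_conj ha ea (by rw [hv.inv_eq, k2, eb]),
    fun N h1 h2 => mul_mem h1 (pow_mem (mul_mem h1 h2) k)⟩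

/-- The Latin square property. -/
theorem swap_unique {a v w : G} {α β : Ω} (ha : Inv a) (ea : a • α = α) (hne : α ≠ β)
    (hv : Inv v) (ev : v • α = β) (hw : Inv w) (ew : w • α = β) (e : v * a * v = w * a * w) :
    v = w := by
  have hb : Inv (v * a * v) := ha.conj_inv hv
  have eb : (v * a * v) • β = β := by rw [mul_smul, mul_smul, hv.smul_eq ev, ea, ev]
  obtain ⟨z, hz, z1, z2, z3⟩ := h.exists_swap ha hb ea eb hne
  have key : ∀ t : G, Inv t → t • α = β → t * a * t = z * a * z → t = z := by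
    intro t ht et e2
    have d1 : t * z ∈ St2 G α β :=
      ⟨show (t * z) • α = α by rw [mul_smul, z2, ht.smul_eq et],
       show (t * z) • β = β by rw [mul_smul, hz.smul_eq z2, et]⟩
    have c1 : a ∈ 𝐂[t * z] := mem_cent1.2 (by
      calc t * z * a = t * (z * a * z) * z := by
            rw [mul_assoc t (z * a * z), hz.mul_cancel_right, mul_assoc]
        _ = t * (t * a * t) * z := by rw [e2]
        _ = a * (t * z) := by rw [← mul_assoc, ← mul_assoc, ht.sq, one_mul, mul_assoc])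
    have c2 : v * a * v ∈ 𝐂[t * z] := mem_cent1.2 (by
      rw [← z1]
      calc t * z * (z * a * z) = t * (z * z) * a * z := by group
        _ = t * a * z := by rw [hz.sq, mul_one]
        _ = t * a * t * (t * z) := by rw [mul_assoc (t * a), ht.mul_cancel_left]
        _ = _ := by rw [e2])
    have c3 := mem_cent1.1 (z3 _ c1 c2)
    have d2 : t * z = (t * z)⁻¹ := by
      rw [mul_inv_rev, hz.inv_eq, ht.inv_eq]
      calc t * z = z * (z * (t * z)) := (hz.mul_cancel_left _).symm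
        _ = z * (t * z * z) := by rw [c3]
        _ = z * t := by rw [hz.mul_cancel_right]
    have d3 := eq_one_of_eq_inv (odd_orderOf_of_mem (h.odd_St2 hne) d1) d2
    rw [eq_inv_of_mul_eq_one_left d3, hz.inv_eq]
  rw [key v hv ev z1.symm, key w hw ew (e.symm.trans z1.symm)]

/-- All involutions of `N` are conjugate in `N` once `N` moves the point. -/
theorem exists_conj_St2 {N : Subgroup G} {a a' : G} {α β : Ω} (ha : Inv a) (ha' : Inv a')
    (ea : a • α = α) (ea' : a' • α = α) (hne : α ≠ β) (haN : a ∈ N) (haN' : a' ∈ N)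
    (hβ : β ∈ Fx Ω N) : ∃ d ∈ N ⊓ St2 G α β, d * a * d⁻¹ = a' := by
  obtain ⟨b, hbN, hb, eb⟩ := hβ
  obtain ⟨v, hv, v1, v2, v3⟩ := h.exists_swap ha hb ea eb hne
  obtain ⟨w, hw, w1, w2, w3⟩ := h.exists_swap ha' hb ea' eb hne
  refine ⟨w * v, ⟨mul_mem (w3 N haN' hbN) (v3 N haN hbN), ?_, ?_⟩, ?_⟩
  · show (w * v) • α = α
    rw [mul_smul, v2, hw.smul_eq w2]
  · show (w * v) • β = β
    rw [mul_smul, hv.smul_eq v2, w2]
  · rw [mul_inv_rev, hv.inv_eq, hw.inv_eq]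
    calc w * v * a * (v * w) = w * (v * a * v) * w := by group
      _ = w * (w * a' * w) * w := by rw [v1, w1]
      _ = a' := by rw [mul_assoc w a', hw.mul_cancel_left, hw.mul_cancel_right]

theorem exists_swap_Fx {N : Subgroup G} {α β : Ω} (hα : α ∈ Fx Ω N) (hβ : β ∈ Fx Ω N)
    (hne : α ≠ β) : ∃ v ∈ N, Inv v ∧ v • α = β := by
  obtain ⟨a, haN, ha, ea⟩ := hα
  obtain ⟨b, hbN, hb, eb⟩ := hβ
  obtain ⟨v, hv, -, v2, v3⟩ := h.exists_swap ha hb ea eb hne
  exact ⟨v, v3 N haN hbN, hv, v2⟩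

theorem exists_smul_Fx {N : Subgroup G} {α β : Ω} (hα : α ∈ Fx Ω N) (hβ : β ∈ Fx Ω N) :
    ∃ g ∈ N, g • α = β := by
  by_cases e : α = β
  · exact ⟨1, one_mem N, by rw [one_smul, e]⟩
  · obtain ⟨v, h1, -, h2⟩ := h.exists_swap_Fx hα hβ e
    exact ⟨v, h1, h2⟩

theorem exists_conj {N : Subgroup G} (hN : (Fx Ω N).Nontrivial) {a b : G} (ha : Inv a)
    (hb : Inv b) (haN : a ∈ N) (hbN : b ∈ N) : ∃ g ∈ N, g * a * g⁻¹ = b := by
  obtain ⟨α, ea⟩ := h.ex ha
  obtain ⟨β, eb⟩ := h.ex hb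
  by_cases e : α = β
  · subst e
    obtain ⟨γ, hγ, hne⟩ := hN.exists_ne α
    obtain ⟨d, hd, h1⟩ := h.exists_conj_St2 ha hb ea eb hne.symm haN hbN hγ
    exact ⟨d, hd.1, h1⟩
  · obtain ⟨v, hv, v1, -, v3⟩ := h.exists_swap ha hb ea eb e
    exact ⟨v, v3 N haN hbN, by rw [hv.inv_eq, v1]⟩

/-- For `u ∈ J`, the set `K` of elements of `D` inverted by `u` is sharply transitive on
`I_α`: existence. -/
theorem exists_K {u a a' : G} {α β : Ω} (hu : Inv u) (eu : u • α = β) (hne : α ≠ β)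
    (ha : Inv a) (ha' : Inv a') (ea : a • α = α) (ea' : a' • α = α) :
    ∃ k ∈ St2 G α β, u * k * u = k⁻¹ ∧ k * a * k⁻¹ = a' ∧
      ∀ N : Subgroup G, a ∈ N → a' ∈ N → u ∈ N → k ∈ N := by
  have hb : Inv (u * a' * u) := ha'.conj_inv hu
  have eb : (u * a' * u) • β = β := by rw [mul_smul, mul_smul, hu.smul_eq eu, ea', eu]
  obtain ⟨v, hv, v1, v2, v3⟩ := h.exists_swap ha hb ea eb hne
  refine ⟨u * v, ⟨?_, ?_⟩, ?_, ?_, fun N h1 h2 h3 =>
    mul_mem h3 (v3 N h1 (mul_mem (mul_mem h3 h2) h3))⟩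
  · show (u * v) • α = α
    rw [mul_smul, v2, hu.smul_eq eu]
  · show (u * v) • β = β
    rw [mul_smul, hv.smul_eq v2, eu]
  · rw [hu.mul_cancel_left, mul_inv_rev, hu.inv_eq, hv.inv_eq]
  · rw [mul_inv_rev, hv.inv_eq, hu.inv_eq]
    calc u * v * a * (v * u) = u * (v * a * v) * u := by group
      _ = a' := by rw [v1, mul_assoc u a', hu.mul_cancel_left, hu.mul_cancel_right]

omit h [Finite G] in
theorem inv_mul_K {u k : G} {α β : Ω} (eu : u • α = β) (hne : α ≠ β)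
    (hk : k ∈ St2 G α β) (hi : u * k * u = k⁻¹) : Inv (u * k) ∧ (u * k) • α = β := by
  have e : (u * k) • α = β := by rw [mul_smul, hk.1, eu]
  refine ⟨⟨fun e1 => hne (by rw [← e, e1, one_smul]), ?_⟩, e⟩
  rw [← mul_assoc, hi, inv_mul_cancel]

/-- Uniqueness in `exists_K`. -/
theorem K_unique {u a k l : G} {α β : Ω} (eu : u • α = β) (hne : α ≠ β)
    (ha : Inv a) (ea : a • α = α) (hk : k ∈ St2 G α β) (hki : u * k * u = k⁻¹)
    (hl : l ∈ St2 G α β) (hli : u * l * u = l⁻¹) (e : k * a * k⁻¹ = l * a * l⁻¹) : k = l := by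
  obtain ⟨k1, k2⟩ := inv_mul_K eu hne hk hki
  obtain ⟨l1, l2⟩ := inv_mul_K eu hne hl hli
  refine mul_left_cancel (a := u) (h.swap_unique ha ea hne k1 k2 l1 l2 ?_)
  calc u * k * a * (u * k) = u * k * a * (u * k)⁻¹ := by rw [k1.inv_eq]
    _ = u * (k * a * k⁻¹) * u⁻¹ := by group
    _ = u * l * a * (u * l)⁻¹ := by rw [e]; group
    _ = _ := by rw [l1.inv_eq]

/-- A nontrivial element of `K` centralizes no involution fixing `α`. -/
theorem K_eq_one {u a k : G} {α β : Ω} (hu : Inv u) (eu : u • α = β) (hne : α ≠ β)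
    (ha : Inv a) (ea : a • α = α) (hk : k ∈ St2 G α β) (hki : u * k * u = k⁻¹)
    (hc : k * a = a * k) : k = 1 :=
  h.K_unique eu hne ha ea hk hki (one_mem _) (by simp [hu.sq]) (by rw [hc]; group)

/-- Two involutions swapping `α` and `β` are conjugate under `D`. -/
theorem exists_conj_J {u v : G} {α β : Ω} (hu : Inv u) (eu : u • α = β) (hne : α ≠ β)
    (hv : Inv v) (ev : v • α = β) : ∃ d ∈ zpowers (u * v), d ∈ St2 G α β ∧ d * u * d⁻¹ = v := by
  have d1 : u * v ∈ St2 G α β :=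
    ⟨show (u * v) • α = α by rw [mul_smul, ev, hu.smul_eq eu],
     show (u * v) • β = β by rw [mul_smul, hv.smul_eq ev, eu]⟩
  obtain ⟨y, hy, e⟩ := exists_conj_of_odd hu hv (odd_orderOf_of_mem (h.odd_St2 hne) d1)
  exact ⟨y, hy, (zpowers_le.2 d1) hy, e⟩

theorem ncard_Jv {N : Subgroup G} {u : G} {α β : Ω} (hu : Inv u) (eu : u • α = β) (hne : α ≠ β)
    (huN : u ∈ N) : (Jv G α β ∩ N).ncard = 𝐂[u].relIndex (N ⊓ St2 G α β) := by
  rw [← ncard_class]
  congr 1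
  ext v
  constructor
  · rintro ⟨⟨hv, ev⟩, hvN⟩
    obtain ⟨d, d1, d2, d3⟩ := h.exists_conj_J hu eu hne hv ev
    exact ⟨d, ⟨(zpowers_le.2 (mul_mem huN hvN)) d1, d2⟩, d3⟩
  · rintro ⟨d, ⟨d1, d2⟩, rfl⟩
    refine ⟨⟨hu.conj d, ?_⟩, mul_mem (mul_mem d1 huN) (inv_mem d1)⟩
    have := conj_smul_smul d u α
    rwa [d2.1, eu, d2.2] at this

theorem ncard_Iv {N : Subgroup G} {a : G} {α β : Ω} (ha : Inv a) (ea : a • α = α) (hne : α ≠ β)
    (haN : a ∈ N) (hβ : β ∈ Fx Ω N) :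
    (Iv G α ∩ N).ncard = 𝐂[a].relIndex (N ⊓ St2 G α β) := by
  rw [← ncard_class]
  congr 1
  ext v
  constructor
  · rintro ⟨⟨hv, ev⟩, hvN⟩
    exact h.exists_conj_St2 ha hv ea ev hne haN hvN hβ
  · rintro ⟨d, ⟨d1, d2⟩, rfl⟩
    exact ⟨⟨ha.conj d, conj_fix' ea d2.1⟩, mul_mem (mul_mem d1 haN) (inv_mem d1)⟩

theorem ncard_Jv_eq_Iv {N : Subgroup G} {α β : Ω} (hne : α ≠ β) (hα : α ∈ Fx Ω N) :
    (Jv G α β ∩ N).ncard = (Iv G β ∩ N).ncard := by
  obtain ⟨a, haN, ha, ea⟩ := hα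
  refine Set.ncard_congr (fun v _ => v * a * v) ?_ ?_ ?_
  · rintro v ⟨⟨hv, ev⟩, hvN⟩
    exact ⟨⟨ha.conj_inv hv, by rw [mul_smul, mul_smul, hv.smul_eq ev, ea, ev]⟩,
      mul_mem (mul_mem hvN haN) hvN⟩
  · rintro v w ⟨⟨hv, ev⟩, -⟩ ⟨⟨hw, ew⟩, -⟩ e
    exact h.swap_unique ha ea hne hv ev hw ew e
  · rintro b ⟨⟨hb, eb⟩, hbN⟩
    obtain ⟨v, hv, v1, v2, v3⟩ := h.exists_swap ha hb ea eb hne
    exact ⟨v, ⟨⟨hv, v2⟩, v3 N haN hbN⟩, v1⟩

omit h [Finite G] in
theorem ncard_Iv_smul (g : G) (α : Ω) : (Iv G (g • α)).ncard = (Iv G α).ncard := by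
  symm
  refine Set.ncard_congr (fun a _ => g * a * g⁻¹) ?_ ?_ ?_
  · rintro a ⟨ha, ea⟩
    exact ⟨ha.conj g, conj_fix ea⟩
  · intro a b _ _ e
    simpa using e
  · rintro b ⟨hb, eb⟩
    refine ⟨g⁻¹ * b * g, ⟨hb.conj' g, ?_⟩, by group⟩
    rw [mul_smul, mul_smul, eb, inv_smul_smul]

/-- A four-group fixing `δ` forces every odd order subgroup it normalizes to fix `δ`. -/
theorem le_stab_of_four {a b : G} {δ : Ω} (ha : Inv a) (hb : Inv b) (hne : a ≠ b)
    (hc : a * b = b * a) (ea : a • δ = δ) {X : Subgroup G} (hX : Odd 𝐨(X)) (h1 : a ∈ 𝐍(X))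
    (h2 : b ∈ 𝐍(X)) : X ≤ stabilizer G δ := by
  have hbc : zpowers b ≤ 𝐂(zpowers a) := by
    rw [cent_zpowers, zpowers_le]; exact mem_cent1.2 hc
  have he : IsElementaryAbelian 2 (zpowers a ⊔ zpowers b) :=
    elemAb_sup (elemAb_zpowers (by rw [pow_two, ha.sq])) (elemAb_zpowers (by rw [pow_two, hb.sq]))
      hbc
  have hcomm : IsMulCommutative ↥(zpowers a ⊔ zpowers b) := he.1
  have hsq : ∀ x ∈ zpowers a ⊔ zpowers b, x * x = 1 := fun x hx => by
    have := congrArg Subtype.val (H1.pow_eq_one_of_isElementaryAbelian he ⟨x, hx⟩)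
    rwa [← pow_two]
  have haV : a ∈ zpowers a ⊔ zpowers b := mem_sup_left (mem_zpowers a)
  have hbV : b ∈ zpowers a ⊔ zpowers b := mem_sup_right (mem_zpowers b)
  refine H1.le_of_forall_centralizer_le hcomm (fun hcy => ?_)
    (sup_le (zpowers_le.2 h1) (zpowers_le.2 h2)) ?_ fun c hc1 hc2 => ?_
  · have := eq_of_card_prime_of_isCyclic Nat.prime_two hcy le_sup_left le_sup_right
      ha.card_zpowers hb.card_zpowers
    have h3 : a ∈ zpowers b := this ▸ mem_zpowers a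
    obtain ⟨n, hn⟩ := mem_powers_iff_mem_zpowers.2 h3
    rcases Nat.even_or_odd' n with ⟨k, rfl | rfl⟩
    · exact ha.ne (by rw [← hn]; simp only [pow_mul, pow_two, hb.sq, one_pow])
    · exact hne (by rw [← hn]; simp only [pow_succ, pow_mul, pow_zero, one_mul, hb.sq, one_pow])
  · obtain ⟨n, hn⟩ := exists_card_eq_pow Nat.prime_two (elemAb_isPGroup he)
    rw [hn]
    exact (Nat.coprime_two_left.2 hX).pow_left n
  · have hci : Inv c := ⟨hc2, hsq c hc1⟩
    have ec : c • δ = δ := h.fix_of_commute ha ea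
      (mem_cent.1 (isMulComm_iff_le_cent.1 hcomm hc1) a haV)
    exact inf_le_right.trans (h.cent1_le hci ec)

/-- Odd order subgroups normalized by a subgroup of rank at least two fix `Fx`. -/
theorem le_stab_of_rk2 {N X : Subgroup G} (hN : Rk2 N) (hX : Odd 𝐨(X)) (hn : N ≤ 𝐍(X)) {δ : Ω}
    (hδ : δ ∈ Fx Ω N) : X ≤ stabilizer G δ := by
  obtain ⟨a, haN, b, hbN, ha, hb, hne, hc⟩ := hN
  obtain ⟨γ, eγ⟩ := h.ex ha
  obtain ⟨g, hg, rfl⟩ := h.exists_smul_Fx ⟨a, haN, ha, eγ⟩ hδ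
  exact le_stab_smul (hn hg) (h.le_stab_of_four ha hb hne hc eγ hX (hn haN) (hn hbN))

theorem rk2_stab {N : Subgroup G} (hN : Rk2 N) {δ : Ω} (hδ : δ ∈ Fx Ω N) :
    Rk2 (N ⊓ stabilizer G δ) := by
  obtain ⟨a, haN, b, hbN, ha, hb, hne, hc⟩ := hN
  obtain ⟨γ, eγ⟩ := h.ex ha
  obtain ⟨g, hg, rfl⟩ := h.exists_smul_Fx ⟨a, haN, ha, eγ⟩ hδ
  have : Rk2 (N ⊓ stabilizer G γ) :=
    ⟨a, ⟨haN, eγ⟩, b, ⟨hbN, h.fix_of_commute ha eγ hc⟩, ha, hb, hne, hc⟩
  have h2 := this.conj g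
  rwa [conj_inf, conj_eq_of_mem hg, ← stabilizer_smul'] at h2

/-- (U0) -/
theorem norm_le_of_inv_of_cent {e a b : G} {δ : Ω} (he : Odd (orderOf e)) (he1 : e ≠ 1)
    (ha : Inv a) (hb : Inv b) (ea : a • δ = δ) (eb : b • δ = δ) (hi : a * e * a = e⁻¹)
    (hc : b * e = e * b) : 𝐍(zpowers e) ≤ stabilizer G δ := by
  intro g hg
  by_contra hne
  have haN : a ∈ 𝐍(zpowers e) := mem_norm_of_conj_le (by
    rw [← zpowers_conj, ha.inv_eq, hi, zpowers_inv])
  have hbC : b ∈ 𝐂(zpowers e) := by rw [cent_zpowers]; exact mem_cent1.2 hc.symm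
  have hbN := cent_le_norm _ hbC
  obtain ⟨d, hd, e1⟩ := h.exists_conj_St2 hb ha eb ea (fun e => hne e.symm) hbN haN
    (smul_mem_Fx' hg ⟨a, haN, ha, ea⟩)
  have h3 : a ∈ 𝐂(zpowers e) :=
    e1 ▸ H1.conj_mem_of_le_normalizer (H1.normalizer_le_normalizer_centralizer _) hd.1 hbC
  have h4 := mem_cent.1 h3 e (mem_zpowers e)
  rw [← h4, ha.mul_cancel_right] at hi
  exact he1 (eq_one_of_eq_inv he hi)

end SE

/-! ### Rank one -/

theorem hasNPC_of_not_rk2 [Finite G] (hab : ∀ P : Subgroup G, IsPGroup 2 P → IsMulCommutative P)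
    {N : Subgroup G} (hN : ¬ Rk2 N) : HasNPC 2 N := by
  obtain ⟨P, hP⟩ := exists_isSyl Nat.prime_two N
  refine cyclic_minFac_npc Nat.prime_two hP ?_ fun q hq _ => hq.two_le
  refine isCyclic_of_comm_of_pRank_le_one Nat.prime_two hP.pgrp (hab P hP.pgrp) ?_
  by_contra hr
  obtain ⟨A, hA, hE⟩ := (le_pRank_iff (n := 2) Nat.prime_two).1 (by omega : 2 ≤ pRank 2 P)
  have hsq : ∀ x ∈ A, x * x = 1 := fun x hx => by
    have := congrArg Subtype.val (H1.pow_eq_one_of_isElementaryAbelian hE.elemAb ⟨x, hx⟩)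
    rwa [← pow_two]
  obtain ⟨a, ha, ha1⟩ := (A.bot_or_exists_ne_one).resolve_left (hE.ne_bot Nat.prime_two (by decide))
  have : ¬ A ≤ zpowers a := fun hle =>
    hE.not_isCyclic Nat.prime_two le_rfl (isCyclic_of_le hle (isCyclic_iff_zpowers.2 ⟨a, rfl⟩))
  obtain ⟨b, hb, hba⟩ := SetLike.not_le_iff_exists.1 this
  exact hN ⟨a, hP.le (hA ha), b, hP.le (hA hb), ⟨ha1, hsq a ha⟩,
    ⟨fun e => hba (e ▸ one_mem _), hsq b hb⟩, fun e => hba (e ▸ mem_zpowers a),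
    mem_cent.1 (hE.le_cent hb) a ha⟩

/-- The largest normal subgroup of odd order. -/
abbrev Od (N : Subgroup G) : Subgroup G := H2.pPrimeCoreOf 2 N

theorem odd_Od [Finite G] (N : Subgroup G) : Odd 𝐨(Od N) :=
  Nat.not_even_iff_odd.1 fun h => not_dvd_card_pPrimeCoreOf Nat.prime_two N (even_iff_two_dvd.1 h)

theorem Od_normal [Finite G] (N : Subgroup G) : Od N ⊲ N := pPrimeCoreOf_normal 2 N

theorem le_Od [Finite G] {X N : Subgroup G} (h : X ⊲ N) (ho : Odd 𝐨(X)) : X ≤ Od N :=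
  le_pPrimeCoreOf h (Nat.coprime_two_right.2 ho)

theorem norm_le_norm_Od [Finite G] (N : Subgroup G) : 𝐍(N) ≤ 𝐍(Od N) := by
  rw [Od, pPrimeCoreOf_eq Nat.prime_two]; exact norm_le_norm_piCoreOf _ N

theorem le_Od_of_npc [Finite G] {X N : Subgroup G} (h : HasNPC 2 N) (hX : X ≤ N)
    (ho : Odd 𝐨(X)) : X ≤ Od N :=
  h.le_pPrimeCoreOf Nat.prime_two hX fun h2 =>
    (Nat.not_even_iff_odd.2 ho) (even_iff_two_dvd.2 h2)

theorem mem_Od_of_npc [Finite G] {N : Subgroup G} (h : HasNPC 2 N) {x : G} (hx : x ∈ N)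
    (ho : Odd (orderOf x)) : x ∈ Od N :=
  le_Od_of_npc h (zpowers_le.2 hx) (by rwa [Nat.card_zpowers]) (mem_zpowers x)

/-- An involution normalizing `Y` and acting nontrivially modulo `p` on `Y` inverts a
`p`-element. -/
theorem exists_inverted_of_dvd [Finite G] {p : ℕ} (hp : p.Prime) {Y : Subgroup G}
    (hY : Odd 𝐨(Y)) {c : G} (hc : Inv c) (hn : c ∈ 𝐍(Y)) (hd : p ∣ 𝐂[c].relIndex Y) :
    ∃ x ∈ Y, orderOf x = p ∧ c * x * c = x⁻¹ := by
  obtain ⟨P, hP, -, hPn⟩ := exists_invariant_isSyl hp (zpowers_le.2 hn) (hc.coprime hY)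
    (Or.inl (Inv.solv c)) (IsPGroup.of_bot (p := p)) bot_le (by rw [norm_bot]; exact le_top)
  have hcP : c ∉ 𝐂(P) := fun hcc => by
    have h1 : P ≤ 𝐂[c] ⊓ Y := le_inf (mem_cent_iff_cent1.1 hcc) hP.le
    have h2 := relIndex_dvd_of_le_left Y h1
    rw [inf_relIndex_right] at h2
    exact hP.ndvd (hd.trans h2)
  obtain ⟨x, hx, hx1, hi⟩ := exists_inverted hc.sq (hPn (mem_zpowers c)) hcP
  obtain ⟨y, hy, hyp⟩ := exists_prime_pow_mem hx1
  have hyP : y ∈ P := (zpowers_le.2 hx) hy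
  exact ⟨y, hP.le hyP, orderOf_eq_of_prime_of_mem hp hP.pgrp hyP hyp,
    inverts_of_mem_zpowers hc.sq hi hy⟩

/-- Conversely, an inverted element of order `p` makes `p` divide the index of the centralizer. -/
theorem dvd_of_inverted [Finite G] {p : ℕ} (hp : p.Prime) {Y : Subgroup G}
    (hY : Odd 𝐨(Y)) {c : G} (hc : Inv c) (hn : c ∈ 𝐍(Y)) {x : G} (hx : x ∈ Y)
    (ho : orderOf x = p) (hi : c * x * c = x⁻¹) : p ∣ 𝐂[c].relIndex Y := by
  have := Fact.mk hp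
  have hxN : c ∈ 𝐍(zpowers x) := mem_norm_of_conj_le (by
    rw [← zpowers_conj, hc.inv_eq, hi, zpowers_inv])
  obtain ⟨P, hP, hxP, hPn⟩ := exists_invariant_isSyl hp (zpowers_le.2 hn) (hc.coprime hY)
    (Or.inl (Inv.solv c)) (isPGroup_of_card_prime (X := zpowers x) (by rw [Nat.card_zpowers, ho]))
    (zpowers_le.2 hx) (zpowers_le.2 hxN)
  by_contra hd
  have h1 := H1.not_dvd_relIndex_centralizer_of_invariant_sylow (zpowers_le.2 hn) (hc.coprime hY)
    (Or.inl (Inv.solv c)) hP.le hP.pgrp hP.ndvd hPn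
  rw [cent_zpowers] at h1
  have h2 : IsSyl p (P ⊓ 𝐂[c]) (Y ⊓ 𝐂[c]) :=
    ⟨inf_le_inf_right _ hP.le, hP.pgrp.to_le inf_le_left, h1⟩
  have h3 := h2.trans hp inf_le_left (by rwa [inf_comm, inf_relIndex_right])
  have h4 := h3.eq_of_le hp inf_le_left hP.le hP.pgrp
  have h5 : x ∈ 𝐂[c] := (h4.le (hxP (mem_zpowers x))).2
  have h6 := mem_cent1.1 h5
  rw [h6, hc.mul_cancel_right] at hi
  have h7 := eq_one_of_eq_inv (odd_orderOf_of_mem hY hx) hi
  rw [h7, orderOf_one] at ho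
  exact hp.one_lt.ne ho

theorem NW.not_dvd [Finite G] {r : ℕ} (hr : r.Prime) (h : NW G Ω r) {Y : Subgroup G}
    (hY : Odd 𝐨(Y)) {c : G} {γ : Ω} (hc : Inv c) (ec : c • γ = γ) (hYγ : Y ≤ stabilizer G γ)
    (hn : c ∈ 𝐍(Y)) : ¬ r ∣ 𝐂[c].relIndex Y := fun hd => by
  obtain ⟨x, hx, ho, hi⟩ := exists_inverted_of_dvd hr hY hc hn hd
  exact h x c γ ho hc ec (hYγ hx) hi

/-! ### Consequences of `BT` -/

namespace BT

variable [Finite G] {N : Subgroup G}

/-- Odd order normal subgroups of a point stabilizer of `N` act trivially. -/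
theorem fix_of_normal (h : SE G Ω) (hN : BT Ω N) {γ : Ω} (hγ : γ ∈ Fx Ω N) {X : Subgroup G}
    (hX : Odd 𝐨(X)) (hn : X ⊲ N ⊓ stabilizer G γ) {δ : Ω} (hδ : δ ∈ Fx Ω N) :
    X ≤ stabilizer G δ := by
  intro x hx
  by_contra hne
  have hxγ : x • γ = γ := (hn.1 hx).2
  have h1 : δ ≠ γ := fun e => hne (e ▸ hxγ)
  have h2 : x • δ ≠ γ := fun e => h1 (smul_left_cancel x (e.trans hxγ.symm))
  obtain ⟨a, haN, ha, ea, e2⟩ := hN.reg hγ hδ (smul_mem_Fx' (hn.1 hx).1 hδ) h1 h2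
    (fun e => hne e.symm)
  have d1 : a * x ∈ St2 G γ δ :=
    ⟨show (a * x) • γ = γ by rw [mul_smul, hxγ, ea],
     show (a * x) • δ = δ by rw [mul_smul, ← e2, ha.smul_smul]⟩
  have d2 : a * x ∈ X := mem_of_sq_mem (odd_orderOf_of_mem (h.odd_St2 h1.symm) d1) (by
    have := H1.conj_mem_of_le_normalizer hn.2 (a := a) ⟨haN, ea⟩ hx
    rw [ha.inv_eq] at this
    rw [← mul_assoc]
    exact mul_mem this hx)
  exact ha.not_mem_of_odd hX ((mul_mem_cancel_right hx).1 d2)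

end BT

end Cfsg.Agent.P6
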