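/-
Groups of odd order that are transitive on the nonzero vectors of a space over `𝔽₂`.
-/
import Cfsg.Agent.P6.SE
import Cfsg.Agent.H4.SemiLin2
import Cfsg.Agent.H1.EAMod
import Cfsg.Agent.H1.Semidirect
import Cfsg.Agent.FT.Final

set_option autoImplicit false
set_option linter.unusedSectionVars false

namespace Cfsg.Agent.P6

open Subgroup Cfsg Cfsg.Agent Cfsg.Agent.FT Module H4.SemiLin

theorem card_eq_pow_fixed {K : Type*} [Field K] [Finite K] {R : Type*} [Group R] [Finite R]
    (γ : R →* RingAut K) (hγ : Function.Injective γ) :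
    Nat.card K = Nat.card {c : K // ∀ r, γ r c = c} ^ Nat.card R := by
  let := MulSemiringAction.compHom K γ
  have : FaithfulSMul R K := ⟨fun {a b} h => hγ (RingEquiv.ext h)⟩
  have := Fintype.ofFinite R
  have h1 := FixedPoints.finrank_eq_card R K
  have h2 := Module.natCard_eq_pow_finrank (K := FixedPoints.subfield R K) (V := K)
  rw [h2, h1, Nat.card_eq_fintype_card (α := R)]
  rfl

theorem card_eq_pow_fixed' {K : Type*} [Ring K] [Finite K] (h : IsField K) {R : Type*} [Group R]
    [Finite R] (γ : R →* RingAut K) (hγ : Function.Injective γ) :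
    Nat.card K = Nat.card {c : K // ∀ r, γ r c = c} ^ Nat.card R := by
  let := h.toField
  exact card_eq_pow_fixed (K := K) γ hγ

theorem isCyclic_of_isField {K : Type*} [Ring K] (h : IsField K) {R : Type*} [Group R]
    [Finite R] (f : R →* K) (hf : Function.Injective f) : IsCyclic R := by
  let := h.toField
  exact isCyclic_of_injective_ringHom (R := K) f hf

section Lin

variable {F V : Type*} [Field F] [AddCommGroup V] [Module F V] [Finite V] {E : Type*} [Group E]

/-- Transitivity on nonzero vectors. -/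
def VTrans (ρ : E →* End F V) : Prop := ∀ v w : V, v ≠ 0 → w ≠ 0 → ∃ e : E, ρ e v = w

variable {ρ : E →* End F V}

theorem VTrans.eq_zero (hT : VTrans ρ)
    {B : Subalgebra F (End F V)} (hB : CommNorm ρ B) {b : End F V} (hb : b ∈ B) {v : V}
    (hv : v ≠ 0) (hbv : b v = 0) : b = 0 := by
  have : Finite (End F V) := DFunLike.finite _
  let I : V → Set (End F V) := fun v => {b | b ∈ B ∧ b v = 0}
  have hle : ∀ v w : V, v ≠ 0 → w ≠ 0 → (I v).ncard ≤ (I w).ncard := by
    intro v w hv hw
    obtain ⟨h, rfl⟩ := hT v w hv hw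
    refine Set.ncard_le_ncard_of_injOn (fun b => ρ h * b * ρ h⁻¹) ?_ ?_ (Set.toFinite _)
    · rintro b ⟨h1, h2⟩
      refine ⟨hB.norm h b h1, ?_⟩
      simp only [End.mul_apply, rho_inv_apply, h2, map_zero]
    · intro a _ b _ hab
      ext x
      have := LinearMap.congr_fun hab (ρ h x)
      simp only [End.mul_apply, rho_inv_apply] at this
      rw [← rho_inv_apply ρ h (a x), this, rho_inv_apply]
  have heq : ∀ v w : V, v ≠ 0 → w ≠ 0 → I v ⊆ I w → I v = I w := fun v w hv hw h =>
    Set.eq_of_subset_of_ncard_le h (hle w v hw hv) (Set.toFinite _)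
  have key : ∀ v w : V, v ≠ 0 → w ≠ 0 → I v = I w := by
    intro v w hv hw
    by_cases hu : ∃ u : V, u ≠ 0 ∧ I v ⊆ I u ∧ I w ⊆ I u
    · obtain ⟨u, h0, h1, h2⟩ := hu
      rw [heq v u hv h0 h1, heq w u hw h0 h2]
    · have hvw : v + w ≠ 0 := by
        intro h
        apply hu
        refine ⟨v, hv, subset_rfl, ?_⟩
        rintro c ⟨h1, h2⟩
        refine ⟨h1, ?_⟩
        rw [eq_neg_of_add_eq_zero_left h, map_neg, h2, neg_zero]
      have hsub : ∀ c ∈ I (v + w), c v = 0 ∧ c w = 0 := by
        rintro c ⟨h1, h2⟩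
        rw [map_add] at h2
        have h0 : c v = 0 := by
          by_contra h0
          apply hu
          refine ⟨c v, h0, ?_, ?_⟩
          · rintro d ⟨d1, d2⟩
            refine ⟨d1, ?_⟩
            rw [← End.mul_apply, hB.comm d d1 c h1, End.mul_apply, d2, map_zero]
          · rintro d ⟨d1, d2⟩
            refine ⟨d1, ?_⟩
            rw [eq_neg_of_add_eq_zero_left h2, map_neg, ← End.mul_apply, hB.comm d d1 c h1,
              End.mul_apply, d2, map_zero, neg_zero]
        exact ⟨h0, by rwa [h0, zero_add] at h2⟩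
      rw [← heq (v + w) v hvw hv fun c hc => ⟨hc.1, (hsub c hc).1⟩,
        ← heq (v + w) w hvw hw fun c hc => ⟨hc.1, (hsub c hc).2⟩]
  ext w
  by_cases hw : w = 0
  · simp [hw]
  · have : b ∈ I w := key v w hv hw ▸ ⟨hb, hbv⟩
    exact this.2

theorem VTrans.isField [Nontrivial V] (hT : VTrans ρ) {B : Subalgebra F (End F V)}
    (hB : CommNorm ρ B) : IsField B := by
  have : Finite (End F V) := DFunLike.finite _
  obtain ⟨v0, hv0⟩ := exists_ne (0 : V)
  refine ⟨⟨0, 1, fun h => hv0 ?_⟩, fun a c => Subtype.ext (hB.comm _ a.2 _ c.2), ?_⟩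
  · have := LinearMap.congr_fun (congrArg Subtype.val h) v0
    simpa using this.symm
  · intro a ha
    refine (Finite.injective_iff_surjective (f := fun c : B => a * c)).mp ?_ 1
    intro c d hcd
    have h1 : (c - d) * a = 0 := by
      rw [sub_mul, sub_eq_zero]
      exact Subtype.ext ((hB.comm _ c.2 _ a.2).trans ((congrArg Subtype.val hcd).trans
        (hB.comm _ a.2 _ d.2)))
    have h2 : (a : End F V) v0 ≠ 0 := fun h => ha (Subtype.ext (hT.eq_zero hB a.2 hv0 h))
    rw [← sub_eq_zero]
    exact Subtype.ext (hT.eq_zero hB (c - d).2 h2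
      (LinearMap.congr_fun (congrArg Subtype.val h1) v0))

theorem rho_inv_mul (ρ : E →* End F V) (h : E) : ρ h⁻¹ * ρ h = 1 := by
  rw [← map_mul, inv_mul_cancel, map_one]

theorem rho_mul_inv (ρ : E →* End F V) (h : E) : ρ h * ρ h⁻¹ = 1 := by
  rw [← map_mul, mul_inv_cancel, map_one]

/-- The algebra generated by a subgroup. -/
def algOf (ρ : E →* End F V) (X : Subgroup E) : Subalgebra F (End F V) :=
  Algebra.adjoin F (ρ '' X)

theorem mem_algOf {X : Subgroup E} {x : E} (hx : x ∈ X) : ρ x ∈ algOf ρ X :=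
  Algebra.subset_adjoin ⟨x, hx, rfl⟩

theorem commNorm_algOf {X : Subgroup E} (hn : X.Normal) (hX : IsMulCommutative X) :
    CommNorm ρ (algOf ρ X) := by
  constructor
  · intro a ha b hb
    refine Algebra.commute_of_mem_adjoin_of_forall_mem_commute hb ?_
    rintro _ ⟨y, hy, rfl⟩
    refine (Algebra.commute_of_mem_adjoin_of_forall_mem_commute ha ?_).symm
    rintro _ ⟨x, hx, rfl⟩
    exact (Commute.map (mem_cent.1 (isMulComm_iff_le_cent.1 hX hx) y hy) ρ)
  · intro h b hb
    induction hb using Algebra.adjoin_induction with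
    | mem x hx =>
      obtain ⟨y, hy, rfl⟩ := hx
      rw [← map_mul, ← map_mul]
      exact mem_algOf (hn.conj_mem y hy h)
    | algebraMap r =>
      rw [← Algebra.commutes, mul_assoc, rho_mul_inv, mul_one]
      exact Subalgebra.algebraMap_mem _ r
    | add x y _ _ hx hy =>
      rw [mul_add, add_mul]; exact add_mem hx hy
    | mul x y _ _ hx hy =>
      have : ρ h * (x * y) * ρ h⁻¹ = ρ h * x * ρ h⁻¹ * (ρ h * y * ρ h⁻¹) := by
        simp only [mul_assoc]
        rw [← mul_assoc (ρ h⁻¹) (ρ h), rho_inv_mul, one_mul]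
      rw [this]; exact mul_mem hx hy

/-- Conjugation on a normalized subalgebra. -/
def conjRing {B : Subalgebra F (End F V)} (hB : CommNorm ρ B) : E →* RingAut B where
  toFun h :=
    { toFun := fun c => ⟨ρ h * c * ρ h⁻¹, hB.norm h _ c.2⟩
      invFun := fun c => ⟨ρ h⁻¹ * c * ρ h⁻¹⁻¹, hB.norm h⁻¹ _ c.2⟩
      left_inv := fun c => Subtype.ext (by
        simp only [inv_inv, ← mul_assoc, rho_inv_mul, one_mul]
        rw [mul_assoc, rho_inv_mul, mul_one])
      right_inv := fun c => Subtype.ext (by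
        simp only [inv_inv, ← mul_assoc, rho_mul_inv, one_mul]
        rw [mul_assoc, rho_mul_inv, mul_one])
      map_mul' := fun c d => Subtype.ext (by
        simp only [MulMemClass.coe_mul, mul_assoc]
        rw [← mul_assoc (ρ h⁻¹) (ρ h), rho_inv_mul, one_mul])
      map_add' := fun c d => Subtype.ext (by
        simp only [AddMemClass.coe_add, mul_add, add_mul]) }
  map_one' := RingEquiv.ext fun c => Subtype.ext (by
    show ρ 1 * c * ρ 1⁻¹ = c
    simp)
  map_mul' g h := RingEquiv.ext fun c => Subtype.ext (by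
    show ρ (g * h) * c * ρ (g * h)⁻¹ = ρ g * (ρ h * c * ρ h⁻¹) * ρ g⁻¹
    simp only [mul_inv_rev, map_mul, mul_assoc])

theorem coe_conjRing {B : Subalgebra F (End F V)} (hB : CommNorm ρ B) (h : E) (c : B) :
    (conjRing hB h c : End F V) = ρ h * c * ρ h⁻¹ := rfl

theorem VTrans.fpf (hT : VTrans ρ) (hi : Function.Injective ρ) {X : Subgroup E} (hn : X.Normal)
    (hX : IsMulCommutative X) {x : E} (hx : x ∈ X) {v : V} (hv : v ≠ 0) (e : ρ x v = v) :
    x = 1 := by
  have := hT.eq_zero (commNorm_algOf hn hX) (sub_mem (mem_algOf hx) (one_mem _)) hv (by simp [e])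
  exact hi (by rw [map_one, ← sub_eq_zero, this])

theorem VTrans.isCyclic [Nontrivial V] [Finite E] (hT : VTrans ρ) (hi : Function.Injective ρ)
    {X : Subgroup E} (hn : X.Normal) (hX : IsMulCommutative X) : IsCyclic X :=
  isCyclic_of_isField (hT.isField (commNorm_algOf hn hX))
    ((ρ.comp X.subtype).codRestrict (algOf ρ X) fun x => mem_algOf x.2)
    fun _ _ e => Subtype.ext (hi (congrArg Subtype.val e))

theorem ker_conjRing (hi : Function.Injective ρ) {X : Subgroup E} (hn : X.Normal)
    (hX : IsMulCommutative X) : (conjRing (commNorm_algOf (ρ := ρ) hn hX)).ker ≤ 𝐂(X) := by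
  intro h hh
  refine mem_cent.2 fun x hx => hi ?_
  have := congrArg (fun σ : RingAut (algOf ρ X) => ((σ ⟨ρ x, mem_algOf hx⟩ : algOf ρ X) : End F V))
    (MonoidHom.mem_ker.1 hh)
  have e : ρ h * ρ x * ρ h⁻¹ = ρ x := this
  rw [map_mul, map_mul]
  conv_lhs => rw [← e]
  rw [mul_assoc, rho_inv_mul, mul_one]

/-- A self-centralizing abelian normal subgroup generates a field of full degree. -/
theorem VTrans.surj [Finite E] (hT : VTrans ρ) (hi : Function.Injective ρ) {X : Subgroup E}
    (hn : X.Normal) (hX : IsMulCommutative X) (hC : 𝐂(X) ≤ X) {v : V} (hv : v ≠ 0) (w : V) :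
    ∃ c ∈ algOf ρ X, c v = w := by
  have : Nontrivial V := ⟨v, 0, hv⟩
  have : Finite (End F V) := DFunLike.finite _
  have hB := commNorm_algOf (ρ := ρ) hn hX
  have hF := hT.isField hB
  by_contra hw
  push Not at hw
  have h1 : Nat.card (algOf ρ X × algOf ρ X) ≤ Nat.card V := by
    refine Nat.card_le_card_of_injective
      (fun p => (p.1 : End F V) v + (p.2 : End F V) w) ?_
    rintro ⟨a, b⟩ ⟨c, d⟩ e
    have e1 : ((a - c : algOf ρ X) : End F V) v = ((d - b : algOf ρ X) : End F V) w := by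
      simp only [AddSubgroupClass.coe_sub, LinearMap.sub_apply]
      simp only at e
      linear_combination (norm := abel) e
    have e2 : d - b = 0 := by
      by_contra hne
      obtain ⟨k, hk⟩ := hF.mul_inv_cancel hne
      refine hw (k * (a - c) : algOf ρ X) (k * (a - c)).2 ?_
      rw [MulMemClass.coe_mul, End.mul_apply, e1, ← End.mul_apply, ← MulMemClass.coe_mul,
        hF.mul_comm, hk]
      rfl
    rw [e2] at e1
    have e3 : a - c = 0 := Subtype.ext (hT.eq_zero hB (a - c).2 hv e1)
    rw [sub_eq_zero] at e2 e3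
    rw [e2, e3]
  have h2 : Nat.card V ≤ Nat.card E + 1 := by
    rw [← Finite.card_option]
    refine Nat.card_le_card_of_surjective
      (fun o : Option E => o.elim 0 fun e => ρ e v) fun y => ?_
    by_cases hy : y = 0
    · exact ⟨none, hy.symm⟩
    · obtain ⟨e, he⟩ := hT v y hv hy
      exact ⟨some e, he⟩
  have h3 : 𝐨(X) + 1 ≤ Nat.card (algOf ρ X) := by
    rw [← Finite.card_option]
    refine Nat.card_le_card_of_injective
      (fun o : Option X => o.elim 0 fun x => ⟨ρ x, mem_algOf x.2⟩) ?_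
    have key : ∀ x : X, (⟨ρ x, mem_algOf x.2⟩ : algOf ρ X) ≠ 0 := fun x e =>
      hv (rho_eq_zero ρ x (LinearMap.congr_fun (congrArg Subtype.val e) v))
    rintro (_ | x) (_ | y) e
    · rfl
    · exact absurd e.symm (key y)
    · exact absurd e (key x)
    · exact congrArg some (Subtype.ext (hi (congrArg Subtype.val e)))
  have : Finite (conjRing hB).range :=
    Finite.of_surjective _ (conjRing hB).rangeRestrict_surjective
  have h4 := card_eq_pow_fixed' hF (conjRing hB).range.subtype (subtype_injective _)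
  have h5 : 2 ≤ Nat.card {c : algOf ρ X // ∀ r, (conjRing hB).range.subtype r c = c} := by
    have := hF.nontrivial
    have : Nontrivial {c : algOf ρ X // ∀ r, (conjRing hB).range.subtype r c = c} :=
      ⟨⟨0, fun r => map_zero _⟩, ⟨1, fun r => map_one _⟩,
        fun e => zero_ne_one (congrArg Subtype.val e)⟩
    exact Finite.one_lt_card
  have h6 : 𝐨((conjRing hB).range) < Nat.card (algOf ρ X) := by
    rw [h4]
    exact (Nat.lt_two_pow_self).trans_le (Nat.pow_le_pow_left h5 _)
  have h7 : Nat.card E ≤ 𝐨(X) * 𝐨((conjRing hB).range) := by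
    rw [← (conjRing hB).ker.card_mul_index, index_ker]
    exact Nat.mul_le_mul_right _ (card_le_of_le ((ker_conjRing hi hn hX).trans hC))
  rw [Nat.card_prod] at h1
  have h8 : 0 < 𝐨(X) := Nat.card_pos
  nlinarith

theorem VTrans.card_eq_pow [Finite E] (hT : VTrans ρ) (hi : Function.Injective ρ) {X : Subgroup E}
    (hn : X.Normal) (hX : IsMulCommutative X) (hC : 𝐂(X) ≤ X) {R : Subgroup E} {v : V}
    (hv : v ≠ 0) (hR : ∀ r ∈ R, ρ r v = v) :
    Nat.card V = Nat.card {w : V // ∀ r ∈ R, ρ r w = w} ^ 𝐨(R) := by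
  have : Nontrivial V := ⟨v, 0, hv⟩
  have : Finite (End F V) := DFunLike.finite _
  have hB := commNorm_algOf (ρ := ρ) hn hX
  have hF := hT.isField hB
  have hinj : ∀ a b : algOf ρ X, (a : End F V) v = (b : End F V) v → a = b := fun a b e => by
    rw [← sub_eq_zero]
    exact Subtype.ext (hT.eq_zero hB (a - b).2 hv (by simp [e]))
  have h4 := card_eq_pow_fixed' hF ((conjRing hB).comp R.subtype) (by
    rw [injective_iff_map_eq_one]
    intro r hr
    exact Subtype.ext (hT.fpf hi hn hX (hC (ker_conjRing hi hn hX hr)) hv (hR r r.2)))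
  have key : ∀ (r : R) (c : algOf ρ X),
      ((conjRing hB r c : algOf ρ X) : End F V) v = ρ r ((c : End F V) v) := fun r c => by
    rw [coe_conjRing, End.mul_apply, End.mul_apply, hR _ (inv_mem r.2)]
  have e1 : Nat.card (algOf ρ X) = Nat.card V :=
    Nat.card_eq_of_bijective (fun c => (c : End F V) v) ⟨hinj, fun w => by
      obtain ⟨c, hc, e⟩ := hT.surj hi hn hX hC hv w
      exact ⟨⟨c, hc⟩, e⟩⟩
  have e2 : Nat.card {c : algOf ρ X // ∀ r, (conjRing hB).comp R.subtype r c = c} =
      Nat.card {w : V // ∀ r ∈ R, ρ r w = w} := by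
    refine Nat.card_eq_of_bijective (fun c => ⟨(c.1 : End F V) v, fun r hr => by
      rw [← key ⟨r, hr⟩]; exact congrArg (fun d : algOf ρ X => (d : End F V) v) (c.2 ⟨r, hr⟩)⟩)
      ⟨fun a b e => Subtype.ext (hinj _ _ (congrArg Subtype.val e)), fun w => ?_⟩
    obtain ⟨c, hc, e⟩ := hT.surj hi hn hX hC hv w.1
    refine ⟨⟨⟨c, hc⟩, fun r => hinj _ _ ?_⟩, Subtype.ext e⟩
    exact (key r ⟨c, hc⟩).trans (by rw [e]; exact w.2 r r.2)
  rw [← e1, h4, e2]

end Lin

end Cfsg.Agent.P6
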