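/-
Groups of odd order that are transitive on the involutions of an elementary abelian 2-group.
-/
import Cfsg.Agent.P6.GL1a

set_option autoImplicit false
set_option linter.unusedSectionVars false

namespace Cfsg.Agent.P6

open Subgroup Cfsg Cfsg.Agent Cfsg.Agent.FT
open scoped IsMulCommutative commutatorElement

universe u

section Aut

variable {M : Type*} [CommGroup M] [Finite M] {E : Type u} [Group E] [Finite E]

/-- A faithful transitive action of a group of odd order. -/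
structure MT (φ : E →* MulAut M) : Prop where
  sq : ∀ v : M, v ^ 2 = 1
  inj : Function.Injective φ
  odd : Odd (Nat.card E)
  nt : Nontrivial M
  trans : ∀ v w : M, v ≠ 1 → w ≠ 1 → ∃ e, φ e v = w

/-- The stabilizer of a vector. -/
def vStab (φ : E →* MulAut M) (v : M) : Subgroup E := (MulAction.stabilizer (MulAut M) v).comap φ

theorem mem_vStab {φ : E →* MulAut M} {v : M} {e : E} : e ∈ vStab φ v ↔ φ e v = v := Iff.rfl

theorem vStab_apply (φ : E →* MulAut M) (v : M) (e : E) : vStab φ (φ e v) = vStab φ v ^ᵍ e := by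
  ext x
  rw [mem_conj, mem_vStab, mem_vStab, map_mul, map_mul, map_inv, MulAut.mul_apply,
    MulAut.mul_apply, MulAut.inv_apply, MulEquiv.symm_apply_eq]

namespace MT

variable {φ : E →* MulAut M} (h : MT φ)
include h

theorem rep_inj : Function.Injective (H1.autRep h.sq φ) := by
  rw [injective_iff_map_eq_one]
  intro e he
  exact h.inj (by rw [(H1.autRep_eq_one_iff h.sq φ e).1 he, map_one])

instance : Fact (Nat.Prime 2) := ⟨Nat.prime_two⟩

theorem vTrans : VTrans (H1.autRep h.sq φ) := by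
  intro v w hv hw
  obtain ⟨v, rfl⟩ := (H1.eaOf h.sq).surjective v
  obtain ⟨w, rfl⟩ := (H1.eaOf h.sq).surjective w
  obtain ⟨e, he⟩ := h.trans v w (fun e => hv (by rw [e, H1.eaOf_one]))
    (fun e => hw (by rw [e, H1.eaOf_one]))
  exact ⟨e, by rw [H1.autRep_apply, he]⟩

theorem fpf {X : Subgroup E} (hn : X.Normal) (hX : IsMulCommutative X) {x : E} (hx : x ∈ X)
    {v : M} (hv : v ≠ 1) (e : φ x v = v) : x = 1 :=
  h.vTrans.fpf h.rep_inj hn hX hx (v := H1.eaOf h.sq v)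
    (fun e => hv ((H1.eaOf_eq_zero h.sq).1 e)) (by rw [H1.autRep_apply, e])

theorem isCyclic_of_comm {X : Subgroup E} (hn : X.Normal) (hX : IsMulCommutative X) :
    IsCyclic X := by
  have := h.nt
  have : Nontrivial (H1.EA M h.sq) := (H1.eaOf h.sq).symm.nontrivial
  exact h.vTrans.isCyclic h.rep_inj hn hX

theorem isCyclic_of_isPGroup {p : ℕ} (hp : p.Prime) {P : Subgroup E} (hn : P.Normal)
    (hP : IsPGroup p P) : IsCyclic P := by
  have := h.nt
  by_contra hnc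
  have hP1 : P ≠ ⊥ := by rintro rfl; exact hnc inferInstance
  have hp2 : p ≠ 2 := by
    rintro rfl
    exact (Nat.not_even_iff_odd.2 h.odd) (even_iff_two_dvd.2
      ((prime_dvd_card_of_isPGroup hp hP hP1).trans (card_subgroup_dvd_card P)))
  have hnil := isNilpotent_of_isPGroup hp hP
  obtain ⟨T, hT, hE⟩ := exists_normal_isElem_two hp hp2 hP hnc
  have hZn : (𝐙(P)).Normal := normal_iff_top_le.2 ((normal_iff_top_le.1 hn).trans
    (norm_le_norm_center P))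
  have hZ : ∀ z ∈ P, z ∈ 𝐂(P) → ∀ v : M, v ≠ 1 → φ z v = v → z = 1 :=
    fun z h1 h2 v hv e => h.fpf hZn (isMulComm_center P) ⟨h1, h2⟩ hv e
  obtain ⟨z, hz, hz1⟩ := ((T ⊓ 𝐂(P)).bot_or_exists_ne_one).resolve_left
    (inf_center_ne_bot hnil hT (hE.ne_bot hp two_ne_zero))
  -- a vector fixed by two different subgroups of order `p` of `T` is trivial
  have key : ∀ X Y : Subgroup E, X ≤ T → Y ≤ T → 𝐨(X) = p → 𝐨(Y) = p → X ≠ Y → ∀ v : M,
      X ≤ vStab φ v → Y ≤ vStab φ v → v = 1 := by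
    intro X Y hX hY cX cY hne v h1 h2
    by_contra hv
    have := (hE.sup_eq_of_two hp hX hY cX cY hne).sup
    exact hz1 (hZ z (hT.1 hz.1) hz.2 v hv ((this.symm.le.trans (sup_le h1 h2)) hz.1))
  obtain ⟨n, hn2⟩ := exists_card_eq_pow Nat.prime_two (P := (⊤ : Subgroup M))
    (fun v => ⟨1, Subtype.ext (by simpa using h.sq v)⟩)
  obtain ⟨t, ht1, v0, e0, hv0⟩ : ∃ t : T, t ≠ 1 ∧ ∃ v : M, φ t v = v ∧ v ≠ 1 := by
    by_contra hc
    push Not at hc
    have := H1.aut_eq_top_of_forall_fixed (φ.comp T.subtype) (by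
      rw [← card_top (G := M), hn2, hE.card]
      exact (((Nat.coprime_primes hp Nat.prime_two).2 hp2).pow 2 n)) hE.comm
      (hE.not_isCyclic hp le_rfl) (H := ⊥) (fun a ha g e => hc a ha g e)
    exact bot_ne_top this
  obtain ⟨t, htT⟩ := t
  have ht1' : t ≠ 1 := fun e => ht1 (Subtype.ext e)
  have c1 : 𝐨(zpowers t) = p := by rw [Nat.card_zpowers, elemAb_orderOf hp hE.elemAb htT ht1']
  have l1 : zpowers t ≤ T := zpowers_le.2 htT
  have s1 : zpowers t ≤ vStab φ v0 := zpowers_le.2 e0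
  generalize zpowers t = T1 at c1 l1 s1
  have hconj : ∀ X : Subgroup E, X ≤ T → ∀ g ∈ P, X ^ᵍ g ≤ T :=
    fun X hX g hg => conj_le_of_mem_norm hX (hT.2 hg)
  obtain ⟨k, hk, hne⟩ : ∃ k ∈ P, T1 ^ᵍ k ≠ T1 := by
    by_contra hc
    push Not at hc
    obtain ⟨y, hy, hy1⟩ := ((T1 ⊓ 𝐂(P)).bot_or_exists_ne_one).resolve_left
      (inf_center_ne_bot hnil ⟨l1.trans hT.1, fun g hg => conj_eq_self_iff.1 (hc g hg)⟩
        (ne_bot_of_card_prime (c1 ▸ hp)))
    exact hy1 (hZ y (hT.1 (l1 hy.1)) hy.2 v0 hv0 (s1 hy.1))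
  have c2 : 𝐨(T1 ^ᵍ k) = p := by rw [card_conj, c1]
  have l2 := hconj T1 l1 k hk
  have s2 : T1 ^ᵍ k ≤ vStab φ (φ k v0) := by rw [vStab_apply]; exact conj_mono s1 k
  have hv1 : φ k v0 ≠ 1 := by simpa using hv0
  generalize T1 ^ᵍ k = T2 at c2 l2 s2 hne
  generalize φ k v0 = v1 at s2 hv1
  -- closure properties of fixed vectors
  have fmul : ∀ (X : Subgroup E) (a b : M), X ≤ vStab φ a → X ≤ vStab φ b →
      X ≤ vStab φ (a * b⁻¹) := fun X a b ha hb x hx => by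
    rw [mem_vStab, map_mul, map_inv, mem_vStab.1 (ha hx), mem_vStab.1 (hb hx)]
  have fapp : ∀ (X : Subgroup E) (a : M), X ≤ T → X ≤ vStab φ a → ∀ s ∈ T,
      X ≤ vStab φ (φ s a * a⁻¹) := fun X a hX ha s hs => fmul X _ _ (by
    rw [vStab_apply, ← conj_eq_of_mem_norm (cent_le_norm X (cent_anti hX (hE.le_cent hs)))]
    exact conj_mono ha s) ha
  have hw : v0 * v1 ≠ 1 := fun e => hv0 (key T1 T2 l1 l2 c1 c2 hne.symm v0 s1 (by
    have := fmul T2 1 v1 (fun x _ => map_one _) s2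
    rwa [one_mul, ← eq_inv_of_mul_eq_one_left e] at this))
  have hsub : P ⊓ vStab φ (v0 * v1) ≤ P ⊓ vStab φ v0 := by
    rintro g ⟨hg, e⟩
    refine ⟨hg, ?_⟩
    have e : φ g v0 * φ g v1 = v0 * v1 := by rw [← map_mul]; exact e
    have t1 : T1 ^ᵍ g ≤ vStab φ (φ g v0) := by rw [vStab_apply]; exact conj_mono s1 g
    have t2 : T2 ^ᵍ g ≤ vStab φ (φ g v1) := by rw [vStab_apply]; exact conj_mono s2 g
    have d1 : 𝐨(T1 ^ᵍ g) = p := by rw [card_conj, c1]
    have d2 : 𝐨(T2 ^ᵍ g) = p := by rw [card_conj, c2]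
    have m1 := hconj T1 l1 g hg
    have m2 := hconj T2 l2 g hg
    have n12 : T1 ^ᵍ g ≠ T2 ^ᵍ g := fun e => hne.symm (conj_inj.1 e)
    have w0 : φ g v0 ≠ 1 := by simpa using hv0
    have w1 : φ g v1 ≠ 1 := by simpa using hv1
    have go : Odd (orderOf g) := h.odd.of_dvd_nat (orderOf_dvd_natCard g)
    by_cases a1 : T1 ^ᵍ g = T1
    · by_cases a2 : T2 ^ᵍ g = T2
      · rw [a1] at t1
        rw [a2] at t2
        have e2 : φ g v0 * v0⁻¹ = v1 * (φ g v1)⁻¹ := by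
          rw [mul_inv_eq_iff_eq_mul, mul_right_comm, eq_mul_inv_iff_mul_eq, e, mul_comm]
        exact mul_inv_eq_one.1 (key T1 T2 l1 l2 c1 c2 hne.symm _ (fmul _ _ _ t1 s1)
          (e2 ▸ fmul _ _ _ s2 t2))
      · exfalso
        rw [a1] at t1 n12
        refine w1 (key T1 _ l1 m2 c1 d2 n12 _ (fun s hs => mul_inv_eq_one.1
          (key T2 _ l2 m2 c2 d2 (Ne.symm a2) _ ?_ (fapp _ _ m2 t2 s (l1 hs)))) t2)
        have e3 := congrArg (φ s) e
        rw [map_mul, map_mul, mem_vStab.1 (t1 hs), mem_vStab.1 (s1 hs)] at e3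
        have e4 : φ s (φ g v1) * (φ g v1)⁻¹ = φ s v1 * v1⁻¹ := by
          rw [eq_inv_mul_of_mul_eq e3, eq_inv_mul_of_mul_eq e]
          simp only [mul_inv_rev, inv_inv]
          ac_nf
          group
        erw [e4]
        exact fapp _ _ l2 s2 s (l1 hs)
    · exfalso
      have dd : ∀ s ∈ T1, φ s v1 * v1⁻¹ =
          (φ s (φ g v0) * (φ g v0)⁻¹) * (φ s (φ g v1) * (φ g v1)⁻¹) := fun s hs => by
        have e3 := congrArg (φ s) e
        rw [map_mul, map_mul, mem_vStab.1 (s1 hs)] at e3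
        rw [mul_mul_mul_comm, ← mul_inv, e3, e, mul_inv, mul_mul_mul_comm, mul_inv_cancel, one_mul]
      by_cases a2 : T1 ^ᵍ g = T2
      · have a3 : T2 ^ᵍ g = T1 := by
          by_contra a3
          refine w1 (key T1 _ l1 m2 c1 d2 (Ne.symm a3) _ (fun s hs => mul_inv_eq_one.1
            (key _ _ m1 m2 d1 d2 n12 _ ?_ (fapp _ _ m2 t2 s (l1 hs)))) t2)
          erw [eq_inv_mul_of_mul_eq (dd s hs).symm]
          rw [mul_comm]
          exact fmul _ _ _ (a2 ▸ fapp _ _ l2 s2 s (l1 hs)) (fapp _ _ m1 t1 s (l1 hs))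
        have : g ∈ 𝐍(T1) := mem_of_sq_mem go (by
          rw [← conj_eq_self_iff, ← conj_conj, a2, a3])
        exact a1 (conj_eq_self_iff.2 this)
      · refine w0 (key T1 _ l1 m1 c1 d1 (Ne.symm a1) _ (fun s hs => mul_inv_eq_one.1
          (key T2 _ l2 m1 c2 d1 (Ne.symm a2) _ (fun s' hs' => mul_inv_eq_one.1
            (key _ _ m1 m2 d1 d2 n12 _ (fapp _ _ m1 (fapp _ _ m1 t1 s (l1 hs)) s' (l2 hs')) ?_))
            (fapp _ _ m1 t1 s (l1 hs)))) t1)
        have e5 := congrArg (φ s') (dd s hs)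
        rw [mem_vStab.1 (fapp _ _ l2 s2 s (l1 hs) hs'), dd s hs, map_mul (φ s')] at e5
        generalize φ s (φ g v0) * (φ g v0)⁻¹ = x at e5 ⊢
        have hy := fapp _ _ m2 t2 s (l1 hs)
        generalize φ s (φ g v1) * (φ g v1)⁻¹ = y at e5 hy
        have e6 : φ s' x * x⁻¹ = 1 * (φ s' y * y⁻¹)⁻¹ := by
          rw [one_mul, eq_inv_iff_mul_eq_one, mul_mul_mul_comm, ← mul_inv, ← e5, mul_inv_cancel]
        erw [e6]
        exact fmul _ _ _ (fun x _ => map_one _) (fapp _ _ m2 hy s' (l2 hs'))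
  obtain ⟨e, he⟩ := h.trans v0 _ hv0 hw
  have heq := H1.eq_of_le_of_card_le hsub (by
    rw [← he, vStab_apply, ← conj_eq_of_mem_norm (normal_iff_top_le.1 hn (mem_top e)),
      ← conj_inf, card_conj, conj_eq_of_mem_norm (normal_iff_top_le.1 hn (mem_top e))])
  have s3 : T1 ≤ vStab φ (v0 * v1) :=
    ((le_inf (l1.trans hT.1) s1).trans heq.ge).trans inf_le_right
  have := fmul T1 _ _ s3 s1
  rw [mul_right_comm, mul_inv_cancel, one_mul] at this
  exact hv1 (key T1 T2 l1 l2 c1 c2 hne.symm v1 this s2)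

theorem isCyclic_fitting : IsCyclic (fittingOf (⊤ : Subgroup E)) := by
  have hnil := H2.isNilpotent_fittingOf (⊤ : Subgroup E)
  refine isCyclic_of_isNilpotent_of_isZGroup hnil (isZGroup_iff_isSyl.2 fun p hp P hP => ?_)
  exact h.isCyclic_of_isPGroup hp (normal_iff_top_le.2
    ((fittingOf_normal ⊤).2.trans (hP.norm_le_of_isNilpotent hp hnil))) hP.pgrp

theorem cent_fitting : 𝐂(fittingOf (⊤ : Subgroup E)) ≤ fittingOf ⊤ := by
  have := feit_thompson E h.odd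
  simpa using cent_fittingOf_le (H := (⊤ : Subgroup E)) inferInstance

theorem card_eq_pow {R : Subgroup E} {v : M} (hv : v ≠ 1) (hR : ∀ r ∈ R, φ r v = v) :
    Nat.card M = Nat.card {w : M // ∀ r ∈ R, φ r w = w} ^ 𝐨(R) := by
  have h1 := h.vTrans.card_eq_pow h.rep_inj (normal_iff_top_le.2 (fittingOf_normal ⊤).2)
    (isMulComm_of_isCyclic h.isCyclic_fitting) h.cent_fitting (R := R) (v := H1.eaOf h.sq v)
    (fun e => hv ((H1.eaOf_eq_zero h.sq).1 e)) (fun r hr => by rw [H1.autRep_apply, hR r hr])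
  rw [H1.card_EA] at h1
  rw [h1]
  congr 1

end MT

end Aut

variable {G : Type u} [Group G] [Finite G]

/-- The odd order group `D` is transitive on the involutions of the elementary abelian 2-group
`A`. -/
structure GL1 (A D : Subgroup G) : Prop where
  elem : IsElementaryAbelian 2 A
  ne : A ≠ ⊥
  norm : D ≤ 𝐍(A)
  odd : Odd 𝐨(D)
  trans : ∀ a ∈ A, a ≠ 1 → ∀ b ∈ A, b ≠ 1 → ∃ d ∈ D, d * a * d⁻¹ = b

namespace GL1

variable {A D : Subgroup G} (h : GL1 A D)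
include h

theorem mt : haveI := h.elem.1; MT (H1.conjAut h.norm).range.subtype := by
  have := h.elem.1
  refine ⟨H1.pow_eq_one_of_isElementaryAbelian h.elem, subtype_injective _,
    h.odd.of_dvd_nat (card_range_dvd _), (nontrivial_iff_ne_bot A).2 h.ne, fun v w hv hw => ?_⟩
  obtain ⟨d, hd, e⟩ := h.trans v v.2 (fun e => hv (Subtype.ext e)) w w.2
    (fun e => hw (Subtype.ext e))
  exact ⟨⟨_, ⟨d, hd⟩, rfl⟩, Subtype.ext e⟩

/-- The structure of `D / C_D(A)`: its Fitting subgroup is cyclic, fixed point free and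
self-centralizing. -/
theorem exists_F : ∃ F : Subgroup G, F ⊲ D ∧ D ⊓ 𝐂(A) ≤ F ∧ CycMod F (D ⊓ 𝐂(A)) ∧
    (∀ f ∈ F, ∀ a ∈ A, a ≠ 1 → f * a = a * f → f ∈ 𝐂(A)) ∧
    (∀ d ∈ D, (∀ f ∈ F, ⁅d, f⁆ ∈ 𝐂(A)) → d ∈ F) ∧
    (∀ X : Subgroup G, X ⊲ D → ⁅X, X⁆ ≤ 𝐂(A) → X ≤ F) ∧
    (∀ N : Subgroup G, N ⊲ D → ¬ N ≤ 𝐂(A) → ∃ x ∈ N, x ∈ F ∧ x ∉ 𝐂(A)) := by
  have := h.elem.1
  have hm := h.mt
  obtain ⟨ψ, hψ⟩ : ∃ ψ, ψ = (H1.conjAut h.norm).rangeRestrict := ⟨_, rfl⟩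
  have hs : Function.Surjective ψ := hψ ▸ MonoidHom.rangeRestrict_surjective _
  have hker : ∀ d : D, ψ d = 1 ↔ (d : G) ∈ 𝐂(A) := fun d => by
    rw [← H1.mem_ker_conjAut h.norm, hψ, MonoidHom.mem_ker, Subtype.ext_iff]; rfl
  have happ : ∀ (d : D) (a : A), ((((H1.conjAut h.norm).range.subtype (ψ d)) a : A) : G) =
      d * a * (d : G)⁻¹ := fun d a => by rw [hψ]; rfl
  obtain ⟨F0, hF0⟩ : ∃ F0, F0 = fittingOf (⊤ : Subgroup (H1.conjAut h.norm).range) := ⟨_, rfl⟩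
  have hn : F0.Normal := hF0 ▸ normal_iff_top_le.2 (fittingOf_normal ⊤).2
  have hcyc : IsCyclic F0 := hF0 ▸ hm.isCyclic_fitting
  have hcent : 𝐂(F0) ≤ F0 := hF0 ▸ hm.cent_fitting
  have hmem : ∀ d : D, (d : G) ∈ (F0.comap ψ).map D.subtype ↔ ψ d ∈ F0 := fun d =>
    ⟨fun ⟨y, hy, e⟩ => (Subtype.ext e : y = d) ▸ hy, fun hd => ⟨d, hd, rfl⟩⟩
  have hnorm : ∀ X : Subgroup G, X ⊲ D → ((X.subgroupOf D).map ψ).Normal := fun X hX =>
    (H1.normal_subgroupOf_of_le hX.2).map ψ hs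
  refine ⟨(F0.comap ψ).map D.subtype, ⟨map_subtype_le _, ?_⟩, ?_, ?_, ?_, ?_, ?_, ?_⟩
  · intro d hd
    refine mem_norm_of_conj_le ?_
    rintro _ ⟨_, ⟨y, hy, rfl⟩, rfl⟩
    exact ⟨_, (hn.comap ψ).conj_mem y hy ⟨d, hd⟩, rfl⟩
  · intro d hd
    exact (hmem ⟨d, hd.1⟩).2 (by rw [(hker ⟨d, hd.1⟩).2 hd.2]; exact one_mem _)
  · obtain ⟨x, hx⟩ := isCyclic_iff_zpowers.1 hcyc
    obtain ⟨y, rfl⟩ := hs x
    refine ⟨y, (hmem y).2 (hx ▸ mem_zpowers _), ?_⟩
    rintro _ ⟨z, hz, rfl⟩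
    obtain ⟨n, hn⟩ := mem_zpowers_iff.1 (hx.symm ▸ hz : ψ z ∈ zpowers (ψ y))
    have e : (z : G) = (y : G) ^ n * ((y ^ n)⁻¹ * z : D) := by simp
    rw [coe_subtype, e]
    refine mul_mem_sup (zpow_mem (mem_zpowers _) n) ⟨SetLike.coe_mem _, (hker _).1 ?_⟩
    rw [map_mul, map_inv, map_zpow, hn, inv_mul_cancel]
  · rintro _ ⟨y, hy, rfl⟩ a ha ha1 e
    refine (hker y).1 (hm.fpf hn (isMulComm_of_isCyclic hcyc) hy (v := ⟨a, ha⟩)
      (fun e => ha1 (congrArg Subtype.val e)) (Subtype.ext ?_))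
    rw [happ, mul_inv_eq_iff_eq_mul]; exact e
  · intro d hd hc
    refine (hmem ⟨d, hd⟩).2 (hcent (mem_cent.2 fun x hx => ?_))
    obtain ⟨y, rfl⟩ := hs x
    have := (hker ⁅(⟨d, hd⟩ : D), y⁆).2 (hc y ((hmem y).2 hx))
    rw [map_commutatorElement, commutatorElement_eq_one_iff_mul_comm] at this
    exact this.symm
  · intro X hX hc x hx
    refine (hmem ⟨x, hX.1 hx⟩).2 ?_
    have hcomm : IsMulCommutative ((X.subgroupOf D).map ψ) := by
      rw [isMulComm_iff_le_cent]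
      rintro _ ⟨a, ha, rfl⟩
      rw [mem_cent]
      rintro _ ⟨b, hb, rfl⟩
      rw [← commutatorElement_eq_one_iff_mul_comm, ← map_commutatorElement, hker]
      exact hc (commutator_mem_commutator hb ha)
    rw [hF0]
    exact le_fittingOf ⟨le_top, normal_iff_top_le.1 (hnorm X hX)⟩ (isNilpotent_of_isMulComm hcomm)
      ⟨⟨x, hX.1 hx⟩, hx, rfl⟩
  · intro N hN hc
    have hne : (N.subgroupOf D).map ψ ≠ ⊥ := fun e => hc fun x hx =>
      (hker ⟨x, hN.1 hx⟩).1 (mem_bot.1 (e ▸ ⟨⟨x, hN.1 hx⟩, hx, rfl⟩))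
    have hsol := feit_thompson _ hm.odd
    have h1 : fittingOf ((N.subgroupOf D).map ψ) ≠ ⊥ := fun e => by
      have := cent_fittingOf_le (H := (N.subgroupOf D).map ψ) inferInstance
      rw [e, cent_bot, inf_top_eq, le_bot_iff] at this
      exact hne this
    obtain ⟨y, hy, hy1⟩ := (Subgroup.bot_or_exists_ne_one _).resolve_left h1
    rw [fittingOf_of_normal ⟨le_top, normal_iff_top_le.1 (hnorm N hN)⟩, ← hF0] at hy
    obtain ⟨hyF, x, hx, rfl⟩ := hy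
    exact ⟨x, hx, (hmem x).2 hyF, fun e => hy1 ((hker x).2 e)⟩

/-- The stabilizer of an involution acts as a group of field automorphisms. -/
theorem card_eq_pow {R : Subgroup G} (hR : R ≤ D) {a : G} (ha : a ∈ A) (ha1 : a ≠ 1)
    (hc : R ≤ 𝐂[a]) : 𝐨(A) = 𝐨((A ⊓ 𝐂(R) : Subgroup G)) ^ 𝐂(A).relIndex R := by
  have := h.elem.1
  have hm := h.mt
  have h1 := hm.card_eq_pow (R := (R.subgroupOf D).map (H1.conjAut h.norm).rangeRestrict)
    (v := ⟨a, ha⟩) (fun e => ha1 (congrArg Subtype.val e)) (by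
      rintro _ ⟨r, hr, rfl⟩
      exact Subtype.ext (mem_cent1_iff_conj.1 (hc hr)))
  rw [h1]
  congr 1
  · refine Nat.card_congr ⟨fun w => ⟨w.1, w.1.2, mem_cent.2 fun r hr => ?_⟩,
      fun w => ⟨⟨w.1, w.2.1⟩, ?_⟩, fun _ => rfl, fun _ => rfl⟩
    · exact mul_inv_eq_iff_eq_mul.1 (congrArg Subtype.val (w.2 _ ⟨⟨r, hR hr⟩, hr, rfl⟩))
    · rintro _ ⟨r, hr, rfl⟩
      exact Subtype.ext (mul_inv_eq_iff_eq_mul.2 (mem_cent.1 w.2.2 r hr))
  · rw [← relIndex_ker, MonoidHom.ker_rangeRestrict, H1.ker_conjAut,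
      relIndex_subgroupOf hR]

end GL1

end Cfsg.Agent.P6
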