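/-
Consequences of `BT`.
-/
import Cfsg.Agent.P6.SE

set_option autoImplicit false
set_option linter.unusedSectionVars false

namespace Cfsg.Agent.P6

open Subgroup Cfsg Cfsg.Agent Cfsg.Agent.FT MulAction

universe u v

variable {G : Type u} [Group G] {Ω : Type v} [MulAction G Ω]

/-- `Fx Ω N` as an `N`-set. -/
def fxSub (Ω : Type v) [MulAction G Ω] (N : Subgroup G) : SubMulAction N Ω where
  carrier := Fx Ω N
  smul_mem' g _ h := smul_mem_Fx' g.2 h

theorem mem_fxSub {N : Subgroup G} {α : Ω} : α ∈ fxSub Ω N ↔ α ∈ Fx Ω N := Iff.rfl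

theorem SE.finite_Fx [Finite G] (h : SE G Ω) (N : Subgroup G) : (Fx Ω N).Finite := by
  rcases (Fx Ω N).eq_empty_or_nonempty with e | ⟨α, hα⟩
  · rw [e]; exact Set.finite_empty
  · exact (Set.finite_range fun g : G => g • α).subset fun β hβ => by
      obtain ⟨g, -, e⟩ := h.exists_smul_Fx hα hβ
      exact ⟨g, e⟩

/-- The permutation representation of `N` on `Fx Ω N`. -/
def fxHom (Ω : Type v) [MulAction G Ω] (N : Subgroup G) : N →* Equiv.Perm (fxSub Ω N) :=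
  toPermHom N (fxSub Ω N)

theorem fxHom_apply {N : Subgroup G} (g : N) (α : fxSub Ω N) :
    ((fxHom Ω N g α : fxSub Ω N) : Ω) = (g : G) • (α : Ω) := rfl

theorem fxHom_eq_iff {N : Subgroup G} {g k : N} :
    fxHom Ω N g = fxHom Ω N k ↔ ∀ δ ∈ Fx Ω N, (g : G) • δ = (k : G) • δ :=
  ⟨fun e δ hδ => by
    have := congrArg (fun σ : Equiv.Perm (fxSub Ω N) => ((σ ⟨δ, hδ⟩ : fxSub Ω N) : Ω)) e
    exact this,
   fun e => Equiv.ext fun δ => Subtype.ext (e δ δ.2)⟩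

/-- The group of permutations generated by the involutions of `N` fixing `γ`. -/
def fxE (N : Subgroup G) (γ : Ω) : Subgroup (Equiv.Perm (fxSub Ω N)) :=
  closure (fxHom Ω N '' {a : N | Inv (a : G) ∧ (a : G) • γ = γ})

theorem isPGroup_closure_of_comm {X : Type*} [Group X] {s : Set X}
    (hc : ∀ a ∈ s, ∀ b ∈ s, a * b = b * a) (h2 : ∀ a ∈ s, a * a = 1) :
    IsPGroup 2 (closure s) := by
  have h1 : closure s ≤ centralizer (closure s : Set X) := by
    rw [closure_le]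
    intro a ha
    rw [SetLike.mem_coe, mem_cent_iff_cent1, closure_le]
    exact fun b hb => mem_cent1.2 (hc a ha b hb)
  have h3 : ∀ x ∈ closure s, x * x = 1 := by
    intro x hx
    induction hx using closure_induction with
    | mem x hx => exact h2 x hx
    | one => exact mul_one 1
    | mul x y hx hy ex ey =>
      have := mem_cent.1 (h1 hx) y hy
      calc x * y * (x * y) = x * (y * x) * y := by group
        _ = x * (x * y) * y := by rw [this]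
        _ = (x * x) * (y * y) := by group
        _ = 1 := by rw [ex, ey, mul_one]
    | inv x _ ex => rw [← mul_inv_rev, ex, inv_one]
  exact fun x => ⟨1, Subtype.ext (by simpa [pow_two] using h3 x x.2)⟩

theorem fxHom_mem_norm_fxE [Finite G] (h : SE G Ω) {N : Subgroup G} {γ : Ω} {g : N}
    (hg : (g : G) • γ = γ) : fxHom Ω N g ∈ 𝐍(fxE N γ) := by
  have : Finite (fxSub Ω N) := (h.finite_Fx N).to_subtype
  refine mem_norm_of_conj_le ?_
  rw [conj_le_iff, fxE, closure_le]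
  rintro _ ⟨a, ⟨ha, ea⟩, rfl⟩
  rw [SetLike.mem_coe, mem_conj, inv_inv]
  refine subset_closure ⟨g * a * g⁻¹, ⟨ha.conj g, conj_fix' ea hg⟩, ?_⟩
  rw [map_mul, map_mul, map_inv]

namespace BT

variable [Finite G] {N : Subgroup G}

theorem isPGroup_fxE (hN : BT Ω N) (γ : Ω) : IsPGroup 2 (fxE N γ) := by
  refine isPGroup_closure_of_comm ?_ ?_
  · rintro _ ⟨a, ⟨ha, ea⟩, rfl⟩ _ ⟨b, ⟨hb, eb⟩, rfl⟩
    rw [← map_mul, ← map_mul, fxHom_eq_iff]
    intro δ hδ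
    rw [coe_mul, coe_mul, mul_smul, mul_smul]
    exact hN.comm a a.2 b b.2 ha hb γ ea eb δ hδ
  · rintro _ ⟨a, ⟨ha, -⟩, rfl⟩
    rw [← map_mul, show a * a = 1 from Subtype.ext ha.sq, map_one]

/-- An odd order subgroup of a point stabilizer of `N` fixes a second point. -/
theorem exists_fixed (h : SE G Ω) (hN : BT Ω N) (h2 : (Fx Ω N).Nontrivial) {γ : Ω}
    (hγ : γ ∈ Fx Ω N) {P : Subgroup G} (hP : Odd 𝐨(P)) (hPN : P ≤ N)
    (hPγ : P ≤ stabilizer G γ) : ∃ ε ∈ Fx Ω N, ε ≠ γ ∧ P ≤ stabilizer G ε := by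
  have : Finite (fxSub Ω N) := (h.finite_Fx N).to_subtype
  obtain ⟨ω, hω, hne⟩ := h2.exists_ne γ
  obtain ⟨n, hn⟩ := exists_card_eq_pow Nat.prime_two (hN.isPGroup_fxE γ)
  have hodd : Odd 𝐨((P.subgroupOf N).map (fxHom Ω N)) :=
    hP.of_dvd_nat ((L.card_map_dvd' _ _).trans (Nat.card_congr (subgroupOfEquivOfLe hPN).toEquiv).dvd)
  obtain ⟨g, hg, e⟩ := H1.glauberman_exists_fixed (A := (P.subgroupOf N).map (fxHom Ω N))
    (G := fxE N γ) (Ω := fxSub Ω N) (by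
      rintro _ ⟨x, hx, rfl⟩
      exact fxHom_mem_norm_fxE h (hPγ hx))
    (by rw [hn]; exact (Nat.coprime_two_right.2 hodd).pow_right n)
    (Or.inr (isSolvable_of_isNilpotent (isNilpotent_of_isPGroup Nat.prime_two
      (hN.isPGroup_fxE γ)))) ⟨ω, hω⟩ (by
      rintro _ ⟨x, hx, rfl⟩
      by_cases e : (x : G) • ω = ω
      · exact ⟨1, one_mem _, Subtype.ext e⟩
      · obtain ⟨a, haN, ha, ea, e2⟩ := hN.reg hγ hω (smul_mem_Fx' x.2 hω) hne
          (fun e3 => hne (smul_left_cancel (x : G) (e3.trans (hPγ hx).symm))) (fun e3 => e e3.symm)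
        exact ⟨fxHom Ω N ⟨a, haN⟩, subset_closure ⟨⟨a, haN⟩, ⟨ha, ea⟩, rfl⟩, Subtype.ext e2.symm⟩)
  have hfix : fxE N γ ≤ stabilizer _ (⟨γ, hγ⟩ : fxSub Ω N) := by
    rw [fxE, closure_le]
    rintro _ ⟨a, ⟨-, ea⟩, rfl⟩
    exact Subtype.ext ea
  refine ⟨(g • (⟨ω, hω⟩ : fxSub Ω N) : fxSub Ω N), (g • (⟨ω, hω⟩ : fxSub Ω N)).2, fun e2 => hne ?_,
    fun x hx => ?_⟩
  · have e3 : g • (⟨ω, hω⟩ : fxSub Ω N) = g • ⟨γ, hγ⟩ := by
      rw [mem_stabilizer_iff.1 (hfix hg)]; exact Subtype.ext e2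
    exact congrArg Subtype.val (smul_left_cancel g e3)
  · exact congrArg Subtype.val (e (fxHom Ω N ⟨x, hPN hx⟩) ⟨⟨x, hPN hx⟩, hx, rfl⟩)

/-- The Sylow 2-subgroups are elementary abelian. -/
theorem sq_eq_one (h : SE G Ω) (hN : BT Ω N) (h2 : (Fx Ω N).Nontrivial) {x : G} (hx : x ∈ N)
    (hp : IsPGroup 2 (zpowers x)) : x * x = 1 := by
  have : Finite (fxSub Ω N) := (h.finite_Fx N).to_subtype
  by_cases h1 : x = 1
  · rw [h1, mul_one]
  obtain ⟨z, hz, hzp⟩ := exists_prime_pow_mem h1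
  have hzi : Inv z := inv_of_orderOf (orderOf_eq_of_prime_of_mem Nat.prime_two hp hz hzp)
  obtain ⟨γ, eγ⟩ := h.ex hzi
  have hγ : γ ∈ Fx Ω N := ⟨z, (zpowers_le.2 hx) hz, hzi, eγ⟩
  have ex : x • γ = γ := h.fix_of_commute hzi eγ
    (mem_cent1.1 (cent1_le_cent1_of_mem_zpowers hz (self_mem_cent1 x)))
  obtain ⟨ω, hω, hne⟩ := h2.exists_ne γ
  have key : ∀ y ∈ zpowers x, y • ω = ω → y = 1 := fun y hy e => by
    have d1 : zpowers y ≤ St2 G γ ω :=
      zpowers_le.2 ⟨(zpowers_le.2 (mem_stabilizer_iff.2 ex) : zpowers x ≤ stabilizer G γ) hy, e⟩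
    by_contra hy1
    have := prime_dvd_card_of_isPGroup Nat.prime_two (hp.to_le (zpowers_le.2 hy))
      (by simpa using hy1)
    exact (Nat.not_even_iff_odd.2 (odd_of_le d1 (h.odd_St2 hne.symm))) (even_iff_two_dvd.2 this)
  have h3 : x • ω ≠ ω := fun e => h1 (key x (mem_zpowers x) e)
  obtain ⟨a, haN, ha, ea, e2⟩ := hN.reg hγ hω (smul_mem_Fx' hx hω) hne
    (fun e3 => hne (smul_left_cancel x (e3.trans ex.symm))) h3.symm
  have d1 : a * x ∈ St2 G γ ω :=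
    ⟨show (a * x) • γ = γ by rw [mul_smul, ex, ea],
     show (a * x) • ω = ω by rw [mul_smul, ← e2, ha.smul_smul]⟩
  have hxp : IsPGroup 2 (zpowers (fxHom Ω N ⟨x, hx⟩)) := by
    rw [← MonoidHom.map_zpowers]
    refine IsPGroup.map ?_ _
    refine (isPGroup_map_iff N.subtype_injective).1 ?_
    rwa [MonoidHom.map_zpowers]
  have hsup := isPGroup_sup hxp (hN.isPGroup_fxE γ) (zpowers_le.2 (fxHom_mem_norm_fxE h ex))
  have hmem : fxHom Ω N (⟨a, haN⟩ * ⟨x, hx⟩) ∈ zpowers (fxHom Ω N ⟨x, hx⟩) ⊔ fxE N γ := by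
    rw [map_mul]
    exact mul_mem (mem_sup_right (subset_closure ⟨⟨a, haN⟩, ⟨ha, ea⟩, rfl⟩))
      (mem_sup_left (mem_zpowers _))
  obtain ⟨k, hk⟩ := H8.exists_orderOf_eq_pow_of_mem hsup hmem
  have ho : Odd (orderOf (fxHom Ω N (⟨a, haN⟩ * ⟨x, hx⟩))) :=
    (odd_orderOf_of_mem (h.odd_St2 hne.symm) d1).of_dvd_nat (by
      exact (orderOf_map_dvd _ _).trans (orderOf_coe (⟨a, haN⟩ * ⟨x, hx⟩ : N)).symm.dvd)
  have h5 := H8.eq_one_of_orderOf_pow_of_coprime hk (Nat.coprime_two_right.2 ho)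
  rw [← map_one (fxHom Ω N), fxHom_eq_iff] at h5
  have h6 : ∀ δ ∈ Fx Ω N, x • δ = a • δ := fun δ hδ => by
    have := h5 δ hδ
    rw [coe_mul, coe_one, one_smul, mul_smul] at this
    exact (ha.smul_eq this).symm
  refine key _ (mul_mem (mem_zpowers x) (mem_zpowers x)) ?_
  rw [mul_smul, h6 _ (smul_mem_Fx' hx hω), h6 ω hω, ha.smul_smul]

end BT

end Cfsg.Agent.P6
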