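/-
The two fixed point lemmas for `r`-subgroups.
-/
import Cfsg.Agent.P6.BT

set_option autoImplicit false
set_option linter.unusedSectionVars false

namespace Cfsg.Agent.P6

open Subgroup Cfsg Cfsg.Agent Cfsg.Agent.FT MulAction

universe u v

variable {G : Type u} [Group G] [Finite G] {Ω : Type v} [MulAction G Ω]

theorem exists_max_card {P : Subgroup G → Prop} (h : ∃ X, P X) :
    ∃ X, P X ∧ ∀ Y, P Y → 𝐨(Y) ≤ 𝐨(X) := by
  obtain ⟨X, hX, hm⟩ := Set.exists_max_image {X | P X} (fun X => 𝐨(X)) (Set.toFinite _) h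
  exact ⟨X, hX, hm⟩

/-- A `p`-subgroup that is not a Sylow subgroup grows in its normalizer. -/
theorem exists_gt_of_not_isSyl {p : ℕ} (hp : p.Prime) {X D : Subgroup G} (hX : IsPGroup p X)
    (hXD : X ≤ D) (h : ¬ IsSyl p X D) : ∃ Y, X < Y ∧ Y ≤ D ∧ Y ≤ 𝐍(X) ∧ IsPGroup p Y := by
  obtain ⟨R, hR, hXR⟩ := exists_isSyl_ge hp hX hXD
  have hlt : X < R := lt_of_le_of_ne hXR fun e => h (e ▸ hR)
  exact ⟨R ⊓ 𝐍(X), lt_inf_norm_of_isNilpotent (isNilpotent_of_isPGroup hp hR.pgrp) hlt,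
    inf_le_left.trans hR.le, inf_le_right, hR.pgrp.to_le inf_le_left⟩

/-- An involution normalizing the odd order group `O` and preserving an orbit fixes a point. -/
theorem exists_fixed_orbit {O : Subgroup G} (hO : Odd 𝐨(O)) {v g : G} (hv : Inv v)
    (hn : v ∈ 𝐍(O)) (hg : g ∈ O) {δ : Ω} (e : v • δ = g • δ) :
    ∃ y ∈ O, v • y • δ = y • δ := by
  obtain ⟨_, ⟨y, hy, rfl⟩, h2⟩ := exists_fixed_of_not_dvd Nat.prime_two hv.isPGroup
    (S := {c | ∃ y ∈ O, y • δ = c})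
    ((Set.finite_range fun x : G => x • δ).subset fun _ ⟨y, _, e⟩ => ⟨y, e⟩) (by
      rintro x hx _ ⟨y, hy, rfl⟩
      obtain ⟨n, rfl⟩ := mem_powers_iff_mem_zpowers.2 hx
      rcases Nat.even_or_odd' n with ⟨k, rfl | rfl⟩
      · exact ⟨y, hy, by simp only [pow_mul, pow_two, hv.sq, one_pow, one_smul]⟩
      · refine ⟨v * y * v⁻¹ * g, mul_mem ((mem_normalizer_iff.1 hn y).1 hy) hg, ?_⟩
        simp only [pow_succ, pow_mul, pow_zero, one_mul, hv.sq, one_pow]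
        rw [mul_smul, ← e, conj_smul_smul]) (by
      rw [ncard_orbit]
      exact fun h2 => (Nat.not_even_iff_odd.2 hO)
        (even_iff_two_dvd.2 (h2.trans (relIndex_dvd_card' _ _))))
  exact ⟨y, hy, h2 v (mem_zpowers v)⟩

theorem card_inf_eq_of_relIndex {A B D : Subgroup G} (h : A.relIndex D = B.relIndex D) :
    𝐨((A ⊓ D : Subgroup G)) = 𝐨((B ⊓ D : Subgroup G)) := by
  have h1 := H1.card_inf_mul_relIndex A D
  have h2 := H1.card_inf_mul_relIndex B D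
  rw [h, ← h2] at h1
  exact Nat.eq_of_mul_eq_mul_right (Nat.pos_of_ne_zero fun e => by
    rw [e, mul_zero] at h2; exact card_ne_zero D h2.symm) h1

namespace Min

variable (h : Min G Ω)
include h

theorem mem_Fx_top (α : Ω) : α ∈ Fx Ω (⊤ : Subgroup G) := by
  obtain ⟨a, h1, h2⟩ := h.all α
  exact ⟨a, mem_top a, h1, h2⟩

theorem trans (α β : Ω) : ∃ g : G, g • α = β := by
  obtain ⟨g, -, e⟩ := h.toSE.exists_smul_Fx (h.mem_Fx_top α) (h.mem_Fx_top β)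
  exact ⟨g, e⟩

theorem exists_J {α β : Ω} (hne : α ≠ β) : ∃ u : G, Inv u ∧ u • α = β := by
  obtain ⟨u, -, e⟩ := h.toSE.exists_swap_Fx (h.mem_Fx_top α) (h.mem_Fx_top β) hne
  exact ⟨u, e⟩

theorem isConj {a b : G} (ha : Inv a) (hb : Inv b) : ∃ g : G, g * a * g⁻¹ = b := by
  have := h.two
  obtain ⟨α, β, hne⟩ := exists_pair_ne Ω
  obtain ⟨g, -, e⟩ := h.toSE.exists_conj ⟨α, h.mem_Fx_top α, β, h.mem_Fx_top β, hne⟩ ha hb
    (mem_top a) (mem_top b)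
  exact ⟨g, e⟩

theorem exists_conj_D {a b : G} {α β : Ω} (ha : Inv a) (hb : Inv b) (ea : a • α = α)
    (eb : b • α = α) (hne : α ≠ β) : ∃ d ∈ St2 G α β, d * a * d⁻¹ = b := by
  obtain ⟨d, hd, e⟩ := h.toSE.exists_conj_St2 ha hb ea eb hne (mem_top a) (mem_top b)
    (h.mem_Fx_top β)
  exact ⟨d, hd.2, e⟩

theorem stab_ne_top (α : Ω) : stabilizer G α ≠ ⊤ := fun e => by
  have := h.two
  obtain ⟨β, hne⟩ := exists_ne α
  obtain ⟨g, rfl⟩ := h.trans α β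
  exact hne (mem_stabilizer_iff.1 (e ▸ mem_top g))

theorem norm_ne_top {X : Subgroup G} (h1 : X ≠ ⊥) (h2 : X ≠ ⊤) : 𝐍(X) ≠ ⊤ := fun e => by
  have := h.simple
  rcases (normal_iff_top_le.2 e.ge : X.Normal).eq_bot_or_eq_top with h3 | h3
  · exact h1 h3
  · exact h2 h3

theorem norm_ne_top_of_le {X : Subgroup G} (h1 : X ≠ ⊥) {α : Ω} (h2 : X ≤ stabilizer G α) :
    𝐍(X) ≠ ⊤ :=
  h.norm_ne_top h1 fun e => h.stab_ne_top α (top_le_iff.1 (e ▸ h2))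

theorem norm_ne_top_of_odd {X : Subgroup G} (h1 : X ≠ ⊥) (h2 : Odd 𝐨(X)) : 𝐍(X) ≠ ⊤ :=
  h.norm_ne_top h1 fun e => by
    obtain ⟨a, -, -, -, ha, -⟩ := h.rk2
    exact ha.not_mem_of_odd h2 (e ▸ mem_top a)

theorem ncard_Iv_eq (α β : Ω) : (Iv G α).ncard = (Iv G β).ncard := by
  obtain ⟨g, rfl⟩ := h.trans α β
  exact (SE.ncard_Iv_smul g α).symm

theorem ncard_Iv {a : G} {α β : Ω} (ha : Inv a) (ea : a • α = α) (hne : α ≠ β) :
    (Iv G α).ncard = 𝐂[a].relIndex (St2 G α β) := by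
  simpa using h.toSE.ncard_Iv ha ea hne (mem_top a) (h.mem_Fx_top β)

theorem ncard_Jv {α β : Ω} (hne : α ≠ β) (γ : Ω) : (Jv G α β).ncard = (Iv G γ).ncard := by
  rw [h.ncard_Iv_eq γ β]
  simpa using h.toSE.ncard_Jv_eq_Iv hne (h.mem_Fx_top α)

theorem ncard_Iv' {u : G} {α β : Ω} (hu : Inv u) (eu : u • α = β) (hne : α ≠ β) (γ : Ω) :
    (Iv G γ).ncard = 𝐂[u].relIndex (St2 G α β) := by
  rw [← h.ncard_Jv hne γ]
  simpa using h.toSE.ncard_Jv hu eu hne (mem_top u)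

omit h [Finite G] in
theorem J_mem_norm {u : G} {α β : Ω} (hu : Inv u) (eu : u • α = β) : u ∈ 𝐍(St2 G α β) := by
  rw [← conj_eq_self_iff, ← St2_smul, eu, hu.smul_eq eu, St2_comm]

/-- A Sylow subgroup of a two point stabilizer is normalized by a swapping involution. -/
theorem exists_swap_norm {r : ℕ} (hr : r.Prime) {X : Subgroup G} {δ ε : Ω} (hne : δ ≠ ε)
    (hX : IsSyl r X (St2 G δ ε)) : ∃ v ∈ 𝐍(X), Inv v ∧ v • δ = ε := by
  obtain ⟨u, hu, eu⟩ := h.exists_J hne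
  obtain ⟨P, hP, -, hPn⟩ := exists_invariant_isSyl hr (zpowers_le.2 (J_mem_norm hu eu))
    (hu.coprime (h.toSE.odd_St2 hne)) (Or.inl (Inv.solv u)) (IsPGroup.of_bot (p := r)) bot_le
    (by rw [norm_bot]; exact le_top)
  obtain ⟨g, hg, rfl⟩ := hX.exists_conj_eq hr hP
  refine ⟨g * u * g⁻¹, ?_, hu.conj g, ?_⟩
  · rw [norm_conj]; exact conj_mem_conj (hPn (mem_zpowers u)) g
  · have := conj_smul_smul g u δ
    rwa [hg.1, eu, hg.2] at this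

/-- The local part of L1: the centralizer of a bad subgroup has rank one. -/
theorem not_rk2_of_bad {r : ℕ} (hr : r.Prime) (hnw : NW G Ω r) {X : Subgroup G}
    (hX : IsPGroup r X) (h1 : (Fx Ω 𝐂(X)).Nonempty) {δ : Ω} (hδ : X ≤ stabilizer G δ)
    (hδ1 : δ ∉ Fx Ω 𝐂(X)) : r ∣ (Iv G δ).ncard ∧ ¬ Rk2 𝐂(X) := by
  have hm : r ∣ (Iv G δ).ncard := by
    by_contra hd
    obtain ⟨s, hs, hc⟩ := exists_cent_of_not_dvd hr hX (S := Iv G δ)
      (fun x hx s hs => ⟨hs.1.conj x, conj_fix' hs.2 (hδ hx)⟩) hd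
    exact hδ1 ⟨s, hc, hs.1, hs.2⟩
  have key : ∀ c ∈ 𝐂(X), Inv c → ∀ γ : Ω, c • γ = γ →
      ∃ k ∈ 𝐂(X) ⊓ stabilizer G δ, c * k * c = k⁻¹ ∧ k • γ ≠ γ := by
    intro c hcX hc γ ec
    have hne : δ ≠ c • δ := fun e => hδ1 ⟨c, hcX, hc, e.symm⟩
    have hδ' : X ≤ stabilizer G (c • δ) := le_stab_smul (cent_le_norm X hcX) hδ
    have e1 := ncard_modEq_cent hr hX (S := Jv G δ (c • δ)) (fun x hx s hs => ⟨hs.1.conj x, by
      have := conj_smul_smul x s δ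
      rwa [hδ hx, hs.2, hδ' hx] at this⟩)
    have e2 := h.toSE.ncard_Jv hc rfl hne hcX
    have e3 : r ∣ 𝐂[c].relIndex (𝐂(X) ⊓ St2 G δ (c • δ)) := by
      rw [← e2]
      refine (Nat.modEq_zero_iff_dvd).1 (e1.symm.trans ((Nat.modEq_zero_iff_dvd).2 ?_))
      rwa [h.ncard_Jv hne δ]
    obtain ⟨k, hk, ho, hi⟩ := exists_inverted_of_dvd hr
      (odd_of_le inf_le_right (h.toSE.odd_St2 hne)) hc
      (H1.le_normalizer_inf (A := zpowers c) (zpowers_le.2 (le_norm_self _ hcX))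
        (zpowers_le.2 (J_mem_norm hc rfl)) (mem_zpowers c)) e3
    exact ⟨k, ⟨hk.1, hk.2.1⟩, hi, fun e => hnw k c γ ho hc ec e hi⟩
  refine ⟨hm, fun hrk => ?_⟩
  obtain ⟨γ, c, hcX, hc, ec⟩ := h1
  obtain ⟨k, hk, -, hk2⟩ := key c hcX hc γ ec
  have hX1 : X ≠ ⊥ := by
    rintro rfl
    rw [cent_bot] at hδ1
    exact hδ1 (h.mem_Fx_top δ)
  have hbt := h.ih 𝐂(X) (fun e => h.norm_ne_top_of_le hX1 hδ (top_le_iff.1 (e ▸ cent_le_norm X)))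
    hrk ⟨_, smul_mem_Fx' hk.1 ⟨c, hcX, hc, ec⟩, γ, ⟨c, hcX, hc, ec⟩, hk2⟩
  obtain ⟨c', hc'X, hc', e⟩ := hbt.odd (𝐂(X) ⊓ stabilizer G δ) inf_le_left
    (odd_of_no_inv fun a ha hi => hδ1 ⟨a, ha.1, hi, ha.2⟩)
  obtain ⟨γ', ec'⟩ := h.ex hc'
  obtain ⟨k', hk', hi', hk2'⟩ := key c' hc'X hc' γ' ec'
  exact hk2' (e k' hk' hi' γ' ⟨c', hc'X, hc', ec'⟩)

/-- In a subgroup of rank one the number of involutions fixing a point is prime to `r`. -/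
theorem not_dvd_of_not_rk2 {r : ℕ} (hr : r.Prime) (hnw : NW G Ω r) {C : Subgroup G}
    (hC : ¬ Rk2 C) {γ : Ω} (hγ : γ ∈ Fx Ω C) : ¬ r ∣ (Iv G γ ∩ C).ncard := by
  obtain ⟨c, hcC, hc, ec⟩ := hγ
  have hnpc := hasNPC_of_not_rk2 h.ab hC
  have e : Iv G γ ∩ C = {x | ∃ y ∈ Od C ⊓ stabilizer G γ, y * c * y⁻¹ = x} := by
    ext b
    constructor
    · rintro ⟨⟨hb, eb⟩, hbC⟩
      have ho := odd_mul_of_not_rk2 hC hcC hbC hc hb
      obtain ⟨y, hy, e⟩ := exists_conj_of_odd hc hb ho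
      refine ⟨y, (zpowers_le.2 ⟨mem_Od_of_npc hnpc (mul_mem hcC hbC) ho, ?_⟩ :
        zpowers (c * b) ≤ Od C ⊓ stabilizer G γ) hy, e⟩
      show (c * b) • γ = γ
      rw [mul_smul, eb, ec]
    · rintro ⟨y, hy, rfl⟩
      have := (Od_normal C).1 hy.1
      exact ⟨⟨hc.conj y, conj_fix' ec hy.2⟩, mul_mem (mul_mem this hcC) (inv_mem this)⟩
  rw [e, ncard_class]
  exact hnw.not_dvd hr (odd_of_le inf_le_left (odd_Od C)) hc ec inf_le_right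
    (H1.le_normalizer_inf (A := zpowers c) (zpowers_le.2 ((Od_normal C).2 hcC))
      (zpowers_le.2 (le_norm_self _ ec)) (mem_zpowers c))

/-- (L1) -/
theorem L1 {r : ℕ} (hr : r.Prime) (hnw : NW G Ω r) {X : Subgroup G} (hX : IsPGroup r X)
    (h1 : (Fx Ω 𝐂(X)).Nonempty) {δ : Ω} (hδ : X ≤ stabilizer G δ) : δ ∈ Fx Ω 𝐂(X) := by
  by_contra hδ1
  obtain ⟨X, ⟨hX, ⟨γ, c, hcX, hc, ec⟩, δ, hδ, hδ1⟩, hmax⟩ := exists_max_card
    (P := fun X : Subgroup G => IsPGroup r X ∧ (Fx Ω 𝐂(X)).Nonempty ∧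
      ∃ δ : Ω, X ≤ stabilizer G δ ∧ δ ∉ Fx Ω 𝐂(X)) ⟨X, hX, h1, δ, hδ, hδ1⟩
  have hm := (h.not_rk2_of_bad hr hnw hX ⟨γ, c, hcX, hc, ec⟩ hδ hδ1).1
  have hne : δ ≠ c • δ := fun e => hδ1 ⟨c, hcX, hc, e.symm⟩
  have hδ' : X ≤ stabilizer G (c • δ) := le_stab_smul (cent_le_norm X hcX) hδ
  have hXs : IsSyl r X (𝐂[c] ⊓ St2 G δ (c • δ)) := by
    refine isSyl_of_maximal hr (le_inf (mem_cent_iff_cent1.1 hcX) (le_inf hδ hδ')) hX
      fun Q hXQ hQ hQp => (H1.eq_of_le_of_card_le hXQ (hmax Q ⟨hQp,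
        ⟨γ, c, mem_cent_iff_cent1.2 (hQ.trans inf_le_left), hc, ec⟩, δ,
        (hQ.trans inf_le_right).trans inf_le_left,
        fun h2 => hδ1 (Fx_mono (cent_anti hXQ) h2)⟩)).symm
  obtain ⟨a, ha, ea⟩ := h.all δ
  obtain ⟨X', hX'⟩ := exists_isSyl hr (𝐂[a] ⊓ St2 G δ (c • δ))
  have hcard : 𝐨(X') = 𝐨(X) := by
    rw [hX'.card_eq_pow_factorization hr, hXs.card_eq_pow_factorization hr,
      card_inf_eq_of_relIndex ((h.ncard_Iv ha ea hne).symm.trans (h.ncard_Iv' hc rfl hne δ))]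
  have haX' : a ∈ 𝐂(X') := mem_cent_iff_cent1.2 (hX'.le.trans inf_le_left)
  have hX'D : X' ≤ St2 G δ (c • δ) := hX'.le.trans inf_le_right
  have hbad : c • δ ∉ Fx Ω 𝐂(X') := by
    intro h2
    obtain ⟨v, hvX, hv, ev⟩ := h.toSE.exists_swap_Fx ⟨a, haX', ha, ea⟩ h2 hne
    obtain ⟨d, -, hd, e⟩ := h.toSE.exists_conj_J hv ev hne hc rfl
    have h3 : X' ^ᵍ d ≤ 𝐂[c] ⊓ St2 G δ (c • δ) := le_inf (by
      rw [← e, cent1_conj]; exact conj_mono (mem_cent_iff_cent1.1 hvX) d) (conj_le_of_mem hX'D hd)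
    have h4 := hXs.of_card_eq hr h3 (by rw [card_conj, hcard])
    obtain ⟨g, hg, e2⟩ := hXs.exists_conj_eq hr h4
    rw [conj_conj] at e2
    refine hδ1 ⟨(g * d) * a * (g * d)⁻¹, ?_, ha.conj _, conj_fix' ea ?_⟩
    · rw [← e2, cent_conj]; exact conj_mem_conj haX' _
    · rw [mul_smul, hd.1, hg.2.1]
  have hns : ¬ IsSyl r X' (St2 G δ (c • δ)) := fun hs => by
    have h3 := relIndex_dvd_of_le_left (St2 G δ (c • δ)) hX'.le
    rw [inf_relIndex_right, ← h.ncard_Iv ha ea hne] at h3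
    exact hs.ndvd (hm.trans h3)
  obtain ⟨Y, hlt, hYD, hYn, hY⟩ := exists_gt_of_not_isSyl hr hX'.pgrp hX'D hns
  have hrk := (h.not_rk2_of_bad hr hnw hX'.pgrp ⟨δ, a, haX', ha, ea⟩
    (hX'D.trans inf_le_right) hbad).2
  obtain ⟨s, hs, hsY⟩ := exists_cent_of_not_dvd hr hY (S := Iv G δ ∩ 𝐂(X'))
    (fun x hx s hs => ⟨⟨hs.1.1.conj x, conj_fix' hs.1.2 (hYD hx).1⟩,
      H1.conj_mem_of_le_normalizer (H1.le_normalizer_centralizer hYn) hx hs.2⟩)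
    (h.not_dvd_of_not_rk2 hr hnw hrk ⟨a, haX', ha, ea⟩)
  have := hmax Y ⟨hY, ⟨δ, s, hsY, hs.1.1, hs.1.2⟩, c • δ, hYD.trans inf_le_right,
    fun h2 => hbad (Fx_mono (cent_anti hlt.le) h2)⟩
  have := H1.card_lt_of_lt hlt
  omega

/-- (L2) -/
theorem L2 {r : ℕ} (hr : r.Prime) (h2 : r ≠ 2) (hnw : NW G Ω r) {X : Subgroup G}
    (hX : IsPGroup r X) (h1 : Fx Ω 𝐂(X) = ∅) {δ ε ζ : Ω} (hδ : X ≤ stabilizer G δ)
    (hε : X ≤ stabilizer G ε) (hζ : X ≤ stabilizer G ζ) (n1 : δ ≠ ε) (n2 : δ ≠ ζ) : ε = ζ := by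
  by_contra n3
  obtain ⟨X, ⟨hX, h1, δ, ε, ζ, hδ, hε, hζ, n1, n2, n3⟩, hmax⟩ := exists_max_card
    (P := fun X : Subgroup G => IsPGroup r X ∧ Fx Ω 𝐂(X) = ∅ ∧
      ∃ δ ε ζ : Ω, X ≤ stabilizer G δ ∧ X ≤ stabilizer G ε ∧ X ≤ stabilizer G ζ ∧
        δ ≠ ε ∧ δ ≠ ζ ∧ ε ≠ ζ) ⟨X, hX, h1, δ, ε, ζ, hδ, hε, hζ, n1, n2, n3⟩
  have hbig : ∀ Y : Subgroup G, X < Y → IsPGroup r Y → ∀ α β γ : Ω, Y ≤ stabilizer G α →
      Y ≤ stabilizer G β → Y ≤ stabilizer G γ → α ≠ β → α ≠ γ → β = γ := by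
    intro Y hlt hY α β γ k1 k2 k3 k4 k5
    by_contra k6
    have := hmax Y ⟨hY, Set.eq_empty_of_subset_empty (h1 ▸ Fx_mono (cent_anti hlt.le)),
      α, β, γ, k1, k2, k3, k4, k5, k6⟩
    have := H1.card_lt_of_lt hlt
    omega
  have hinv : ∀ c ∈ 𝐍(X), Inv c → ∀ α : Ω, X ≤ stabilizer G α → c • α ≠ α := by
    intro c hcN hc α hα e
    have : α ∈ Fx Ω 𝐂(X) := ⟨c, hnw.mem_cent hr hX hα hc e hcN, hc, e⟩
    rw [h1] at this
    exact this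
  have hXo := odd_of_isPGroup hr h2 hX
  have hrk : ¬ Rk2 𝐍(X) := fun hrk => by
    obtain ⟨a, haN, b, hbN, ha, hb, hab⟩ := id hrk
    obtain ⟨γ, eγ⟩ := h.ex ha
    exact hinv a haN ha γ (h.toSE.le_stab_of_rk2 hrk hXo le_rfl ⟨a, haN, ha, eγ⟩) eγ
  have hnpc := hasNPC_of_not_rk2 h.ab hrk
  have hON := Od_normal 𝐍(X)
  have hO : ∀ g ∈ Od 𝐍(X), ∀ α : Ω, X ≤ stabilizer G α → g • α = α := by
    intro g hg α hα
    by_contra hne
    have hβ : X ≤ stabilizer G (g • α) := le_stab_smul (hON.1 hg) hα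
    by_cases hs : IsSyl r X (St2 G α (g • α))
    · obtain ⟨v, hvN, hv, ev⟩ := h.exists_swap_norm hr (Ne.symm hne) hs
      obtain ⟨y, hy, e⟩ := exists_fixed_orbit (odd_Od _) hv (hON.2 hvN) hg ev
      exact hinv v hvN hv _ (le_stab_smul (hON.1 hy) hα) e
    · obtain ⟨Y0, hlt, hYD, hYn, hY0⟩ := exists_gt_of_not_isSyl hr hX (le_inf hα hβ) hs
      obtain ⟨Y, hY, hY0Y⟩ := exists_isSyl_ge hr hY0 (le_inf hYn hYD)
      have hlt' : X < Y := hlt.trans_le hY0Y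
      have hYα : Y ≤ stabilizer G α := (hY.le.trans inf_le_right).trans inf_le_left
      have hYβ : Y ≤ stabilizer G (g • α) := (hY.le.trans inf_le_right).trans inf_le_right
      have hYO : Y ≤ Od 𝐍(X) :=
        le_Od_of_npc hnpc (hY.le.trans inf_le_left) (odd_of_isPGroup hr h2 hY.pgrp)
      have hsyl : IsSyl r Y (Od 𝐍(X) ⊓ stabilizer G (g • α)) := by
        by_contra hns
        obtain ⟨Z, hYZ, hZ, hZn, hZp⟩ := exists_gt_of_not_isSyl hr hY.pgrp (le_inf hYO hYβ) hns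
        have hZα : Z ≤ stabilizer G α := fun z hz => by
          have k1 : z • α ≠ g • α := fun e =>
            hne (smul_left_cancel z (((hZ hz).2 : z • g • α = g • α).trans e.symm))
          exact hbig Y hlt' hY.pgrp (g • α) _ _ hYβ (le_stab_smul (hZn hz) hYα) hYα k1.symm hne
        exact hYZ.ne' (hY.eq_of_le hr hYZ.le (le_inf ((hZ.trans inf_le_left).trans hON.1)
          (le_inf hZα (hZ.trans inf_le_right))) hZp)
      have h3 : Y ^ᵍ g ≤ Od 𝐍(X) ⊓ stabilizer G (g • α) :=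
        le_inf (conj_le_of_mem hYO hg) (by rw [stabilizer_smul']; exact conj_mono hYα g)
      obtain ⟨k, hk, e⟩ := hsyl.exists_conj_eq hr (hsyl.of_card_eq hr h3 (card_conj Y g))
      rw [conj_conj, conj_eq_self_iff] at e
      have e1 : (k * g) • α = g • α := by rw [mul_smul]; exact hk.2
      have e2 : (k * g) • g • α = α :=
        hbig Y hlt' hY.pgrp (g • α) _ _ hYβ (le_stab_smul e hYβ) hYα
          (fun e3 => hne (smul_left_cancel (k * g) (e3.symm.trans e1.symm))) hne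
      exact hne (eq_of_swap_of_odd (odd_orderOf_of_mem (odd_Od _) (mul_mem hk.1 hg)) e1 e2).symm
  have hsw : ∀ β : Ω, X ≤ stabilizer G β → δ ≠ β → ∃ v ∈ 𝐍(X), Inv v ∧ v • δ = β := by
    intro β hβ hne
    refine h.exists_swap_norm hr hne ?_
    by_contra hs
    obtain ⟨Y, hlt, -, hYn, hY⟩ := exists_gt_of_not_isSyl hr hX (le_inf hδ hβ) hs
    have hYO : Y ≤ Od 𝐍(X) := le_Od_of_npc hnpc hYn (odd_of_isPGroup hr h2 hY)
    exact n3 (hbig Y hlt hY δ ε ζ (fun y hy => hO y (hYO hy) δ hδ)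
      (fun y hy => hO y (hYO hy) ε hε) (fun y hy => hO y (hYO hy) ζ hζ) n1 n2)
  obtain ⟨v, hvN, hv, ev⟩ := hsw ε hε n1
  obtain ⟨w, hwN, hw, ew⟩ := hsw ζ hζ n2
  have := hO _ (mem_Od_of_npc hnpc (mul_mem hvN hwN) (odd_mul_of_not_rk2 hrk hvN hwN hv hw)) ζ hζ
  rw [mul_smul, hw.smul_eq ew, ev] at this
  exact n3 this

end Min

end Cfsg.Agent.P6
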