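/-
Solvable groups with abelian Sylow 2-subgroups modulo the odd core.
-/
import Cfsg.Agent.P6.GL1
import Cfsg.Agent.P6.L12
import Cfsg.Agent.H1.PExp

set_option autoImplicit false
set_option linter.unusedSectionVars false

namespace Cfsg.Agent.P6

open Subgroup Cfsg Cfsg.Agent Cfsg.Agent.FT MulAction
open scoped commutatorElement

universe u v

variable {G : Type u} [Group G] [Finite G]

instance odNormal (H : Subgroup G) : ((Od H).subgroupOf H).Normal :=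
  H1.normal_subgroupOf_of_le (Od_normal H).2

/-- `H / O(H)`. -/
abbrev Qt (H : Subgroup G) : Type u := H ⧸ (Od H).subgroupOf H

/-- The projection to `H / O(H)`. -/
abbrev pr (H : Subgroup G) : H →* Qt H := H1.qmk H (Od H)

/-- `Ω₁(O₂(H / O(H)))`. -/
def Ab (H : Subgroup G) : Subgroup (Qt H) := omegaOne 2 (pCoreOf 2 ⊤)

theorem pr_eq_one {H : Subgroup G} {y : H} : pr H y = 1 ↔ (y : G) ∈ Od H := H1.qmk_eq_one_iff

theorem pr_comm_iff {H : Subgroup G} {x y : G} (hx : x ∈ H) (hy : y ∈ H) :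
    pr H ⟨x, hx⟩ * pr H ⟨y, hy⟩ = pr H ⟨y, hy⟩ * pr H ⟨x, hx⟩ ↔ ⁅x, y⁆ ∈ Od H := by
  rw [← commutatorElement_eq_one_iff_mul_comm, ← map_commutatorElement, pr_eq_one]
  rfl

theorem pr_eq_iff {H : Subgroup G} {x y : G} (hx : x ∈ H) (hy : y ∈ H) :
    pr H ⟨x, hx⟩ = pr H ⟨y, hy⟩ ↔ x⁻¹ * y ∈ Od H := by
  rw [← inv_mul_eq_one, ← map_inv, ← map_mul, pr_eq_one]
  rfl

theorem odd_orderOf_pr {H : Subgroup G} {x : G} (hx : x ∈ H) (ho : Odd (orderOf x)) :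
    Odd (orderOf (pr H ⟨x, hx⟩)) :=
  ho.of_dvd_nat ((orderOf_map_dvd _ _).trans (orderOf_coe (⟨x, hx⟩ : H)).symm.dvd)

theorem Inv.pr {H : Subgroup G} {a : G} (ha : Inv a) (haH : a ∈ H) : Inv (pr H ⟨a, haH⟩) :=
  ⟨fun e => ha.not_mem_of_odd (odd_Od H) (pr_eq_one.1 e), by
    rw [← map_mul, show (⟨a, haH⟩ * ⟨a, haH⟩ : H) = 1 from Subtype.ext ha.sq, map_one]⟩

theorem exists_inv_lift {H : Subgroup G} {z : Qt H} (hz : Inv z) :
    ∃ (a : G) (haH : a ∈ H), Inv a ∧ pr H ⟨a, haH⟩ = z := by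
  obtain ⟨x, rfl, l, hl⟩ := H1.exists_lift_pElement (H1.qmk_surjective (Y := H) (N := Od H))
    Nat.prime_two (y := z) (k := 1) (by rw [pow_one, pow_two, hz.sq])
  refine ⟨x, x.2, ⟨fun e => hz.ne (by rw [show x = 1 from Subtype.ext e, map_one]), ?_⟩, rfl⟩
  have h1 : (x : G) * x ∈ Od H := pr_eq_one.1 (show pr H (x * x) = 1 by rw [map_mul]; exact hz.sq)
  have h2 : orderOf ((x : G) * x) ∣ 2 ^ l := orderOf_dvd_of_pow_eq_one (by
    have : (x : G) ^ 2 ^ l = 1 := congrArg Subtype.val hl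
    rw [← pow_two, ← pow_mul, mul_comm, pow_mul, this, one_pow])
  obtain ⟨k, -, hk⟩ := (Nat.dvd_prime_pow Nat.prime_two).1 h2
  exact H8.eq_one_of_orderOf_pow_of_coprime hk
    (Nat.coprime_two_right.2 (odd_orderOf_of_mem (odd_Od H) h1))

theorem eq_one_of_odd_of_mem {P : Subgroup G} (hP : IsPGroup 2 P) {x : G} (hx : x ∈ P)
    (ho : Odd (orderOf x)) : x = 1 := by
  obtain ⟨k, hk⟩ := H8.exists_orderOf_eq_pow_of_mem hP hx
  exact H8.eq_one_of_orderOf_pow_of_coprime hk (Nat.coprime_two_right.2 ho)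

/-- A solvable subgroup with abelian Sylow 2-subgroups. -/
structure SA (H : Subgroup G) : Prop where
  sol : Group.IsSolvable H
  ab : ∀ P : Subgroup G, P ≤ H → IsPGroup 2 P → IsMulCommutative P

namespace SA

variable {H : Subgroup G} (h : SA H)
include h

theorem cent_le : 𝐂(pCoreOf 2 (⊤ : Subgroup (Qt H))) ≤ pCoreOf 2 ⊤ := by
  have := h.sol
  have h1 := pPrimeCoreOf_bar (Y := H) (N := Od H) Nat.prime_two (Od_normal H).1 le_rfl
    (Nat.coprime_two_right.2 (odd_Od H))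
  rw [H1.bar_top, H1.bar_self] at h1
  simpa using cent_pCoreOf_le (H := (⊤ : Subgroup (Qt H))) Nat.prime_two inferInstance h1

theorem comm {P : Subgroup (Qt H)} (hP : IsPGroup 2 P) : IsMulCommutative P := by
  obtain ⟨S, -, hS, rfl⟩ := H1.exists_isPGroup_map_eq (pr H) (Q := ⊤)
    (by rw [map_top_of_surjective _ H1.qmk_surjective]; exact le_top) hP
  have := (isMulComm_map_iff H.subtype_injective).1 (h.ab _ (map_subtype_le S) (hS.map _))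
  infer_instance

theorem le_core {P : Subgroup (Qt H)} (hP : IsPGroup 2 P) : P ≤ pCoreOf 2 ⊤ := by
  have h1 := h.comm (isPGroup_sup hP (H2.isPGroup_pCoreOf 2 ⊤)
    (le_top.trans (pCoreOf_normal 2 ⊤).2))
  exact ((le_sup_left.trans (isMulComm_iff_le_cent.1 h1)).trans (cent_anti le_sup_right)).trans
    h.cent_le

theorem mem_Ab {z : Qt H} : z ∈ Ab H ↔ z * z = 1 := by
  rw [Ab, mem_omegaOne_iff_of_comm (h.comm (H2.isPGroup_pCoreOf 2 ⊤)), pow_two]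
  refine ⟨fun e => e.2, fun e => ⟨h.le_core (P := zpowers z) ?_ (mem_zpowers z), e⟩⟩
  exact elemAb_isPGroup (elemAb_zpowers (by rwa [pow_two]))

theorem elem_Ab : IsElementaryAbelian 2 (Ab H) :=
  elemAb_omegaOne (h.comm (H2.isPGroup_pCoreOf 2 ⊤))

omit h in
theorem norm_Ab : ⊤ ≤ 𝐍(Ab H) := (pCoreOf_normal 2 ⊤).2.trans (norm_le_norm_omegaOne _ 2)

theorem eq_one_of_cent {z : Qt H} (ho : Odd (orderOf z)) (hc : z ∈ 𝐂(Ab H)) : z = 1 := by
  have hS := H2.isPGroup_pCoreOf 2 (⊤ : Subgroup (Qt H))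
  obtain ⟨n, hn⟩ := exists_card_eq_pow Nat.prime_two hS
  have h1 := H1.le_centralizer_of_abelian_of_prime_order (A := zpowers z) (h.comm hS)
    (le_top.trans (pCoreOf_normal 2 ⊤).2)
    (by rw [hn, Nat.card_zpowers]; exact (Nat.coprime_two_right.2 ho).pow_right n)
    (fun v hv hp => by
      rw [cent_zpowers, mem_cent1_comm]
      refine cent_le_cent1 (h.mem_Ab.2 ?_) hc
      exact (inv_of_orderOf (orderOf_eq_of_prime_of_mem Nat.prime_two hS hv hp)).sq)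
  exact eq_one_of_odd_of_mem hS (h.cent_le (h1 (mem_zpowers z))) ho

/-- (A1) -/
theorem comm_mem {a b : G} (ha : Inv a) (hb : Inv b) (haH : a ∈ H) (hbH : b ∈ H) :
    ⁅a, b⁆ ∈ Od H :=
  (pr_comm_iff haH hbH).1 (mem_cent.1 (isMulComm_iff_le_cent.1 h.elem_Ab.1
    (h.mem_Ab.2 (hb.pr hbH).sq)) _ (h.mem_Ab.2 (ha.pr haH).sq))

theorem mem_cent_Ab {x : G} (hx : x ∈ H) (hc : ∀ a ∈ H, Inv a → ⁅x, a⁆ ∈ Od H) :
    pr H ⟨x, hx⟩ ∈ 𝐂(Ab H) := by
  refine mem_cent.2 fun z hz => ?_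
  by_cases h1 : z = 1
  · simp [h1]
  obtain ⟨a, haH, ha, rfl⟩ := exists_inv_lift ⟨h1, h.mem_Ab.1 hz⟩
  exact ((pr_comm_iff hx haH).2 (hc a haH ha)).symm

/-- (A2) -/
theorem mem_Od {x : G} (hx : x ∈ H) (ho : Odd (orderOf x))
    (hc : ∀ a ∈ H, Inv a → ⁅x, a⁆ ∈ Od H) : x ∈ Od H :=
  pr_eq_one.1 (h.eq_one_of_cent (odd_orderOf_pr hx ho) (h.mem_cent_Ab hx hc))

theorem comm_mem_of_odd {x a : G} (hx : x ∈ H) (haH : a ∈ H) (ha : Inv a)
    (ho : Odd (orderOf ⁅x, a⁆)) : ⁅x, a⁆ ∈ Od H := by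
  have hm : ⁅x, a⁆ ∈ H := commutator_mem_commutator hx haH |> der_le H
  have h1 := h.mem_Ab.2 (ha.pr haH).sq
  have h2 : pr H ⟨_, hm⟩ ∈ Ab H := by
    rw [show (⟨_, hm⟩ : H) = ⁅(⟨x, hx⟩ : H), ⟨a, haH⟩⁆ from rfl, map_commutatorElement,
      commutatorElement_def]
    exact mul_mem (H1.conj_mem_of_le_normalizer norm_Ab (mem_top _) h1) (inv_mem h1)
  exact pr_eq_one.1 (eq_one_of_odd_of_mem (elemAb_isPGroup h.elem_Ab) h2 (odd_orderOf_pr hm ho))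

/-- (A7) -/
theorem mem_Od_of_inv {x a : G} (hx : x ∈ H) (haH : a ∈ H) (ha : Inv a) (ho : Odd (orderOf x))
    (hi : a * x * a = x⁻¹) : x ∈ Od H := by
  have e : ⁅x, a⁆ = x * x := by
    have := congrArg (·⁻¹) hi
    simp only [mul_inv_rev, ha.inv_eq, inv_inv] at this
    rw [commutatorElement_def, ha.inv_eq, mul_assoc, mul_assoc, this]
  refine mem_of_sq_mem ho (e ▸ h.comm_mem_of_odd hx haH ha ?_)
  rw [e, ← pow_two]
  exact ho.of_dvd_nat (orderOf_pow_dvd 2)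

theorem bar_omega {S : Subgroup G} (hS : IsSyl 2 S H) :
    H1.bar H (Od H) (omegaOne 2 S) = Ab H := by
  have hc := h.ab S hS.le hS.pgrp
  refine le_antisymm ?_ fun z hz => ?_
  · rintro _ ⟨y, hy, rfl⟩
    refine h.mem_Ab.2 ?_
    rw [← map_mul, ← pow_two, show y ^ 2 = 1 from
      Subtype.ext ((mem_omegaOne_iff_of_comm hc).1 hy).2, map_one]
  · have h1 := hS.bar (Y := H) (N := Od H) Nat.prime_two le_rfl
    rw [H1.bar_top] at h1
    obtain ⟨y, hy, rfl⟩ := H1.mem_bar.1 (h1.pCoreOf_le Nat.prime_two (omegaOne_le _ _ hz))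
    refine H1.qmk_mem_bar (mem_omegaOne hy ?_)
    have h2 : (y : G) * y ∈ Od H :=
      pr_eq_one.1 (show pr H (y * y) = 1 by rw [map_mul]; exact h.mem_Ab.1 hz)
    rw [pow_two]
    exact eq_one_of_odd_of_mem hS.pgrp (mul_mem hy hy) (odd_orderOf_of_mem (odd_Od H) h2)

/-- (A6) -/
theorem exists_omega {S : Subgroup G} (hS : IsSyl 2 S H) {b : G} (hb : Inv b) (hbH : b ∈ H) :
    ∃ a ∈ omegaOne 2 S, Inv a ∧ a⁻¹ * b ∈ Od H := by
  obtain ⟨y, hy, e⟩ := H1.mem_bar.1 ((h.bar_omega hS).ge (h.mem_Ab.2 (hb.pr hbH).sq))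
  refine ⟨y, hy, ⟨fun e2 => (hb.pr hbH).ne ?_, ?_⟩, (pr_eq_iff y.2 hbH).1 e⟩
  · rw [← e, show y = 1 from Subtype.ext e2, map_one]
  · rw [← pow_two]; exact ((mem_omegaOne_iff_of_comm (h.ab S hS.le hS.pgrp)).1 hy).2

theorem card_Ab : 𝐨(Ab H) = 2 ^ pRank 2 H := by
  obtain ⟨S, hS⟩ := exists_isSyl Nat.prime_two H
  rw [← h.bar_omega hS, card_bar_of_disj ((omegaOne_le _ _).trans hS.le), ← hS.pRank_eq Nat.prime_two]
  · exact (isElem_omegaOne_of_comm Nat.prime_two (h.ab S hS.le hS.pgrp)).card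
  · exact eq_bot_iff.2 fun x hx => eq_one_of_odd_of_mem hS.pgrp (omegaOne_le _ _ hx.2)
      (odd_orderOf_of_mem (odd_Od H) hx.1)

/-- (A8) -/
theorem le_Od_of_norm {S K : Subgroup G} (hS : IsSyl 2 S H) (hK : K ≤ H) (ho : Odd 𝐨(K))
    (hn : omegaOne 2 S ≤ 𝐍(K)) : K ≤ Od H := by
  intro x hx
  refine h.mem_Od (hK hx) (odd_orderOf_of_mem ho hx) fun b hbH hb => ?_
  obtain ⟨a, haS, ha, e⟩ := h.exists_omega hS hb hbH
  have haH := hS.le (omegaOne_le _ _ haS)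
  rw [← pr_comm_iff (hK hx) hbH, ← (pr_eq_iff haH hbH).2 e, pr_comm_iff]
  refine h.comm_mem_of_odd (hK hx) haH ha (odd_orderOf_of_mem ho ?_)
  rw [commutatorElement_def, mul_assoc, mul_assoc, ← mul_assoc a]
  exact mul_mem hx (H1.conj_mem_of_le_normalizer hn haS (inv_mem hx))

theorem gl1 {D : Subgroup G} (hD : D ≤ H) (ho : Odd 𝐨(D)) {a0 : G} (ha0 : Inv a0) (h0 : a0 ∈ H)
    (ht : ∀ a ∈ H, ∀ b ∈ H, Inv a → Inv b → ∃ d ∈ D, (d * a * d⁻¹)⁻¹ * b ∈ Od H) :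
    GL1 (Ab H) (H1.bar H (Od H) D) := by
  refine ⟨h.elem_Ab, fun e => (ha0.pr h0).ne (mem_bot.1 (e ▸ h.mem_Ab.2 (ha0.pr h0).sq)),
    le_top.trans norm_Ab, odd_card_bar ho, fun a ha a1 b hb b1 => ?_⟩
  obtain ⟨a, haH, ha', rfl⟩ := exists_inv_lift ⟨a1, h.mem_Ab.1 ha⟩
  obtain ⟨b, hbH, hb', rfl⟩ := exists_inv_lift ⟨b1, h.mem_Ab.1 hb⟩
  obtain ⟨d, hd, e⟩ := ht a haH b hbH ha' hb'
  refine ⟨pr H ⟨d, hD hd⟩, H1.qmk_mem_bar hd, ?_⟩
  rw [← map_inv, ← map_mul, ← map_mul]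
  exact (pr_eq_iff _ hbH).2 e

/-- (A3) -/
theorem exists_fpf {D : Subgroup G} (hD : D ≤ H) (ho : Odd 𝐨(D)) {a0 : G} (ha0 : Inv a0)
    (h0 : a0 ∈ H) (ht : ∀ a ∈ H, ∀ b ∈ H, Inv a → Inv b → ∃ d ∈ D, (d * a * d⁻¹)⁻¹ * b ∈ Od H)
    {N : Subgroup G} (hN : N ⊲ D) (hNW : ¬ N ≤ Od H) :
    ∃ x ∈ N, ∃ r : ℕ, r.Prime ∧ IsPGroup r (zpowers x) ∧ ∀ a ∈ H, Inv a → ⁅x, a⁆ ∉ Od H := by
  obtain ⟨F, -, -, -, hfpf, -, -, hF⟩ := (h.gl1 hD ho ha0 h0 ht).exists_F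
  have hodd : ∀ z ∈ H1.bar H (Od H) N, Odd (orderOf z) := fun z hz =>
    odd_orderOf_of_mem (odd_card_bar (odd_of_le hN.1 ho)) hz
  obtain ⟨z, hzN, hzF, hzC⟩ := hF _ (bar_normal hN) fun hc => hNW (by
    rw [← H1.bar_eq_bot_iff (Y := H) (hN.1.trans hD), eq_bot_iff]
    exact fun z hz => h.eq_one_of_cent (hodd z hz) (hc hz))
  obtain ⟨y, hy, hp⟩ := exists_prime_pow_mem (x := z) (by rintro rfl; exact hzC (one_mem _))
  have hyN := (zpowers_le.2 hzN) hy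
  have := Fact.mk hp
  obtain ⟨X, hX, hXp, e⟩ := H1.exists_isPGroup_map_eq (pr H) (Q := N.subgroupOf H)
    (R := zpowers y) (zpowers_le.2 hyN) (isPGroup_of_card_prime (Nat.card_zpowers y))
  obtain ⟨x, hx, rfl⟩ : y ∈ X.map (pr H) := e ▸ mem_zpowers y
  refine ⟨x, hX hx, _, hp, ?_, fun a haH ha hc => ?_⟩
  · have := (hXp.to_le (zpowers_le.2 hx)).map H.subtype
    rwa [MonoidHom.map_zpowers] at this
  · have h1 := hfpf _ ((zpowers_le.2 hzF) hy) _ (h.mem_Ab.2 (ha.pr haH).sq) (ha.pr haH).ne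
      ((pr_comm_iff x.2 haH).2 hc)
    have h2 := h.eq_one_of_cent (hodd _ hyN) h1
    rw [h2, orderOf_one] at hp
    exact Nat.not_prime_one hp

/-- (A5) -/
theorem pRank_eq {D : Subgroup G} (hD : D ≤ H) (ho : Odd 𝐨(D))
    (ht : ∀ a ∈ H, ∀ b ∈ H, Inv a → Inv b → ∃ d ∈ D, (d * a * d⁻¹)⁻¹ * b ∈ Od H)
    {R : Subgroup G} (hR : R ≤ D) {a : G} (ha : Inv a) (haH : a ∈ H)
    (hc : ∀ x ∈ R, ⁅x, a⁆ ∈ Od H)
    (hu : ∀ b ∈ H, Inv b → (∀ x ∈ R, ⁅x, b⁆ ∈ Od H) → a⁻¹ * b ∈ Od H) :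
    pRank 2 H = (Od H).relIndex R := by
  have hRH := hR.trans hD
  have hm := h.mem_Ab.2 (ha.pr haH).sq
  have hcc : H1.bar H (Od H) R ≤ 𝐂[pr H ⟨a, haH⟩] := by
    rintro _ ⟨y, hy, rfl⟩
    exact mem_cent1.2 ((pr_comm_iff y.2 haH).2 (hc y hy)).symm
  have h1 := (h.gl1 hD ho ha haH ht).card_eq_pow (H1.bar_mono hR) hm (ha.pr haH).ne hcc
  have h2 : Ab H ⊓ 𝐂(H1.bar H (Od H) R) = zpowers (pr H ⟨a, haH⟩) := by
    refine le_antisymm (fun z hz => ?_) (zpowers_le.2 ⟨hm, mem_cent_iff_cent1.2 hcc⟩)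
    by_cases h3 : z = 1
    · rw [h3]; exact one_mem _
    obtain ⟨b, hbH, hb, rfl⟩ := exists_inv_lift ⟨h3, h.mem_Ab.1 hz.1⟩
    rw [← (pr_eq_iff haH hbH).2 (hu b hbH hb fun x hx => (pr_comm_iff (hRH hx) hbH).1
      (mem_cent.1 hz.2 _ (H1.qmk_mem_bar (y := ⟨x, hRH hx⟩) hx)))]
    exact mem_zpowers _
  have h3 : 𝐂(Ab H).relIndex (H1.bar H (Od H) R) = 𝐨(H1.bar H (Od H) R) := by
    rw [← inf_relIndex_right, show 𝐂(Ab H) ⊓ H1.bar H (Od H) R = ⊥ from eq_bot_iff.2 fun z hz =>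
      h.eq_one_of_cent (odd_orderOf_of_mem (odd_card_bar (odd_of_le hR ho)) hz.2) hz.1,
      relIndex_bot_left]
  rw [h2, h3, (ha.pr haH).card_zpowers, h.card_Ab, H1.card_bar hRH] at h1
  exact Nat.pow_right_injective le_rfl h1

/-- Two involutions in different cosets of the odd core generate a four-group containing
subgroup. -/
theorem rk2_of_not_mem {a b : G} (ha : Inv a) (hb : Inv b) (haH : a ∈ H) (hbH : b ∈ H)
    (hne : a⁻¹ * b ∉ Od H) {N : Subgroup G} (haN : a ∈ N) (hbN : b ∈ N) : Rk2 N := by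
  by_contra hc
  have ho := odd_mul_of_not_rk2 hc haN hbN ha hb
  rw [ha.inv_eq] at hne
  exact hne (h.mem_Od_of_inv (mul_mem haH hbH) haH ha ho (by
    rw [ha.mul_cancel_left, mul_inv_rev, ha.inv_eq, hb.inv_eq]))

end SA

variable {Ω : Type v} [MulAction G Ω]

theorem Hyp.sa (h : Hyp G Ω) (α : Ω) : SA (stabilizer G α) := ⟨h.sol α, fun P _ => h.ab P⟩

theorem SE.isSyl_top (h : SE G Ω) {α : Ω} (hα : α ∈ Fx Ω (⊤ : Subgroup G)) {S : Subgroup G}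
    (hS : IsSyl 2 S (stabilizer G α)) : IsSyl 2 S ⊤ := by
  obtain ⟨a, -, ha, ea⟩ := hα
  obtain ⟨b, hb, hbi⟩ := exists_inv_of_even (X := S) fun ho => by
    have h1 := hS.card_dvd Nat.prime_two ha.isPGroup (zpowers_le.2 ea)
    rw [ha.card_zpowers] at h1
    exact (Nat.not_even_iff_odd.2 ho) (even_iff_two_dvd.2 h1)
  refine IsSyl.of_norm Nat.prime_two (hS.of_le (le_inf le_top (le_norm_self S)) fun g hg => ?_)
  exact h.smul_eq_of_conj hbi (hS.le hb) (hS.le ((mem_normalizer_iff.1 hg.2 b).1 hb))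

theorem Min.pRank_stab (h : Min G Ω) (α : Ω) :
    pRank 2 (stabilizer G α) = pRank 2 (⊤ : Subgroup G) := by
  obtain ⟨S, hS⟩ := exists_isSyl Nat.prime_two (stabilizer G α)
  rw [← hS.pRank_eq Nat.prime_two,
    (h.toSE.isSyl_top (h.mem_Fx_top α) hS).pRank_eq Nat.prime_two]

theorem Rk2.two_le_pRank {N : Subgroup G} (h : Rk2 N) : 2 ≤ pRank 2 N := by
  obtain ⟨a, haN, b, hbN, ha, hb, hne, hc⟩ := h
  have hbc : zpowers b ≤ 𝐂(zpowers a) := by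
    rw [cent_zpowers, zpowers_le]; exact mem_cent1.2 hc
  refine le_pRank Nat.prime_two (sup_le (zpowers_le.2 haN) (zpowers_le.2 hbN))
    (((isElem_one_iff Nat.prime_two).2 ha.card_zpowers).sup
      ((isElem_one_iff Nat.prime_two).2 hb.card_zpowers) hbc ?_)
  rcases inf_eq_bot_or_le_of_card_prime (ha.card_zpowers ▸ Nat.prime_two) (zpowers b) with e | e
  · exact e
  · exfalso
    obtain ⟨n, hn⟩ := mem_powers_iff_mem_zpowers.2 (e (mem_zpowers a))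
    rcases Nat.even_or_odd' n with ⟨k, rfl | rfl⟩
    · exact ha.ne (by rw [← hn]; simp only [pow_mul, pow_two, hb.sq, one_pow])
    · exact hne (by rw [← hn]; simp only [pow_succ, pow_mul, pow_zero, one_mul, hb.sq, one_pow])

theorem Min.trans_D (h : Min G Ω) {α β : Ω} (hne : α ≠ β) :
    ∀ a ∈ stabilizer G α, ∀ b ∈ stabilizer G α, Inv a → Inv b →
      ∃ d ∈ St2 G α β, (d * a * d⁻¹)⁻¹ * b ∈ Od (stabilizer G α) := by
  intro a haH b hbH ha hb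
  obtain ⟨d, hd, e⟩ := h.exists_conj_D ha hb haH hbH hne
  exact ⟨d, hd, by rw [e, inv_mul_cancel]; exact one_mem _⟩

theorem Od_conj (H : Subgroup G) (g : G) : Od (H ^ᵍ g) = Od H ^ᵍ g :=
  pPrimeCoreOf_conj g H Nat.prime_two

theorem Od_stab_smul (g : G) (α : Ω) :
    Od (stabilizer G (g • α)) = Od (stabilizer G α) ^ᵍ g := by
  rw [stabilizer_smul', Od_conj]

/-- The point stabilizers of the minimal group are maximal: no proper subgroup contains a point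
stabilizer properly. -/
theorem Min.eq_top (h : Min G Ω) {α : Ω} {M : Subgroup G} (hM : stabilizer G α ≤ M) {g : G}
    (hg : g ∈ M) (hne : g • α ≠ α) : M = ⊤ := by
  by_contra hM1
  obtain ⟨a, ha, ea⟩ := h.all α
  have hα : α ∈ Fx Ω M := ⟨a, hM ea, ha, ea⟩
  have hnt : (Fx Ω M).Nontrivial := ⟨_, smul_mem_Fx' hg hα, α, hα, hne⟩
  have hrk : Rk2 M := (h.toSE.rk2_stab h.rk2 (h.mem_Fx_top α)).mono (inf_le_right.trans hM)
  have hbt := h.ih M hM1 hrk hnt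
  have hst : ∀ δ ∈ Fx Ω M, stabilizer G δ ≤ M := fun δ hδ => by
    obtain ⟨k, hk, rfl⟩ := h.toSE.exists_smul_Fx hα hδ
    rw [stabilizer_smul']; exact conj_le_of_mem hM hk
  -- `M` is strongly embedded
  have hse : SE G (G ⧸ M) := by
    refine ⟨fun {c} hc x y hx hy => ?_, fun {c} hc => ?_⟩
    · obtain ⟨x, rfl⟩ := QuotientGroup.mk_surjective x
      obtain ⟨y, rfl⟩ := QuotientGroup.mk_surjective y
      have hx' : x⁻¹ * c * x ∈ M := by
        have := QuotientGroup.eq.1 (show ((c * x : G) : G ⧸ M) = x from hx).symm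
        rwa [← mul_assoc] at this
      have hy' : y⁻¹ * c * y ∈ M := by
        have := QuotientGroup.eq.1 (show ((c * y : G) : G ⧸ M) = y from hy).symm
        rwa [← mul_assoc] at this
      obtain ⟨k, hk, e⟩ := h.toSE.exists_conj hnt (hc.conj' x) (hc.conj' y) hx' hy'
      obtain ⟨δ, eδ⟩ := h.ex (hc.conj' x)
      have : x⁻¹ * y * k ∈ M := hst δ ⟨_, hx', hc.conj' x, eδ⟩ (h.toSE.cent1_le (hc.conj' x) eδ
        (mem_cent1_iff_conj.2 (by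
          calc x⁻¹ * y * k * (x⁻¹ * c * x) * (x⁻¹ * y * k)⁻¹
              = x⁻¹ * y * (k * (x⁻¹ * c * x) * k⁻¹) * (x⁻¹ * y)⁻¹ := by group
            _ = _ := by rw [e]; group)))
      exact QuotientGroup.eq.2 ((mul_mem_cancel_right hk).1 this)
    · obtain ⟨k, rfl⟩ := h.isConj ha hc
      refine ⟨(k : G ⧸ M), QuotientGroup.eq.2 ?_⟩
      have : (k * a * k⁻¹ * k)⁻¹ * k = a⁻¹ := by group
      show (k * a * k⁻¹ * k)⁻¹ * k ∈ M
      rw [this]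
      exact inv_mem (hM ea)
  have hstM : stabilizer G ((1 : G) : G ⧸ M) = M := stabilizer_quotient M
  obtain ⟨u, hu, huM⟩ : ∃ u : G, Inv u ∧ u ∉ M := by
    by_contra hc
    push Not at hc
    have := h.simple
    have h1 : (normalClosure {a}) ≤ M := by
      rw [normalClosure, closure_le]
      intro x hx
      obtain ⟨b, hb, e⟩ := Group.mem_conjugatesOfSet_iff.1 hx
      obtain ⟨k, rfl⟩ := isConj_iff.1 e
      rw [hb]
      exact hc _ (ha.conj k)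
    rcases (normalClosure_normal (s := {a})).eq_bot_or_eq_top with e | e
    · exact ha.ne (mem_bot.1 (e ▸ subset_normalClosure rfl))
    · exact hM1 (top_le_iff.1 (e ▸ h1))
  have hne1 : ((1 : G) : G ⧸ M) ≠ u • ((1 : G) : G ⧸ M) := fun e =>
    huM (hstM ▸ (mem_stabilizer_iff.2 e.symm))
  obtain ⟨D, hD⟩ : ∃ D, D = St2 G ((1 : G) : G ⧸ M) (u • ((1 : G) : G ⧸ M)) := ⟨_, rfl⟩
  have hDo : Odd 𝐨(D) := hD ▸ hse.odd_St2 hne1
  have hDM : D ≤ M := hD ▸ inf_le_left.trans hstM.le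
  have hDt : ∀ b ∈ M, ∀ c ∈ M, Inv b → Inv c → ∃ d ∈ D, d * b * d⁻¹ = c := by
    intro b hb c hc hbi hci
    obtain ⟨d, hd, e⟩ := hse.exists_conj_St2 (N := ⊤) hbi hci (hstM.ge hb) (hstM.ge hc) hne1
      (mem_top _) (mem_top _) (smul_mem_Fx' (mem_top u) ⟨b, mem_top _, hbi, hstM.ge hb⟩)
    exact ⟨d, hD ▸ hd.2, e⟩
  obtain ⟨ε, hε, hne2, hfix⟩ := hbt.exists_fixed h.toSE hnt hα (P := D ⊓ stabilizer G α)
    (odd_of_le inf_le_left hDo) (inf_le_left.trans hDM) inf_le_right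
  obtain ⟨b, hbM, hb, eb⟩ := id hε
  obtain ⟨d, hd, e⟩ := hDt a (hM ea) b hbM ha hb
  have ed : d • α = ε := h.toSE.smul_eq_of_conj ha ea (by rw [e, eb])
  have hdn : d ∈ 𝐍(D ⊓ stabilizer G α) := by
    rw [← conj_eq_self_iff, conj_inf, conj_eq_of_mem hd, ← stabilizer_smul', ed]
    refine (H1.eq_of_le_of_card_le (le_inf inf_le_left hfix) ?_).symm
    rw [← ed, stabilizer_smul']
    conv_lhs => rw [← conj_eq_of_mem hd, ← conj_inf, card_conj]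
  have h3 := le_stab_smul hdn hfix
  have h4 : d • ε ≠ ε := fun e => hne2 (smul_left_cancel d (e.trans ed.symm))
  have h5 : d • ε ≠ α := fun e =>
    hne2 (eq_of_swap_of_odd (odd_orderOf_of_mem hDo hd) ed e).symm
  obtain ⟨c, hcM, hc, ec, ec2⟩ := hbt.reg hα hε (smul_mem_Fx' (hDM hd) hε) hne2 h5 h4.symm
  -- all involutions fixing `α` send `ε` to the same point
  have h6 : ∀ c' : G, Inv c' → c' • α = α → c' • ε = d • ε := by
    intro c' hc' ec'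
    obtain ⟨k, hk, e⟩ := hDt c hcM c' (hM ec') hc hc'
    have ek : k • α = α := h.toSE.smul_eq_of_conj hc ec (by rw [e, ec'])
    have := conj_smul_smul k c ε
    rwa [e, hfix ⟨hk, ek⟩, ec2, h3 ⟨hk, ek⟩] at this
  obtain ⟨x, hx, y, hy, hxi, hyi, hxy, hcm⟩ := h.toSE.rk2_stab h.rk2 (h.mem_Fx_top α)
  refine hne2 (h.uniq (hxi.mul hyi hxy hcm) ?_ ?_)
  · rw [mul_smul, h6 y hyi hy.2, ← h6 x hxi hx.2, hxi.smul_smul]
  · rw [mul_smul, hy.2, hx.2]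

end Cfsg.Agent.P6
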