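/-
Strongly embedded point stabilizers whose involutions commute: double transitivity and the
regular normal subgroup of a point stabilizer.
-/
import Cfsg.Agent.P6.Str
import Cfsg.Agent.H6.Induction

set_option autoImplicit false
set_option linter.unusedSectionVars false

namespace Cfsg.Agent.P6

open Subgroup Cfsg Cfsg.Agent Cfsg.Agent.FT MulAction
open scoped commutatorElement

universe u v

/-- The subgroup generated by the involutions fixing `α`. -/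
def Av (G : Type u) [Group G] {Ω : Type v} [MulAction G Ω] (α : Ω) : Subgroup G :=
  closure (Iv G α)

/-- The simple group of the induction step, the involutions of a point stabilizer commute. -/
structure Mc (G : Type u) (Ω : Type v) [Group G] [MulAction G Ω] : Prop extends Min G Ω where
  comm : IComm G Ω

variable {G : Type u} [Group G] [Finite G] {Ω : Type v} [MulAction G Ω]

theorem rk2_of_two_lt {A : Subgroup G} (hA : ∀ a ∈ A, a * a = 1) (h : 2 < 𝐨(A)) : Rk2 A := by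
  have h1 : 1 < (sharp A).ncard := by rw [ncard_sharp]; omega
  obtain ⟨a, b, ha, hb, hab⟩ := (Set.one_lt_ncard_iff (Set.toFinite _)).1 h1
  exact ⟨a, ha.1, b, hb.1, ⟨ha.2, hA a ha.1⟩, ⟨hb.2, hA b hb.1⟩, hab,
    L.commute_of_sq_eq_one hA ha.1 hb.1⟩

namespace Mc

variable (h : Mc G Ω)
include h

theorem se : SE G Ω := h.toMin.toSE

theorem nw {r : ℕ} (hr : r.Prime) (h2 : r ≠ 2) : NW G Ω r := h.comm.nw hr h2

theorem mem_Av {α : Ω} {a : G} : a ∈ Av G α ↔ a * a = 1 ∧ a • α = α := by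
  refine ⟨fun ha => ?_, fun ha => ?_⟩
  · induction ha using closure_induction with
    | mem x hx => exact ⟨hx.1.sq, hx.2⟩
    | one => exact ⟨one_mul 1, one_smul _ _⟩
    | mul x y _ _ hx hy =>
      refine ⟨?_, by rw [mul_smul, hy.2, hx.2]⟩
      by_cases x1 : x = 1
      · rw [x1, one_mul, hy.1]
      by_cases y1 : y = 1
      · rw [y1, mul_one, hx.1]
      have := h.comm x y α ⟨x1, hx.1⟩ ⟨y1, hy.1⟩ hx.2 hy.2
      calc x * y * (x * y) = x * (y * x) * y := by group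
        _ = 1 := by rw [← this, ← mul_assoc, hx.1, one_mul, hy.1]
    | inv x _ hx => rw [L.inv_eq_self_of_mul_self hx.1]; exact hx
  · by_cases a1 : a = 1
    · rw [a1]; exact one_mem _
    · exact subset_closure ⟨⟨a1, ha.1⟩, ha.2⟩

theorem sq {α : Ω} {a : G} (ha : a ∈ Av G α) : a * a = 1 := (h.mem_Av.1 ha).1

theorem fix {α : Ω} {a : G} (ha : a ∈ Av G α) : a • α = α := (h.mem_Av.1 ha).2

theorem inv {α : Ω} {a : G} (ha : a ∈ Av G α) (h1 : a ≠ 1) : Inv a := ⟨h1, h.sq ha⟩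

theorem mem {α : Ω} {a : G} (ha : Inv a) (e : a • α = α) : a ∈ Av G α := h.mem_Av.2 ⟨ha.sq, e⟩

theorem A_le (α : Ω) : Av G α ≤ stabilizer G α := fun _ ha => h.fix ha

theorem A_comm (α : Ω) : Av G α ≤ 𝐂(Av G α) := fun _ ha =>
  mem_cent.2 fun _ hb => L.commute_of_sq_eq_one (fun _ => h.sq) hb ha

theorem elem (α : Ω) : IsElementaryAbelian 2 (Av G α) :=
  ⟨isMulComm_iff_le_cent.2 (h.A_comm α), fun _ ha => by rw [pow_two, h.sq ha]⟩

theorem conj_mem {α : Ω} {a : G} (ha : a ∈ Av G α) (g : G) : g * a * g⁻¹ ∈ Av G (g • α) :=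
  h.mem_Av.2 ⟨by
    calc g * a * g⁻¹ * (g * a * g⁻¹) = g * (a * a) * g⁻¹ := by group
      _ = 1 := by rw [h.sq ha]; group, conj_fix (h.fix ha)⟩

theorem A_smul (g : G) (α : Ω) : Av G (g • α) = Av G α ^ᵍ g := by
  ext x
  rw [mem_conj]
  refine ⟨fun hx => ?_, fun hx => ?_⟩
  · simpa using h.conj_mem hx g⁻¹
  · simpa [mul_assoc] using h.conj_mem hx g

theorem norm_A (α : Ω) : stabilizer G α ≤ 𝐍(Av G α) := fun g hg => by
  rw [← conj_eq_self_iff, ← h.A_smul, hg]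

theorem sharp_A (α : Ω) : sharp (Av G α) = Iv G α := by
  ext a
  exact ⟨fun ha => ⟨h.inv ha.1 ha.2, h.fix ha.1⟩, fun ha => ⟨h.mem ha.1 ha.2, ha.1.ne⟩⟩

theorem ncard_Iv_eq (α : Ω) : (Iv G α).ncard = 𝐨(Av G α) - 1 := by
  rw [← h.sharp_A, ncard_sharp]

theorem rk2_A (α : Ω) : Rk2 (Av G α) := by
  obtain ⟨x, hx, y, hy, hxi, hyi, hxy, hcm⟩ := h.se.rk2_stab h.rk2 (h.toMin.mem_Fx_top α)
  exact ⟨x, h.mem hxi hx.2, y, h.mem hyi hy.2, hxi, hyi, hxy, hcm⟩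

theorem exists_A (α : Ω) : ∃ a ∈ Av G α, a ≠ 1 := by
  obtain ⟨x, hx, -, -, hxi, -⟩ := h.rk2_A α
  exact ⟨x, hx, hxi.ne⟩

theorem A_ne (α : Ω) : Av G α ≠ ⊥ := fun e => by
  obtain ⟨a, ha, h1⟩ := h.exists_A α
  exact h1 (mem_bot.1 (e ▸ ha))

theorem card_A (α : Ω) : ∃ n, 2 ≤ n ∧ 𝐨(Av G α) = 2 ^ n := by
  have h1 := (h.rk2_A α).two_le_pRank
  exact ⟨_, h1, (isElem_pRank_of_elemAb Nat.prime_two (h.elem α)).card⟩

theorem four_le (α : Ω) : 4 ≤ 𝐨(Av G α) := by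
  obtain ⟨n, hn, e⟩ := h.card_A α
  rw [e]
  exact Nat.pow_le_pow_right two_pos hn

theorem C_le (α : Ω) : 𝐂(Av G α) ≤ stabilizer G α := by
  obtain ⟨a, ha, h1⟩ := h.exists_A α
  exact (cent_le_cent1 ha).trans (h.se.cent1_le (h.inv ha h1) (h.fix ha))

theorem norm_C (α : Ω) : stabilizer G α ≤ 𝐍(𝐂(Av G α)) :=
  H1.le_normalizer_centralizer (h.norm_A α)

theorem eq_one_of_fix {α β : Ω} (hne : α ≠ β) {a : G} (ha : a ∈ Av G α) (e : a • β = β) :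
    a = 1 := by
  by_contra h1
  exact hne (h.se.uniq (h.inv ha h1) (h.fix ha) e)

theorem gl1 {α β : Ω} (hne : α ≠ β) : GL1 (Av G α) (St2 G α β) :=
  ⟨h.elem α, h.A_ne α, inf_le_left.trans (h.norm_A α), h.se.odd_St2 hne, fun _ ha a1 _ hb b1 =>
    h.toMin.exists_conj_D (h.inv ha a1) (h.inv hb b1) (h.fix ha) (h.fix hb) hne⟩

theorem relIndex_D {α β : Ω} (hne : α ≠ β) {a : G} (ha : a ∈ Av G α) (h1 : a ≠ 1) :
    𝐂[a].relIndex (St2 G α β) = 𝐨(Av G α) - 1 := by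
  rw [← h.toMin.ncard_Iv (h.inv ha h1) (h.fix ha) hne, h.ncard_Iv_eq]

/-- An `r`-group centralizing an involution centralizes one at each fixed point. -/
theorem L1' {r : ℕ} (hr : r.Prime) (h2 : r ≠ 2) {X : Subgroup G} (hX : IsPGroup r X)
    {α : Ω} {a : G} (ha : a ∈ Av G α) (h1 : a ≠ 1) (hc : a ∈ 𝐂(X)) {δ : Ω}
    (hδ : X ≤ stabilizer G δ) : δ ∈ Fx Ω 𝐂(X) :=
  h.toMin.L1 hr (h.nw hr h2) hX ⟨α, a, hc, h.inv ha h1, h.fix ha⟩ hδ

/-- An `r`-group fixing three points centralizes an involution. -/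
theorem L2' {r : ℕ} (hr : r.Prime) (h2 : r ≠ 2) {X : Subgroup G} (hX : IsPGroup r X)
    {δ ε ζ : Ω} (hδ : X ≤ stabilizer G δ) (hε : X ≤ stabilizer G ε) (hζ : X ≤ stabilizer G ζ)
    (n1 : δ ≠ ε) (n2 : δ ≠ ζ) (n3 : ε ≠ ζ) : ∃ a ∈ Av G δ, a ≠ 1 ∧ a ∈ 𝐂(X) := by
  rcases (Fx Ω 𝐂(X)).eq_empty_or_nonempty with e | e
  · exact absurd (h.toMin.L2 hr h2 (h.nw hr h2) hX e hδ hε hζ n1 n2) n3
  · obtain ⟨a, ha, hi, ea⟩ := h.toMin.L1 hr (h.nw hr h2) hX e hδ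
    exact ⟨a, h.mem hi ea, hi.ne, ha⟩

theorem ne_two_of_dvd {α : Ω} {l : ℕ} (hd : l ∣ 𝐨(Av G α) - 1) : l ≠ 2 := by
  rintro rfl
  obtain ⟨n, hn, e⟩ := h.card_A α
  have h4 := h.four_le α
  have : 2 ∣ 𝐨(Av G α) := e ▸ dvd_pow_self 2 (by omega)
  omega

theorem syl_stab {α β : Ω} (hne : α ≠ β) {l : ℕ} (hl : l.Prime) (hd : l ∣ 𝐨(Av G α) - 1)
    {P : Subgroup G} (hP : IsSyl l P (St2 G α β)) :
    (∀ γ, α ≠ γ → P ≤ stabilizer G γ → γ = β) ∧ IsSyl l P (stabilizer G α) := by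
  have l2 := h.ne_two_of_dvd hd
  have k1 : ∀ γ, α ≠ γ → P ≤ stabilizer G γ → γ = β := fun γ n1 hγ => by
    by_contra n2
    obtain ⟨a, ha, a1, hc⟩ := h.L2' hl l2 hP.pgrp (hP.le.trans inf_le_left) hγ
      (hP.le.trans inf_le_right) n1 hne n2
    exact hP.ndvd ((h.relIndex_D hne ha a1 ▸ hd).trans
      (relIndex_dvd_of_le_left _ (mem_cent_iff_cent1.1 hc)))
  refine ⟨k1, ?_⟩
  by_contra hn
  obtain ⟨Y, lt, hY, hn, hp⟩ := exists_gt_of_not_isSyl hl hP.pgrp (hP.le.trans inf_le_left) hn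
  refine lt.ne' (hP.eq_of_le hl lt.le (le_inf hY fun y hy => ?_) hp)
  refine k1 _ (fun e => hne ?_) (le_stab_smul (hn hy) (hP.le.trans inf_le_right))
  exact smul_left_cancel y ((hY hy).trans e)

theorem two_trans {α β γ : Ω} (h1 : α ≠ β) (h2 : α ≠ γ) :
    ∃ g ∈ stabilizer G α, g • β = γ := by
  have h4 := h.four_le α
  obtain ⟨l, hl, hd⟩ := Nat.exists_prime_and_dvd (n := 𝐨(Av G α) - 1) (by omega)
  obtain ⟨P, hP⟩ := exists_isSyl hl (St2 G α β)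
  obtain ⟨P', hP'⟩ := exists_isSyl hl (St2 G α γ)
  obtain ⟨g, hg, e⟩ := (h.syl_stab h2 hl hd hP').2.exists_conj_eq hl (h.syl_stab h1 hl hd hP).2
  refine ⟨g, hg, (h.syl_stab h2 hl hd hP').1 _
    (fun e => h1 (smul_left_cancel g (hg.trans e))) ?_⟩
  rw [← e, stabilizer_smul']
  exact conj_mono (hP.le.trans inf_le_right) g

theorem exists_St2_conj {α β γ : Ω} (h1 : α ≠ β) (h2 : α ≠ γ) :
    ∃ g ∈ stabilizer G α, St2 G α γ = St2 G α β ^ᵍ g := by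
  obtain ⟨g, hg, e⟩ := h.two_trans h1 h2
  exact ⟨g, hg, by rw [← St2_smul, hg, e]⟩

theorem le_C_of_two {α : Ω} {S : Subgroup G} (hS : IsPGroup 2 S) (hl : S ≤ stabilizer G α) :
    S ≤ 𝐂(Av G α) := by
  have h1 : IsPGroup 2 (S ⊔ Av G α : Subgroup G) :=
    isPGroup_sup hS (elemAb_isPGroup (h.elem α)) (hl.trans (h.norm_A α))
  exact le_sup_left.trans ((isMulComm_iff_le_cent.1 (h.ab _ h1)).trans (cent_anti le_sup_right))

theorem odd_relIndex_C (α : Ω) : Odd (𝐂(Av G α).relIndex (stabilizer G α)) := by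
  obtain ⟨S, hS⟩ := exists_isSyl Nat.prime_two (stabilizer G α)
  rw [← Nat.not_even_iff_odd, even_iff_two_dvd]
  exact fun hd => hS.ndvd (hd.trans (relIndex_dvd_of_le_left _ (h.le_C_of_two hS.pgrp hS.le)))

/-- The normalizer of an `r`-group whose centralizer has rank two. -/
theorem bt_of_rk2 {r : ℕ} (hr : r.Prime) (h2 : r ≠ 2) {X N : Subgroup G} (hX : IsPGroup r X)
    (X1 : X ≠ ⊥) {α β : Ω} (hne : α ≠ β) (hD : X ≤ St2 G α β) (hk : Rk2 𝐂(X))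
    (h3 : 𝐂(X) ≤ N) (h4 : N ≤ 𝐍(X)) :
    BT Ω N ∧ (Fx Ω N).Nontrivial ∧ ∀ γ, X ≤ stabilizer G γ → γ ∈ Fx Ω N := by
  have k : ∀ γ, X ≤ stabilizer G γ → γ ∈ Fx Ω N := fun γ hγ => by
    obtain ⟨a, ha, -, -, hi, -⟩ := hk
    obtain ⟨δ, e⟩ := h.ex hi
    exact Fx_mono h3 (h.L1' hr h2 hX (h.mem hi e) hi.ne ha hγ)
  have nt : (Fx Ω N).Nontrivial :=
    ⟨α, k α (hD.trans inf_le_left), β, k β (hD.trans inf_le_right), hne⟩
  refine ⟨h.ih N (fun e => ?_) (hk.mono h3) nt, nt, k⟩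
  exact h.toMin.norm_ne_top_of_le X1 (hD.trans inf_le_left) (top_le_iff.1 (e ▸ h4))

theorem fix_of_rk2 {r : ℕ} (hr : r.Prime) (h2 : r ≠ 2) {X : Subgroup G} (hX : IsPGroup r X)
    (X1 : X ≠ ⊥) {α β : Ω} (hne : α ≠ β) (hD : X ≤ St2 G α β) (hk : Rk2 𝐂(X))
    {γ : Ω} (hγ : X ≤ stabilizer G γ) (n1 : γ ≠ α) : ∃ a ∈ Av G α, a • β = γ := by
  obtain ⟨hb, -, k⟩ := h.bt_of_rk2 hr h2 hX X1 hne hD hk le_rfl (cent_le_norm X)
  by_cases n2 : β = γ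
  · exact ⟨1, one_mem _, by rw [one_smul, n2]⟩
  obtain ⟨a, -, hi, e1, e2⟩ := hb.reg (k α (hD.trans inf_le_left)) (k β (hD.trans inf_le_right))
    (k γ hγ) hne.symm n1 n2
  exact ⟨a, h.mem hi e1, e2⟩

/-- `H = C(A) D`. -/
theorem stab_le {α β : Ω} (hne : α ≠ β) : stabilizer G α ≤ 𝐂(Av G α) ⊔ St2 G α β := by
  rcases (h.C_le α).eq_or_lt with e | lt
  · exact e.ge.trans le_sup_left
  obtain ⟨M, hM, ch⟩ := exists_chief_above (h.norm_C α) ⟨le_rfl, le_norm_self _⟩ lt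
  obtain ⟨l, hl, -, -, n, -, hi⟩ := chief_elem (h.sol α) ch
  obtain ⟨P, hP⟩ := exists_isSyl hl M
  have hM' : M ≤ 𝐂(Av G α) ⊔ P := by
    have hle : 𝐂(Av G α) ⊔ P ≤ M := sup_le ch.lt.le hP.le
    rw [← relIndex_eq_one]
    have d1 : (𝐂(Av G α) ⊔ P).relIndex M ∣ l ^ n := hi ▸ relIndex_dvd_of_le_left _ le_sup_left
    obtain ⟨k, -, e⟩ := (Nat.dvd_prime_pow hl).1 d1
    rcases k with _ | k
    · simpa using e
    · exact absurd ((e ▸ dvd_pow_self l k.succ_ne_zero : l ∣ _).trans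
        (relIndex_dvd_of_le_left _ le_sup_right)) hP.ndvd
  have nc : ∀ a ∈ Av G α, a ≠ 1 → a ∉ 𝐂(P) := fun a ha a1 hc => by
    refine ch.lt.not_ge (cent_comm.1 fun b hb => ?_)
    by_cases b1 : b = 1
    · rw [b1]; exact one_mem _
    obtain ⟨d, hd, rfl⟩ := (h.gl1 hne).trans a ha a1 b hb b1
    have : a ∈ 𝐂(M) := cent_anti hM' (by
      rw [cent_sup]; exact ⟨cent_comm.1 le_rfl ha, hc⟩)
    exact H1.conj_mem_of_le_normalizer (H1.le_normalizer_centralizer ch.normU) hd.1 this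
  have hd : l ∣ 𝐨(Av G α) - 1 := by
    by_contra nd
    rw [← h.ncard_Iv_eq] at nd
    obtain ⟨b, hb, hbP⟩ := exists_cent_of_not_dvd hl hP.pgrp (S := Iv G α)
      (fun x hx s hs => ⟨hs.1.conj x, conj_fix' hs.2 (hM (hP.le hx))⟩) nd
    exact nc b (h.mem hb.1 hb.2) hb.1.ne hbP
  obtain ⟨R, hR⟩ := exists_isSyl hl (St2 G α β)
  obtain ⟨g, hg, e⟩ := (h.syl_stab hne hl hd hR).2.exists_le_conj hl hP.pgrp (hP.le.trans hM)
  have n1 : α ≠ g • β := fun e => hne (smul_left_cancel g (hg.trans e))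
  have hPβ : P ≤ stabilizer G (g • β) := by
    rw [stabilizer_smul']; exact e.trans (conj_mono (hR.le.trans inf_le_right) g)
  have hN : stabilizer G α ⊓ 𝐍(P) ≤ St2 G α (g • β) := fun x hx => ⟨hx.1, by
    by_contra n2
    obtain ⟨a, ha, a1, hc⟩ := h.L2' hl (h.ne_two_of_dvd hd) hP.pgrp (hP.le.trans hM) hPβ
      (le_stab_smul hx.2 hPβ) n1 (fun e => n1 (smul_left_cancel x (hx.1.trans e))) (Ne.symm n2)
    exact nc a ha a1 hc⟩
  have h1 : stabilizer G α ≤ 𝐂(Av G α) ⊔ St2 G α (g • β) := by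
    rw [← hP.frattini hl ⟨hM, ch.normU⟩]
    exact sup_le (hM'.trans (sup_le_sup_left (le_inf (hP.le.trans hM) hPβ) _))
      (hN.trans le_sup_right)
  rw [← conj_le_conj_iff (g := g), conj_eq_of_mem hg, conj_sup, conj_eq_of_mem_norm (h.norm_C α hg),
    ← St2_smul, hg]
  exact h1

theorem exists_prime_D {α β : Ω} (hne : α ≠ β) {w : G} (hw : w ∈ St2 G α β) (w1 : w ≠ 1) :
    ∃ x ∈ zpowers w, ∃ r : ℕ, r.Prime ∧ r ≠ 2 ∧ orderOf x = r ∧ IsPGroup r (zpowers x) ∧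
      zpowers x ≠ ⊥ ∧ zpowers x ≤ St2 G α β := by
  obtain ⟨x, hx, hp⟩ := exists_prime_pow_mem w1
  have hD : x ∈ St2 G α β := zpowers_le.2 hw hx
  refine ⟨x, hx, _, hp, fun e => ?_, rfl, isPGroup_of_card_prime (Nat.card_zpowers x),
    ne_bot_of_card_prime (by rwa [Nat.card_zpowers]), zpowers_le.2 hD⟩
  exact (inv_of_orderOf e).not_mem_of_odd (h.se.odd_St2 hne) hD

theorem W_fix {α β : Ω} (hne : α ≠ β) {w : G} (hw : w ∈ St2 G α β ⊓ 𝐂(Av G α)) (w1 : w ≠ 1)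
    {γ : Ω} (hγ : w • γ = γ) (n1 : γ ≠ α) : ∃ a ∈ Av G α, a • β = γ := by
  obtain ⟨x, hx, r, hr, r2, -, hp, x1, hD⟩ := h.exists_prime_D hne hw.1 w1
  exact h.fix_of_rk2 hr r2 hp x1 hne hD ((h.rk2_A α).mono (cent_comm.1
    (zpowers_le.2 (zpowers_le.2 hw.2 hx)))) (zpowers_le.2 (zpowers_le (H := stabilizer G γ).2 hγ hx))
    n1

theorem W_le_cent {α β : Ω} (hne : α ≠ β) {u : G} (hu : Inv u) (eu : u • α = β) :
    St2 G α β ⊓ 𝐂(Av G α) ≤ 𝐂[u] := by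
  refine le_of_forall_isSyl_le fun r hr X hX => ?_
  by_cases X1 : X = ⊥
  · exact X1 ▸ bot_le
  have r2 : r ≠ 2 := by
    rintro rfl
    exact (Nat.not_even_iff_odd.2 (odd_of_le (hX.le.trans inf_le_left) (h.se.odd_St2 hne)))
      (even_iff_two_dvd.2 (prime_dvd_card_of_isPGroup hr hX.pgrp X1))
  have hA : Av G α ≤ 𝐂(X) := cent_comm.1 (hX.le.trans inf_le_right)
  obtain ⟨a, ha, a1⟩ := h.exists_A α
  obtain ⟨v, hv, vi, ev⟩ := h.se.exists_swap_Fx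
    (h.L1' hr r2 hX.pgrp ha a1 (hA ha) (hX.le.trans (inf_le_left.trans inf_le_left)))
    (h.L1' hr r2 hX.pgrp ha a1 (hA ha) (hX.le.trans (inf_le_left.trans inf_le_right))) hne
  have hB : Av G β ≤ 𝐂(X) := by
    rw [← ev, h.A_smul]; exact conj_le_of_mem hA hv
  have hb : u * a * u ∈ Av G β := by simpa [hu.inv_eq, eu] using h.conj_mem ha u
  obtain ⟨v', vi', e1, e2, e3⟩ := h.se.exists_swap (h.inv ha a1) ((h.inv ha a1).conj_inv hu)
    (h.fix ha) (h.fix hb) hne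
  rw [← h.se.swap_unique (h.inv ha a1) (h.fix ha) hne vi' e2 hu eu e1]
  exact mem_cent_iff_cent1.1 (e3 _ (hA ha) (hB hb))

end Mc

/-- `Q` is a normal subgroup of `G_α` that is regular on the other points. -/
structure Bn (α β : Ω) (Q : Subgroup G) : Prop extends Mc G Ω where
  ne : α ≠ β
  le : Q ≤ 𝐂(Av G α)
  Ale : Av G α ≤ Q
  norm : stabilizer G α ≤ 𝐍(Q)
  tr : ∀ γ, γ ≠ α → ∃ z ∈ Q, z • β = γ
  free : ∀ z ∈ Q, z • β = β → z = 1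

theorem Mc.exists_bn (h : Mc G Ω) {α β : Ω} (hne : α ≠ β) : ∃ Q : Subgroup G, Bn α β Q := by
  obtain ⟨A, hA⟩ : ∃ A, A = Av G α := ⟨_, rfl⟩
  obtain ⟨W, hW⟩ : ∃ W, W = St2 G α β ⊓ 𝐂(A) := ⟨_, rfl⟩
  have AC : A ≤ 𝐂(A) := hA ▸ h.A_comm α
  have WC : W ≤ 𝐂(A) := hW ▸ inf_le_right
  have CH : 𝐂(A) ≤ stabilizer G α := hA ▸ h.C_le α
  have HA : stabilizer G α ≤ 𝐍(A) := hA ▸ h.norm_A α
  have HC : stabilizer G α ≤ 𝐍(𝐂(A)) := hA ▸ h.norm_C α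
  have WA : W ≤ 𝐍(A) := WC.trans (cent_le_norm A)
  have sq : ∀ x ∈ A ⊔ W, x ∉ A → x * x ∈ W ∧ x * x ≠ 1 := fun x hx hxA => by
    obtain ⟨a, ha, w, hw, rfl⟩ := (mem_sup_of_norm WA).1 hx
    have e : a * w * (a * w) = w * w := by
      rw [mul_assoc, ← mul_assoc w, ← mem_cent.1 (WC hw) a ha, ← mul_assoc, ← mul_assoc,
        h.sq (hA ▸ ha), one_mul]
    rw [e]
    refine ⟨mul_mem hw hw, fun e => hxA ?_⟩
    rw [L.eq_one_of_sq_of_odd (h.se.odd_St2 hne) (hW ▸ hw).1 e, mul_one]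
    exact ha
  obtain ⟨N, hN, h1, h2, h3⟩ := H6.exists_normal_of_wielandt (G := 𝐂(A))
    (H := (A ⊔ W).subgroupOf 𝐂(A)) (L := A.subgroupOf 𝐂(A)) (subgroupOf_mono _ le_sup_left)
    (by
      have := H1.normal_subgroupOf_of_le (cent_le_norm A)
      infer_instance)
    (fun g hg x hx hgx => by
      by_contra hxA
      obtain ⟨s1, s2⟩ := sq x hx hxA
      obtain ⟨s3, -⟩ := sq _ hgx (fun e => hxA (by
        simpa [mul_assoc, mem_subgroupOf] using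
          H1.conj_mem_of_le_normalizer' (cent_le_norm A) g.2 e))
      have e1 : ((x : G) * x) • (g : G)⁻¹ • β = (g : G)⁻¹ • β := by
        have := mem_stabilizer_iff.1 (hW ▸ s3).1.2
        rw [eq_inv_smul_iff, smul_smul, smul_smul]
        convert this using 2
        simp [mul_assoc]
      obtain ⟨a, ha, e2⟩ := h.W_fix hne (hA ▸ hW ▸ s1) s2 e1 (fun e => hne (by
        rw [inv_smul_eq_iff] at e; rw [e, CH g.2]))
      rw [← hA] at ha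
      have e3 : (g : G) * a ∈ W := hW ▸ ⟨⟨CH (mul_mem g.2 (AC ha)), mem_stabilizer_iff.2 (by
        rw [mul_smul, e2, smul_inv_smul])⟩, mul_mem g.2 (AC ha)⟩
      refine hg (mem_subgroupOf.2 ?_)
      simpa using mul_mem (mem_sup_right e3 : _ ∈ A ⊔ W) (mem_sup_left (inv_mem ha)))
  have mQ : ∀ g, g ∈ N.map (𝐂(A)).subtype ↔ g ∈ 𝐂(A) ∧
      ∀ x ∈ 𝐂(A), x⁻¹ * g * x ∈ A ⊔ W → x⁻¹ * g * x ∈ A := fun g =>
    ⟨fun ⟨y, hy, e⟩ => e ▸ ⟨y.2, fun x hx => (h1 y).1 hy ⟨x, hx⟩⟩,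
      fun hg => ⟨⟨g, hg.1⟩, (h1 _).2 fun x => hg.2 x x.2, rfl⟩⟩
  have AQ : A ≤ N.map (𝐂(A)).subtype := fun a ha =>
    ⟨⟨a, AC ha⟩, (h2.ge (mem_subgroupOf.2 ha)).1, rfl⟩
  have nC : 𝐂(A) ≤ 𝐍(N.map (𝐂(A)).subtype) := fun c hc => mem_norm_of_conj_le (by
    rintro _ ⟨_, ⟨y, hy, rfl⟩, rfl⟩
    exact ⟨_, hN.conj_mem y hy ⟨c, hc⟩, rfl⟩)
  have hH := h.stab_le hne
  rw [← hA] at hH
  refine ⟨N.map (𝐂(A)).subtype, h, hne, hA ▸ map_subtype_le N, hA ▸ AQ,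
    hH.trans (sup_le nC fun d hd => mem_norm_of_conj_le ?_), fun γ n1 => ?_, fun z hz e => ?_⟩
  · rintro _ ⟨g, hg, rfl⟩
    obtain ⟨g1, g2⟩ := (mQ g).1 hg
    refine (mQ _).2 ⟨H1.conj_mem_of_le_normalizer HC hd.1 g1, fun x hx hm => ?_⟩
    have dW : d ∈ 𝐍(A ⊔ W) := H1.le_normalizer_sup (inf_le_left.trans HA)
      (hW ▸ H1.le_normalizer_inf (le_norm_self _) (inf_le_left.trans HC)) hd
    have := g2 _ (H1.conj_mem_of_le_normalizer' HC hd.1 hx) (by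
      simpa [mul_assoc] using H1.conj_mem_of_le_normalizer' le_rfl dW hm)
    simpa [mul_assoc] using H1.conj_mem_of_le_normalizer HA hd.1 this
  · obtain ⟨g, hg, rfl⟩ := h.two_trans hne n1.symm
    obtain ⟨c, hc, d, hd, rfl⟩ := (mem_sup_of_norm (inf_le_left.trans HC)).1 (hH hg)
    obtain ⟨z, hz, y, hy, e⟩ := mem_sup_of_normal_left.1 (h3.ge (mem_top (⟨c, hc⟩ : 𝐂(A))))
    obtain ⟨a, ha, w, hw, e'⟩ := (mem_sup_of_norm WA).1 (mem_subgroupOf.1 hy)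
    refine ⟨z * a, mul_mem ⟨z, hz, rfl⟩ (AQ ha), ?_⟩
    have e2 : c = z * a * w := by rw [mul_assoc, e']; exact (congrArg Subtype.val e).symm
    rw [hW] at hw
    rw [e2, mul_smul _ d, hd.2, mul_smul _ w, hw.1.2]
  · obtain ⟨g1, g2⟩ := (mQ z).1 hz
    have := g2 1 (one_mem _) (by
      simpa using mem_sup_right (hW ▸ ⟨⟨CH g1, e⟩, g1⟩ : z ∈ W))
    exact h.eq_one_of_fix hne (hA ▸ by simpa using this) e

end Cfsg.Agent.P6
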