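/-
The structure of the point stabilizer and the two easy end cases.
-/
import Cfsg.Agent.P6.End1
import Cfsg.Agent.P2.Main

set_option autoImplicit false
set_option linter.unusedSectionVars false

namespace Cfsg.Agent.P6

open Subgroup Cfsg Cfsg.Agent Cfsg.Agent.FT MulAction
open scoped commutatorElement

universe u v

variable {G : Type u} [Group G] [Finite G] {Ω : Type v} [MulAction G Ω]

theorem der_cycMod {F W Y : Subgroup G} (h : CycMod F W) (hWF : W ≤ F) (hF : F ≤ 𝐍(W))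
    (h1 : Y ≤ 𝐍(F)) (h2 : Y ≤ 𝐍(W)) : ⁅⁅Y, Y⁆, F⁆ ≤ W := by
  have := H1.normal_subgroupOf_of_le (inf_le_right : 𝐍(F) ⊓ 𝐍(W) ≤ 𝐍(W))
  have hF' : F ≤ 𝐍(F) ⊓ 𝐍(W) := le_inf (le_norm_self F) hF
  have hY : Y ≤ 𝐍(F) ⊓ 𝐍(W) := le_inf h1 h2
  rw [← H1.bar_le_centralizer_iff ((der_le Y).trans hY) hF', H1.bar_commutator hY hY]
  exact der_le_cent_of_cyclic ((cycMod_iff_bar (hWF.trans hF') hF').1 h) (H1.bar_le_normalizer h1)

theorem comm_of_cycMod {F W : Subgroup G} (h : CycMod F W) (hWF : W ≤ F) (hF : F ≤ 𝐍(W))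
    {k l : G} (hk : k ∈ F ⊓ 𝐂(W)) (hl : l ∈ F ⊓ 𝐂(W)) : k * l = l * k := by
  have := H1.normal_subgroupOf_of_le hF
  have h1 : CycMod (F ⊓ 𝐂(W)) W := (cycMod_iff_bar hWF inf_le_left).2
    (isCyclic_of_le (H1.bar_mono inf_le_left) ((cycMod_iff_bar hWF le_rfl).1 h))
  obtain ⟨x, hx, hle⟩ := h1
  have hn : W ≤ 𝐍(zpowers x) := (cent_comm.1 (zpowers_le.2 hx.2)).trans (cent_le_norm _)
  obtain ⟨_, ⟨i, rfl⟩, w, hw, rfl⟩ := (mem_sup_of_norm hn).1 (hle hk)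
  obtain ⟨_, ⟨j, rfl⟩, w', hw', rfl⟩ := (mem_sup_of_norm hn).1 (hle hl)
  have c1 : Commute w x := mem_cent.1 hx.2 w hw
  have c2 : Commute w' x := mem_cent.1 hx.2 w' hw'
  have c3 : Commute w (x ^ j * w') := mem_cent.1 hl.2 w hw
  exact ((((Commute.refl x).zpow_zpow i j).mul_right (c2.symm.zpow_left i)).mul_left c3).eq

theorem finite_orbit (Y : Subgroup G) (b : Ω) : {c | ∃ y ∈ Y, y • b = c}.Finite :=
  (Set.toFinite (Y : Set G)).image (· • b)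

namespace Bn

variable {α β : Ω} {Q : Subgroup G} (h : Bn α β Q)
include h

theorem mc : Mc G Ω := h.toMc

theorem mn : Min G Ω := h.toMc.toMin

theorem se : SE G Ω := h.toMc.se

theorem QH : Q ≤ stabilizer G α := h.le.trans (h.mc.C_le α)

theorem smul_ne {g : G} (hg : g ∈ stabilizer G α) : g • β ≠ α := fun e =>
  h.ne (smul_left_cancel g (hg.trans e.symm))

theorem eq_of_smul {z z' : G} (hz : z ∈ Q) (hz' : z' ∈ Q) (e : z • β = z' • β) : z = z' :=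
  (inv_mul_eq_one.1 (h.free _ (mul_mem (inv_mem hz) hz') (by
    rw [mul_smul, ← e, inv_smul_smul])))

theorem sd : SdProd Q (St2 G α β) (stabilizer G α) := by
  refine ⟨le_antisymm (sup_le h.QH inf_le_left) fun g hg => ?_, inf_le_left.trans h.norm,
    eq_bot_iff.2 fun z hz => h.free z hz.1 hz.2.2⟩
  obtain ⟨z, hz, e⟩ := h.tr _ (h.smul_ne hg)
  rw [← mul_inv_cancel_left z g]
  exact mul_mem_sup hz (mem_inf.2 ⟨mul_mem (inv_mem (h.QH hz)) hg, mem_stabilizer_iff.2 (by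
    rw [mul_smul, ← e, inv_smul_smul])⟩)

theorem free' {z : G} (hz : z ∈ Q) {γ : Ω} (n1 : γ ≠ α) (e : z • γ = γ) : z = 1 := by
  obtain ⟨y, hy, rfl⟩ := h.tr γ n1
  simpa using h.eq_of_smul (mul_mem hz hy) hy (by rw [mul_smul, e])

theorem cent_le {z : G} (hz : z ∈ Q) (z1 : z ≠ 1) : 𝐂[z] ≤ stabilizer G α := fun g hg => by
  by_contra n1
  refine z1 (h.free' hz n1 ?_)
  rw [← mul_smul, mem_cent1.1 hg, mul_smul, h.QH hz]

theorem ncard_orb {Y : Subgroup G} (hY : Y ≤ Q) : {c | ∃ y ∈ Y, y • β = c}.ncard = 𝐨(Y) := by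
  rw [ncard_orbit, ← H1.card_inf_mul_relIndex (stabilizer G β) Y,
    show stabilizer G β ⊓ Y = ⊥ from eq_bot_iff.2 fun z hz => h.free z (hY hz.2) hz.1,
    card_bot, one_mul]

theorem index_eq : (stabilizer G α).index = 𝐨(Q) + 1 := by
  have hn : α ∉ {c | ∃ y ∈ Q, y • β = c} := fun ⟨y, hy, e⟩ => h.smul_ne (h.QH hy) e
  rw [← relIndex_top_right, ← ncard_orbit, ← h.ncard_orb le_rfl,
    ← Set.ncard_insert_of_notMem hn (finite_orbit Q β)]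
  congr 1
  ext c
  refine ⟨fun _ => ?_, fun _ => ?_⟩
  · by_cases e : c = α
    · exact Or.inl e
    · exact Or.inr (h.tr c e)
  · obtain ⟨g, e⟩ := h.mn.trans α c
    exact ⟨g, mem_top g, e⟩

theorem exists_cent {d : G} (hd : d ∈ St2 G α β) {γ : Ω} (n1 : γ ≠ α) (e : d • γ = γ) :
    ∃ z ∈ Q ⊓ 𝐂[d], z • β = γ := by
  obtain ⟨z, hz, rfl⟩ := h.tr γ n1
  refine ⟨z, ⟨hz, mem_cent1_comm.1 (mem_cent1_iff_conj.2 ?_)⟩, rfl⟩
  refine h.eq_of_smul (H1.conj_mem_of_le_normalizer h.norm hd.1 hz) hz ?_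
  rw [mul_smul, mul_smul, (mem_St2.1 (inv_mem hd)).2, e]

theorem fix_of_cent {X : Subgroup G} (hX : X ≤ St2 G α β) {z : G} (hz : z ∈ 𝐂(X)) :
    X ≤ stabilizer G (z • β) := fun x hx => by
  rw [mem_stabilizer_iff, ← mul_smul, mem_cent.1 hz x hx, mul_smul, (hX hx).2]

theorem QC_eq_bot {r : ℕ} (hr : r.Prime) (h2 : r ≠ 2) {X : Subgroup G} (hX : IsPGroup r X)
    (hD : X ≤ St2 G α β) (hn : ∀ a ∈ Av G α, a ≠ 1 → a ∉ 𝐂(X)) : Q ⊓ 𝐂(X) = ⊥ :=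
  eq_bot_iff.2 fun z hz => by
    by_contra z1
    obtain ⟨a, ha, a1, hc⟩ := h.mc.L2' hr h2 hX (hD.trans inf_le_left) (hD.trans inf_le_right)
      (h.fix_of_cent hD hz.2) h.ne (h.smul_ne (h.QH hz.1)).symm
      (fun e => z1 (h.free z hz.1 e.symm))
    exact hn a ha a1 hc

theorem QC_le_A {r : ℕ} (hr : r.Prime) (h2 : r ≠ 2) {X : Subgroup G} (hX : IsPGroup r X)
    (X1 : X ≠ ⊥) (hD : X ≤ St2 G α β) (hk : Rk2 𝐂(X)) : Q ⊓ 𝐂(X) ≤ Av G α := fun z hz => by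
  obtain ⟨a, ha, e⟩ := h.mc.fix_of_rk2 hr h2 hX X1 h.ne hD hk (h.fix_of_cent hD hz.2)
    (h.smul_ne (h.QH hz.1))
  exact h.eq_of_smul (h.Ale ha) hz.1 e ▸ ha

theorem ne_two {X : Subgroup G} (hD : X ≤ St2 G α β) : 𝐨(X) ≠ 2 := fun e => by
  have := odd_of_le hD (h.se.odd_St2 h.ne)
  rw [e] at this
  exact absurd this (by decide)

/-- The cyclic part of `D`. -/
theorem exists_F : ∃ F : Subgroup G, F ≤ St2 G α β ∧ ⁅St2 G α β, St2 G α β⁆ ≤ F ∧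
    (∀ f ∈ F, ∀ a ∈ Av G α, a ≠ 1 → f * a = a * f → f ∈ 𝐂(Av G α)) ∧
    ∀ u, Inv u → u • α = β → ∀ k ∈ St2 G α β, u * k * u = k⁻¹ → ∀ l ∈ St2 G α β,
      u * l * u = l⁻¹ → k * l = l * k := by
  obtain ⟨F, hn, hW, hc, hf, hs, hm, -⟩ := (h.mc.gl1 h.ne).exists_F
  have nW : St2 G α β ≤ 𝐍(St2 G α β ⊓ 𝐂(Av G α)) :=
    H1.le_normalizer_inf (le_norm_self _) (inf_le_left.trans (h.mc.norm_C α))
  have key : ∀ Y : Subgroup G, Y ≤ 𝐍(F) → Y ≤ 𝐍(St2 G α β ⊓ 𝐂(Av G α)) →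
      ∀ d ∈ ⁅Y, Y⁆, d ∈ St2 G α β → d ∈ F := fun Y h1 h2 d hd hD =>
    hs d hD fun f hf => (der_cycMod hc hW (hn.1.trans nW) h1 h2
      (commutator_mem_commutator hd hf)).2
  refine ⟨F, hn.1, fun d hd => key _ hn.2 nW d hd (der_le _ hd), hf, fun u hu eu => ?_⟩
  have uD := Min.J_mem_norm hu eu
  have uW : u ∈ 𝐍(St2 G α β ⊓ 𝐂(Av G α)) :=
    cent_le_norm _ (mem_cent_iff_cent1.2 (h.mc.W_le_cent h.ne hu eu))
  have uF : u ∈ 𝐍(F) := mem_norm_of_conj_le (hm _ ⟨conj_le_of_mem_norm hn.1 uD, by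
      rw [← conj_eq_of_mem_norm uD]; exact conj_le_norm_iff.2 hn.2⟩ (by
    rw [← conj_comm]
    exact (conj_le_of_mem_norm (hc.der_le (hn.1.trans nW) hW) uW).trans inf_le_right))
  have mem : ∀ k ∈ St2 G α β, u * k * u = k⁻¹ → k ∈ F ⊓ 𝐂(St2 G α β ⊓ 𝐂(Av G α)) := by
    intro k hk e
    refine ⟨?_, ?_⟩
    · refine mem_of_sq_mem (odd_orderOf_of_mem (h.se.odd_St2 h.ne) hk) ?_
      refine key (St2 G α β ⊔ zpowers u) (sup_le hn.2 (zpowers_le.2 uF))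
        (sup_le nW (zpowers_le.2 uW)) _ ?_ (mul_mem hk hk)
      have := commutator_mem_commutator (mem_sup_left hk : k ∈ St2 G α β ⊔ zpowers u)
        (mem_sup_right (mem_zpowers u) : u ∈ St2 G α β ⊔ zpowers u)
      rwa [commutatorElement_def, hu.inv_eq, ← e, show k * u * (u * k * u) * u = k * k by
        simp [mul_assoc, hu.mul_cancel_left, hu.sq]] at this
    · obtain ⟨i1, i2⟩ := SE.inv_mul_K eu h.ne hk e
      rw [← hu.mul_cancel_left k]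
      exact mul_mem (mem_cent_iff_cent1.2 (h.mc.W_le_cent h.ne hu eu))
        (mem_cent_iff_cent1.2 (h.mc.W_le_cent h.ne i1 i2))
  exact fun k hk e l hl e' => comm_of_cycMod hc hW (hn.1.trans nW) (mem k hk e) (mem l hl e')

theorem exists_K {u : G} (hu : Inv u) (eu : u • α = β) : ∃ K : Subgroup G,
    (∀ k, k ∈ K ↔ k ∈ St2 G α β ∧ u * k * u = k⁻¹) ∧ 𝐨(K) = 𝐨(Av G α) - 1 ∧ Frob Q K := by
  obtain ⟨F, -, -, -, hc⟩ := h.exists_F
  let K : Subgroup G :=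
    { carrier := {k | k ∈ St2 G α β ∧ u * k * u = k⁻¹}
      mul_mem' := fun {k l} hk hl => ⟨mul_mem hk.1 hl.1, by
        rw [hc u hu eu k hk.1 hk.2 l hl.1 hl.2, mul_inv_rev, ← hk.2, ← hl.2,
          hc u hu eu l hl.1 hl.2 k hk.1 hk.2]
        simp [mul_assoc, hu.mul_cancel_left]⟩
      one_mem' := ⟨one_mem _, by simp [hu.sq]⟩
      inv_mem' := fun {k} hk => ⟨inv_mem hk.1, by
        rw [inv_inv, ← hk.2]; simp [mul_assoc, hu.mul_cancel_left, hu.sq]⟩ }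
  have hK : ∀ k, k ∈ K ↔ k ∈ St2 G α β ∧ u * k * u = k⁻¹ := fun _ => Iff.rfl
  have nc : ∀ k ∈ K, ∀ a ∈ Av G α, a ≠ 1 → k * a = a * k → k = 1 := fun k hk a ha a1 e =>
    h.se.K_eq_one hu eu h.ne (h.mc.inv ha a1) (h.mc.fix ha) hk.1 hk.2 e
  have cK : 𝐨(K) = 𝐨(Av G α) - 1 := by
    obtain ⟨a, ha, a1⟩ := h.mc.exists_A α
    rw [← H1.card_inf_mul_relIndex 𝐂[a] K, show 𝐂[a] ⊓ K = ⊥ from eq_bot_iff.2 fun k hk =>
      nc k hk.2 a ha a1 (mem_cent1.1 hk.1).symm, card_bot, one_mul, ← ncard_class,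
      ← h.mc.ncard_Iv_eq]
    congr 1
    ext b
    refine ⟨?_, fun hb => ?_⟩
    · rintro ⟨k, hk, rfl⟩
      exact ⟨(h.mc.inv ha a1).conj k, conj_fix' (h.mc.fix ha) hk.1.1⟩
    · obtain ⟨k, hk, e1, e2, -⟩ := h.se.exists_K hu eu h.ne (h.mc.inv ha a1) hb.1 (h.mc.fix ha) hb.2
      exact ⟨k, ⟨hk, e1⟩, e2⟩
  have KD : K ≤ St2 G α β := fun _ hk => hk.1
  refine ⟨K, hK, cK, fun e => h.mc.A_ne α (eq_bot_iff.2 (e ▸ h.Ale)), fun e => ?_,
    KD.trans (inf_le_left.trans h.norm), semiReg_of_prime fun X hX hp => ?_⟩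
  · have := h.mc.four_le α
    rw [e, card_bot] at cK
    omega
  · refine h.QC_eq_bot hp (h.ne_two (hX.trans KD)) (isPGroup_of_card_prime rfl) (hX.trans KD)
      fun a ha a1 hc => ne_bot_of_card_prime hp (eq_bot_iff.2 fun x hx => ?_)
    exact nc x (hX hx) a ha a1 (mem_cent.1 hc x hx)

theorem nil : Group.IsNilpotent Q := by
  obtain ⟨u, hu, eu⟩ := h.mn.exists_J h.ne
  obtain ⟨K, -, -, hf⟩ := h.exists_K hu eu
  exact hf.nilpotent

/-- If `Q = A` then no element of `D` centralizes an involution of `A`. -/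
theorem V_eq_bot (hQ : Q ≤ Av G α) {a : G} (ha : a ∈ Av G α) (a1 : a ≠ 1) :
    St2 G α β ⊓ 𝐂[a] = ⊥ := by
  obtain ⟨u, hu, eu⟩ := h.mn.exists_J h.ne
  obtain ⟨K, hK, -, -⟩ := h.exists_K hu eu
  have eu' := hu.smul_eq eu
  have nA : ∀ k ∈ K, ∀ a ∈ Av G α, k * a * k⁻¹ ∈ Av G α := fun k hk a ha =>
    H1.conj_mem_of_le_normalizer (h.mc.norm_A α) ((hK k).1 hk).1.1 ha
  have uk : ∀ k ∈ K, u * k = k⁻¹ * u := fun k hk => by
    rw [← ((hK k).1 hk).2, hu.mul_cancel_right]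
  have JK : ∀ j, Inv j → j • α = β → u * j ∈ K := fun j hj ej => (hK _).2
    ⟨mem_St2.2 ⟨by rw [mul_smul, ej, eu'], by rw [mul_smul, hj.smul_eq ej, eu]⟩, by
      rw [hu.mul_cancel_left, mul_inv_rev, hu.inv_eq, hj.inv_eq]⟩
  let L0 : Set G := {g | (∃ a ∈ Av G α, ∃ k ∈ K, g = a * k) ∨
    ∃ a ∈ Av G α, ∃ k ∈ K, ∃ b ∈ Av G α, g = a * k * u * b}
  have lA : ∀ c ∈ Av G α, ∀ x ∈ L0, c * x ∈ L0 := by
    rintro c hc _ (⟨a, ha, k, hk, rfl⟩ | ⟨a, ha, k, hk, b, hb, rfl⟩)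
    · exact Or.inl ⟨_, mul_mem hc ha, k, hk, by group⟩
    · exact Or.inr ⟨_, mul_mem hc ha, k, hk, b, hb, by group⟩
  have lK : ∀ c ∈ K, ∀ x ∈ L0, c * x ∈ L0 := by
    rintro c hc _ (⟨a, ha, k, hk, rfl⟩ | ⟨a, ha, k, hk, b, hb, rfl⟩)
    · exact Or.inl ⟨_, nA c hc a ha, _, mul_mem hc hk, by group⟩
    · exact Or.inr ⟨_, nA c hc a ha, _, mul_mem hc hk, b, hb, by group⟩
  have lu : ∀ x ∈ L0, u * x ∈ L0 := by
    rintro _ (⟨a, ha, k, hk, rfl⟩ | ⟨a, ha, k, hk, b, hb, rfl⟩)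
    · refine Or.inr ⟨1, one_mem _, _, inv_mem hk, _, nA _ (inv_mem hk) a ha, ?_⟩
      rw [one_mul, ← uk k hk]; group
    by_cases a1 : a = 1
    · refine Or.inl ⟨_, nA _ (inv_mem hk) b hb, _, inv_mem hk, ?_⟩
      rw [a1, one_mul, ← mul_assoc, ← mul_assoc, uk k hk, hu.mul_cancel_right]; group
    have ht := (h.mc.inv ha a1).conj_inv hu
    obtain ⟨c, hc, e⟩ := h.tr ((u * a * u) • α) (fun e => a1 (h.mc.eq_one_of_fix h.ne ha (by
      rw [mul_smul, mul_smul, eu] at e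
      exact (hu.smul_eq e).symm.trans eu)))
    have hc' := hQ hc
    have hj : u * (c⁻¹ * (u * a * u) * c) ∈ K := JK _ (ht.conj' c) (by
      rw [mul_smul, h.QH hc, mul_smul, ← e, inv_smul_smul])
    generalize ek : u * (c⁻¹ * (u * a * u) * c) = k' at hj
    have e1 : u * a = c * (u * k') * c⁻¹ * u := by
      rw [← ek, hu.mul_cancel_left]; simp [mul_assoc, hu.sq]
    refine Or.inr ⟨c, hc', _, mul_mem (inv_mem hj) hk, _,
      mul_mem (nA _ hk _ (inv_mem hc')) hb, ?_⟩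
    have e2 := uk _ (inv_mem hk)
    rw [inv_inv] at e2
    calc u * (a * k * u * b) = u * a * (k * u) * b := by group
      _ = c * k'⁻¹ * (u * c⁻¹ * (u * u) * k⁻¹) * b := by rw [e1, uk _ hj, ← e2]; group
      _ = c * k'⁻¹ * (u * k⁻¹) * (k * c⁻¹ * k⁻¹ * b) := by rw [hu.sq]; group
      _ = _ := by rw [e2]; group
  let M : Subgroup G :=
    { carrier := {g | ∀ x, g * x ∈ L0 ↔ x ∈ L0}
      mul_mem' := fun {a b} ha hb x => by rw [mul_assoc, ha, hb]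
      one_mem' := fun x => by rw [one_mul]
      inv_mem' := fun {a} ha x => by rw [← ha, mul_inv_cancel_left] }
  have mM : ∀ g, g * g = 1 → (∀ x ∈ L0, g * x ∈ L0) → g ∈ M := fun g hg hl x =>
    ⟨fun hx => by simpa [← mul_assoc, hg] using hl _ hx, hl x⟩
  have hL : Av G α ⊔ closure (Jv G α β) ≤ M := sup_le (fun c hc => mM c (h.mc.sq hc) (lA c hc))
    ((closure_le _).2 fun j hj => mM j hj.1.sq fun x hx => by
      simpa [mul_assoc, hu.mul_cancel_left] using lu _ (lK _ (JK j hj.1 hj.2) x hx))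
  have hT : Av G α ⊔ closure (Jv G α β) = ⊤ := by
    by_contra hn
    refine h.mn.norm_ne_top (fun e => h.mc.A_ne α (eq_bot_iff.2 (e ▸ le_sup_left))) hn
      (h.mn.eq_top (α := α) ?_ (le_norm_self _ (mem_sup_right (subset_closure ⟨hu, eu⟩)))
        (eu ▸ h.ne.symm))
    rw [← h.sd.sup]
    refine sup_le (hQ.trans (le_sup_left.trans (le_norm_self _)))
      (H1.le_normalizer_sup (inf_le_left.trans (h.mc.norm_A α)) fun d hd =>
        mem_norm_of_conj_le ?_)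
    rw [MonoidHom.map_closure]
    refine closure_mono ?_
    rintro _ ⟨j, hj, rfl⟩
    refine ⟨hj.1.conj d, ?_⟩
    have := conj_smul_smul d j α
    rwa [hd.1, hj.2, hd.2] at this
  refine eq_bot_iff.2 fun v hv => ?_
  have := (hL (hT ▸ mem_top v) 1).2 (Or.inl ⟨1, one_mem _, 1, one_mem _, by simp⟩)
  rw [mul_one] at this
  rcases this with ⟨c, hc, k, hk, rfl⟩ | ⟨c, hc, k, hk, b, hb, rfl⟩
  · have c1 : c = 1 := h.mc.eq_one_of_fix h.ne hc (by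
      have := (mem_St2.1 hv.1).2
      rwa [mul_smul, ((hK k).1 hk).1.2] at this)
    rw [c1, one_mul] at hv ⊢
    exact h.se.K_eq_one hu eu h.ne (h.mc.inv ha a1) (h.mc.fix ha) hv.1 ((hK k).1 hk).2
      (mem_cent1.1 hv.2).symm
  · have := (mem_St2.1 hv.1).1
    rw [mul_smul, h.mc.fix hb, mul_smul, eu, mul_smul, ((hK k).1 hk).1.2] at this
    exact absurd this (h.smul_ne (h.mc.fix hc))

theorem eac_of_zt (hV : ∀ X : Subgroup G, X ≤ St2 G α β → 𝐨(X).Prime →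
    ∀ a ∈ Av G α, a ≠ 1 → a ∉ 𝐂(X)) : L.EAC G := by
  obtain ⟨u, hu, eu⟩ := h.mn.exists_J h.ne
  obtain ⟨K, hK, -, hf⟩ := h.exists_K hu eu
  obtain ⟨a, ha, a1⟩ := h.mc.exists_A α
  have eu' := hu.smul_eq eu
  have hz : P2.ZT Q (St2 G α β) u := by
    refine ⟨⟨hf.ne_botK, fun e => hf.ne_botR (eq_bot_iff.2 fun k hk => e ▸ ((hK k).1 hk).1),
      h.sd.norm, semiReg_of_prime fun X hX hp => h.QC_eq_bot hp (h.ne_two hX)
        (isPGroup_of_card_prime rfl) hX (hV X hX hp)⟩, ?_, hu.sq, Min.J_mem_norm hu eu,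
      fun g => ?_, fun x hx hx' => ?_⟩
    · exact Nat.not_odd_iff_even.1 fun ho => (h.mc.inv ha a1).not_mem_of_odd ho (h.Ale ha)
    · rw [h.sd.sup]
      by_cases hg : g⁻¹ • α = α
      · exact Or.inl (by simpa using inv_mem (mem_stabilizer_iff.2 hg))
      obtain ⟨z, hz, e⟩ := h.tr _ hg
      refine Or.inr ⟨g * z * u, ?_, _, inv_mem hz, by rw [hu.mul_cancel_right]; group⟩
      rw [mem_stabilizer_iff, mul_smul, eu, mul_smul, e, smul_inv_smul]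
    · rw [h.sd.sup] at hx hx'
      refine ⟨hx, mem_stabilizer_iff.2 ?_⟩
      rw [mem_stabilizer_iff, mul_smul, mul_smul, eu] at hx'
      exact (hu.smul_eq hx').symm.trans eu
  rcases hz.cases with e | ⟨-, e, -⟩
  · exact hz.eac e
  · exact absurd (isMulComm_iff_comm_eq_bot.1 (h.ab _ hz.isPGroup)) e

/-- The Sylow 2-subgroup is elementary. -/
theorem core_le {r : ℕ} (hr : r.Prime) (h2 : r ≠ 2) {X : Subgroup G} (hX : IsPGroup r X)
    (X1 : X ≠ ⊥) (hD : X ≤ St2 G α β) (hk : Rk2 𝐂(X)) : pCoreOf 2 Q ≤ Av G α := by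
  obtain ⟨hb, nt, k⟩ := h.mc.bt_of_rk2 hr h2 hX X1 h.ne hD hk le_rfl (cent_le_norm X)
  obtain ⟨a, haX, ai, ea⟩ := k α (hD.trans inf_le_left)
  obtain ⟨S, hS⟩ : ∃ S, S = pCoreOf 2 Q := ⟨_, rfl⟩
  have pS : IsPGroup 2 S := hS ▸ H2.isPGroup_pCoreOf 2 Q
  have SH : S ≤ stabilizer G α := hS ▸ (H2.pCoreOf_le 2 Q).trans h.QH
  have nS : stabilizer G α ≤ 𝐍(S) := hS ▸ h.norm.trans (H2.normalizer_le_normalizer_pCoreOf 2 Q)
  have AS : Av G α ≤ S := hS ▸ le_pCoreOf ⟨h.Ale, h.QH.trans (h.mc.norm_A α)⟩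
    (elemAb_isPGroup (h.mc.elem α))
  have cS := isMulComm_iff_le_cent.1 (h.ab S pS)
  rw [← hS]
  intro s hs
  refine h.mc.mem_Av.2 ⟨?_, SH hs⟩
  by_contra s1
  obtain ⟨_, ⟨n, rfl⟩, bi⟩ := exists_inv_of_even (X := zpowers (s * s)) (fun ho =>
    s1 (eq_one_of_odd_of_mem pS (mul_mem hs hs) (by rwa [Nat.card_zpowers] at ho)))
  have hs1 := zpow_mem hs n
  have e1 : (s * s) ^ n = s ^ n * s ^ n := (Commute.refl s).mul_zpow n
  simp only [e1] at bi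
  obtain ⟨d, hd, e2⟩ := h.mn.exists_conj_D bi ai (SH (mul_mem hs1 hs1)) ea h.ne
  have hs2 := H1.conj_mem_of_le_normalizer nS hd.1 hs1
  have e3 : d * s ^ n * d⁻¹ * (d * s ^ n * d⁻¹) = a := by rw [← e2]; group
  generalize d * s ^ n * d⁻¹ = t at hs2 e3
  have sq : ∀ x ∈ S, t * x * (t * x) = a * (x * x) := fun x hx => by
    rw [← e3, mul_assoc, ← mul_assoc x, mem_cent.1 (cS hs2) x hx]; group
  have cT : {s | s ∈ S ∧ s * s = a}.ncard = 𝐨(Av G α) := by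
    rw [show {s | s ∈ S ∧ s * s = a} = (t * ·) '' (Av G α : Set G) from ?_,
      Set.ncard_image_of_injective _ (mul_right_injective t)]
    · rfl
    ext y
    refine ⟨fun hy => ⟨t⁻¹ * y, h.mc.mem_Av.2 ⟨?_, SH (mul_mem (inv_mem hs2) hy.1)⟩,
      mul_inv_cancel_left t y⟩, ?_⟩
    · have := sq _ (mul_mem (inv_mem hs2) hy.1)
      rw [mul_inv_cancel_left, hy.2] at this
      exact left_eq_mul.1 this
    · rintro ⟨x, hx, rfl⟩
      exact ⟨mul_mem hs2 (AS hx), by rw [sq x (AS hx), h.mc.sq hx, mul_one]⟩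
  obtain ⟨x, hx, hxc⟩ := exists_cent_of_not_dvd hr hX (S := {s | s ∈ S ∧ s * s = a})
    (fun y hy x hx => ⟨H1.conj_mem_of_le_normalizer nS (hD hy).1 hx.1, by
      rw [← mem_cent1_iff_conj.1 (mem_cent_iff_cent1.1 haX hy), ← hx.2]; group⟩) (by
      obtain ⟨m, -, e⟩ := h.mc.card_A α
      rw [cT, e]
      exact fun hd => h2 ((Nat.prime_dvd_prime_iff_eq hr Nat.prime_two).1 (hr.dvd_of_dvd_pow hd)))
  exact ai.ne (hx.2.symm.trans (hb.sq_eq_one h.se nt hxc (pS.to_le (zpowers_le.2 hx.1))))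

end Bn

end Cfsg.Agent.P6
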