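/-
The exceptional character argument: `Q = A × Q₁` with `Q₁ ≠ 1` is impossible when `V ≠ 1`.
-/
import Cfsg.Agent.P6.End2
import Cfsg.Agent.FT.CH2
import Cfsg.Agent.P1.B_0

set_option autoImplicit false
set_option linter.unusedSectionVars false

namespace Cfsg.Agent.P6

open Subgroup Cfsg Cfsg.Agent Cfsg.Agent.FT MulAction
open scoped commutatorElement ComplexConjugate

universe u v

variable {G : Type u} [Group G] [Finite G]

/-- The hypotheses of the character argument. -/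
structure CL (H Q Q1 A : Subgroup G) (t : G) : Prop where
  ti : NormedTI (sharp Q) ⊤ H
  n1 : Q1 ⊲ H
  nA : A ⊲ H
  dp : DProd A Q1 Q
  sol : Group.IsSolvable H
  sq : ∀ a ∈ A, a * a = 1
  cA : IsMulCommutative A
  cop : 𝐨(Q1).Coprime 𝐨(A)
  fix : ∀ g ∈ H, g ∉ Q → Q1 ⊓ 𝐂[g] = ⊥
  tA : t ∈ A
  t1 : t ≠ 1
  cls : ∀ a ∈ A, a ≠ 1 → ∃ g ∈ H, g * t * g⁻¹ = a
  four : 4 ≤ 𝐨(A)

/-- The family of characters of `H` above `η`. -/
noncomputable abbrev fam (H Q1 : Subgroup G) (η : G → ℂ) : Finset (G → ℂ) :=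
  constt H (ind H Q1 η)

theorem fam_subset (H Q1 : Subgroup G) (η : G → ℂ) : fam H Q1 η ⊆ Irr H :=
  fun _ hρ => (mem_constt.1 hρ).1

theorem ip_cf1_eq_zero {N H : Subgroup G} (hN : N ⊲ H) {ρ : G → ℂ} (hρ : ρ ∈ Irr H)
    (hk : ¬ N ≤ cfKer ρ) : ip N ρ (cf1 N) = 0 := by
  by_contra e
  exact hk ((le_cfKer_iff_of_constt_res hN le_rfl hN.2 hρ (mem_constt.2
    ⟨cf1_mem_Irr N, by rwa [ip_res_left]⟩)).2 (le_cfKer_cf1 N))

theorem num_end {k e v m x : ℕ} {ε : ℤ} {c : ℂ} (hk : 2 ≤ k) (he : 0 < e) (hv : 3 ≤ v)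
    (hε : ε = 1 ∨ ε = -1) (hc : ‖c‖ ^ 2 ≤ v)
    (hx : (k + 2) * x ^ 2 ≤ (m + 1) * (m * ((k + 1) * v)))
    (hy : (x * k : ℂ) = (m + 1) * (k + 1) * (ε * (k * e * v) + 2 * c)) : False := by
  have n1 : ‖(ε * (k * e * v) : ℂ)‖ = k * e * v := by
    rcases hε with rfl | rfl <;> simp
  have n2 := norm_sub_le (ε * (k * e * v) + 2 * c : ℂ) (2 * c)
  rw [add_sub_cancel_right, n1, norm_mul, Complex.norm_ofNat] at n2
  have n3 := congrArg norm hy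
  rw [norm_mul, norm_mul, norm_mul, ← Nat.cast_succ, ← Nat.cast_succ] at n3
  simp only [Complex.norm_natCast] at n3
  push_cast at n3
  have p1 := norm_nonneg (ε * (k * e * v) + 2 * c : ℂ)
  have p2 := norm_nonneg c
  generalize ‖(ε * (k * e * v) + 2 * c : ℂ)‖ = Y at n2 n3 p1
  generalize ‖c‖ = C at hc n2 p2
  have hx' : ((k : ℝ) + 2) * x ^ 2 ≤ (m + 1) * (m * ((k + 1) * v)) := by exact_mod_cast hx
  have hk' : (2 : ℝ) ≤ k := by exact_mod_cast hk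
  have he' : (1 : ℝ) ≤ e := by exact_mod_cast he
  have hv' : (3 : ℝ) ≤ v := by exact_mod_cast hv
  have hm : (0 : ℝ) ≤ m := Nat.cast_nonneg m
  generalize (k : ℝ) = k at *
  generalize (m : ℝ) = m at *
  generalize (v : ℝ) = v at *
  have hY : Y ^ 2 ≤ v := by
    have q1 : 0 < (k + 2) * ((m + 1) * (k + 1)) ^ 2 := by positivity
    refine le_of_mul_le_mul_left ?_ q1
    calc (k + 2) * ((m + 1) * (k + 1)) ^ 2 * Y ^ 2 = k ^ 2 * ((k + 2) * x ^ 2) := by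
          linear_combination (k + 2) * ((m + 1) * (k + 1) * Y + x * k) * n3.symm
      _ ≤ k ^ 2 * ((m + 1) * (m * ((k + 1) * v))) := by gcongr
      _ = (k * k * m) * ((m + 1) * (k + 1) * v) := by ring
      _ ≤ ((k + 2) * (k + 1) * (m + 1)) * ((m + 1) * (k + 1) * v) := by gcongr <;> linarith
      _ = _ := by ring
  have h2 : 2 * v ≤ k * e * v := by gcongr; nlinarith
  nlinarith [sq_nonneg (Y - C)]

namespace CL

variable {H Q Q1 A : Subgroup G} {t : G} (h : CL H Q Q1 A t)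
include h

theorem nQ : Q ⊲ H := h.dp.sup ▸ ⟨sup_le h.nA.1 h.n1.1, H1.le_normalizer_sup h.nA.2 h.n1.2⟩

theorem t_notMem : t ∉ Q1 := fun e => h.t1 (mem_bot.1 (h.dp.disj ▸ (⟨h.tA, e⟩ : t ∈ A ⊓ Q1)))

theorem sum_A {f : G → ℂ} (hf : ∀ g ∈ H, ∀ x, f (g * x * g⁻¹) = f x) :
    ∑ x ∈ fs (A : Set G), f x = f 1 + (𝐨(A) - 1) * f t := by
  rw [sum_fs_sharp, sum_fs_congr (g := fun _ => f t) fun x hx => by
      obtain ⟨g, hg, rfl⟩ := h.cls x hx.1 hx.2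
      exact hf g hg t,
    Finset.sum_const, card_fs, ncard_sharp, nsmul_eq_mul, Nat.cast_sub Nat.card_pos, Nat.cast_one]

theorem val_t {ρ : G → ℂ} (hρ : ρ ∈ Irr H) (hk : ¬ A ≤ cfKer ρ) :
    ρ 1 + (𝐨(A) - 1) * ρ t = 0 := by
  have := ip_cf1_eq_zero h.nA hρ hk
  rwa [ip_cf1_right, mul_eq_zero, or_iff_right (inv_ne_zero (card_ne_zero_C A)),
    h.sum_A fun g hg => CF_conj (irr_mem_CF hρ) hg] at this

theorem class_t : classSupp {t} H = sharp A := by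
  ext y
  rw [CH1.mem_class]
  refine ⟨?_, fun hy => h.cls y hy.1 hy.2⟩
  rintro ⟨g, hg, rfl⟩
  exact ⟨H1.conj_mem_of_le_normalizer h.nA.2 hg h.tA, by simpa using h.t1⟩

theorem sum_conj (ho : ∀ g, g ∉ H → Odd (orderOf (g * t * g⁻¹ * t))) {θ : G → ℂ}
    (hθ : θ ∈ CF ⊤) (h0 : ∀ x, Odd (orderOf x) → θ x = 0) :
    ∑ g ∈ fs ((⊤ : Subgroup G) : Set G), θ (g * t * g⁻¹ * t) =
      𝐨((H ⊓ 𝐂[t] : Subgroup G)) * ((𝐨(A) - 2) * θ t) := by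
  rw [← sum_fs_subset (A := H) (fun x _ => mem_top x) fun g _ hg => h0 _ (ho g hg),
    CH1.sum_fs_conj_class H t fun y => θ (y * t), h.class_t, nsmul_eq_mul]
  congr 1
  have e := sum_fs_sharp A fun y => θ (y * t)
  rw [sum_fs_mul_right h.tA, h.sum_A fun g _ => CF_conj hθ (mem_top g), h0 1 (by simp),
    one_mul] at e
  linear_combination -e

theorem ind_odd {φ : G → ℂ} (hφ : φ ∈ CFon H {x | x ∈ Q ∧ x ∉ Q1}) {x : G}
    (hx : Odd (orderOf x)) : ind ⊤ H φ x = 0 :=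
  ind_apply_eq_zero fun g _ _ => CFon_off hφ fun hz => hz.2 (by
    refine mem_of_sq_mem (by rwa [← (SemiconjBy.orderOf_eq g (x := g⁻¹ * x * g) (y := x)
      (by simp [SemiconjBy, mul_assoc]))] at hx) ?_
    obtain ⟨a, ha, y, hy, e⟩ := h.dp.mem_iff.1 hz.1
    rw [← e, (h.dp.commute ha hy).symm.mul_mul_mul_comm, h.sq a ha, one_mul]
    exact mul_mem hy hy)

theorem le_sharp : CFon H {x | x ∈ Q ∧ x ∉ Q1} ≤ CFon H (sharp Q) :=
  CFon_mono H fun _ hx => ⟨hx.1, fun e => hx.2 (e ▸ one_mem _)⟩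

section

variable {η : G → ℂ} (hη : η ∈ Irr Q1) (h1 : η ≠ cf1 Q1)
include hη h1

theorem inertia_eq : H ⊓ inertia η = Q := by
  refine le_antisymm (fun g hg => by_contra fun hn => h1
    (eq_cf1_of_mem_inertia (h.n1.2 hg.1) (h.fix g hg.1 hn) hη hg.2)) (le_inf h.nQ.1 ?_)
  rw [← h.dp.sup]
  exact sup_le (h.dp.symm.cent.trans (cent_le_inertia (irr_isChar hη).1))
    (le_inertia (irr_mem_CF hη))

theorem fam_spec : ind H Q1 η = ∑ ρ ∈ fam H Q1 η, ρ ∧ (fam H Q1 η).card = 𝐨(A) ∧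
    ∀ ρ ∈ fam H Q1 η, dg ρ = Q.relIndex H * dg η := by
  have e := h.inertia_eq hη h1
  have r : Q1.relIndex Q = 𝐨(A) := h.dp.symm.sdProd.relIndex_left
  obtain ⟨a, b, c⟩ := ind_hall_central_inertia h.n1 h.sol hη (by
    rw [e, h.dp.der_eq, isMulComm_iff_comm_eq_bot.1 h.cA, bot_sup_eq]; exact der_le _)
    (by rw [e]; exact ⟨h.dp.le_right, r ▸ h.cop⟩)
  refine ⟨a, by rw [b, e, r], fun ρ hρ => ?_⟩
  rw [c ρ hρ, ← e, inf_relIndex_left]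

theorem fam_constt {ρ : G → ℂ} (hρ : ρ ∈ fam H Q1 η) : η ∈ constt Q1 (res Q1 ρ) :=
  (mem_constt_ind_iff h.n1.1 hη (fam_subset _ _ _ hρ)).1 hρ

theorem fam_not_ker {ρ : G → ℂ} (hρ : ρ ∈ fam H Q1 η) : ¬ Q1 ≤ cfKer ρ := fun e =>
  h1 ((irr_eq_cf1_iff hη).2 ((le_cfKer_iff_of_constt_res h.n1 le_rfl h.n1.2
    (fam_subset _ _ _ hρ) (h.fam_constt hη h1 hρ)).1 e))

theorem fam_res {ρ : G → ℂ} (hρ : ρ ∈ fam H Q1 η) : res Q1 ρ = ∑ ψ ∈ cfClass H η, ψ := by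
  rw [clifford_res h.n1 (fam_subset _ _ _ hρ) (h.fam_constt hη h1 hρ),
    ← ip_ind_right h.n1.1 (irr_mem_CF (fam_subset _ _ _ hρ)), ← conj_ip,
    (h.fam_spec hη h1).1, (on_Irr H).ip_sum (fam_subset _ _ _) (fam_subset _ _ _ hρ), if_pos hρ,
    map_one, one_smul]

theorem fam_off {ρ : G → ℂ} (hρ : ρ ∈ fam H Q1 η) {x : G} (hx : x ∉ Q) : ρ x = 0 := by
  by_cases hH : x ∈ H
  · exact irr_reg_off_ker h.n1 (fam_subset _ _ _ hρ) (h.fam_not_ker hη h1 hρ) (h.fix x hH hx)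
  · exact CF_off (irr_mem_CF (fam_subset _ _ _ hρ)) hH

theorem fam_sub {ρ σ : G → ℂ} (hρ : ρ ∈ fam H Q1 η) (hσ : σ ∈ fam H Q1 η) :
    ρ - σ ∈ CFon H {x | x ∈ Q ∧ x ∉ Q1} := by
  refine mem_CFon.2 ⟨sub_mem (irr_mem_CF (fam_subset _ _ _ hρ))
    (irr_mem_CF (fam_subset _ _ _ hσ)), fun x hx => ?_⟩
  rw [Pi.sub_apply, sub_eq_zero]
  by_cases hQ : x ∈ Q
  · have h2 : x ∈ Q1 := by_contra fun e => hx ⟨hQ, e⟩
    rw [← res_of_mem ρ h2, ← res_of_mem σ h2, h.fam_res hη h1 hρ, h.fam_res hη h1 hσ]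
  · rw [h.fam_off hη h1 hρ hQ, h.fam_off hη h1 hσ hQ]

theorem sum_fam {x : G} (hx : x ∉ Q1) : ∑ ρ ∈ fam H Q1 η, ρ x = 0 := by
  rw [← Finset.sum_apply, ← (h.fam_spec hη h1).1]
  exact CFon_off (ind_mem_CFon_normal h.n1.2 η) hx

theorem fam_one {ρ : G → ℂ} (hρ : ρ ∈ fam H Q1 η) : ρ 1 = Q.relIndex H * dg η := by
  rw [irr_one_eq (fam_subset _ _ _ hρ), (h.fam_spec hη h1).2.2 ρ hρ, Nat.cast_mul]

theorem card_mul_ne : ((fam H Q1 η).card : ℂ) * (Q.relIndex H * dg η) ≠ 0 := by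
  rw [(h.fam_spec hη h1).2.1]
  exact mul_ne_zero (card_ne_zero_C A) (mul_ne_zero (CH1.relIndex_ne_zero_C Q H)
    (Nat.cast_ne_zero.2 (irr_dg_pos hη).ne'))

theorem exists_ker : ∃ ρ ∈ fam H Q1 η, A ≤ cfKer ρ := by
  by_contra! hn
  have := Finset.sum_eq_zero fun ρ hρ => h.val_t (fam_subset _ _ _ hρ) (hn ρ hρ)
  rw [Finset.sum_add_distrib, ← Finset.mul_sum, h.sum_fam hη h1 h.t_notMem, mul_zero, add_zero,
    Finset.sum_congr rfl fun ρ hρ => h.fam_one hη h1 hρ, Finset.sum_const, nsmul_eq_mul] at this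
  exact h.card_mul_ne hη h1 this

theorem exists_not_ker : ∃ ρ ∈ fam H Q1 η, ¬ A ≤ cfKer ρ := by
  by_contra! hn
  have := h.sum_fam hη h1 h.t_notMem
  rw [Finset.sum_congr rfl fun ρ hρ => (apply_of_mem_cfKer (hn ρ hρ h.tA)).trans
    (h.fam_one hη h1 hρ), Finset.sum_const, nsmul_eq_mul] at this
  exact h.card_mul_ne hη h1 this

theorem exists_iso : ∃ ε : ℤ, (ε = 1 ∨ ε = -1) ∧ ∃ μ : (G → ℂ) → G → ℂ,
    (∀ χ ∈ fam H Q1 η, μ χ ∈ Irr ⊤) ∧ Set.InjOn μ (fam H Q1 η) ∧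
    ∀ χ ∈ fam H Q1 η, ∀ ψ ∈ fam H Q1 η, ind ⊤ H (χ - ψ) = (ε : ℂ) • (μ χ - μ ψ) := by
  have hZ : ∀ φ ∈ Zs0 (fam H Q1 η), φ ∈ CFon H (sharp Q) := fun φ hφ =>
    Zs0_le_CFon (fun ρ hρ => mem_CFon.2 ⟨irr_mem_CF (fam_subset _ _ _ hρ), fun x hx =>
      h.fam_off hη h1 hρ fun hQ => hx (by
        by_cases e : x = 1
        · exact Or.inl e
        · exact Or.inr ⟨hQ, e⟩)⟩) hφ
  refine vchar_isometry_base (fam_subset _ _ _) (by
      rw [(h.fam_spec hη h1).2.1]; exact lt_of_lt_of_le (by norm_num) h.four)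
    (fun ρ hρ σ hσ => by rw [h.fam_one hη h1 hρ, h.fam_one hη h1 hσ])
    (fun φ hφ ψ hψ => h.ti.ip_ind (hZ φ hφ) (hZ ψ hψ)) fun φ hφ =>
    ⟨vchar_ind le_top (Zs_mono (fam_subset _ _ _) hφ.1), ?_⟩
  rw [ind_one le_top, hφ.2, mul_zero]

theorem bound {ε : ℤ} (hε : ε = 1 ∨ ε = -1) {μ : (G → ℂ) → G → ℂ}
    (hμ : ∀ χ ∈ fam H Q1 η, μ χ ∈ Irr ⊤) (hi : Set.InjOn μ (fam H Q1 η))
    (he : ∀ χ ∈ fam H Q1 η, ∀ ψ ∈ fam H Q1 η, ind ⊤ H (χ - ψ) = (ε : ℂ) • (μ χ - μ ψ))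
    {φ : G → ℂ} (hφ : φ ∈ CFon H {x | x ∈ Q ∧ x ∉ Q1}) {ρ : G → ℂ} (hρ : ρ ∈ fam H Q1 η) :
    𝐨(A) * ‖ip H φ (μ ρ - (ε : ℂ) • ρ)‖ ^ 2 ≤ nsq H φ := by
  have e2 : (ε : ℂ) * ε = 1 := by rcases hε with rfl | rfl <;> simp
  have key : ∀ σ ∈ fam H Q1 η, ip H φ (μ σ) = ip H φ (μ ρ - (ε : ℂ) • ρ) + ε * ip H φ σ := by
    intro σ hσ
    have := h.ti.ip_ind (h.le_sharp hφ) (h.le_sharp (h.fam_sub hη h1 hσ hρ))
    rw [he σ hσ ρ hρ, ip_smul_right, ip_ind_left le_top _ (sub_mem (irr_mem_CF (hμ σ hσ))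
      (irr_mem_CF (hμ ρ hρ)))] at this
    simp only [ip_sub_right, ip_smul_right, map_intCast] at this ⊢
    linear_combination (ε : ℂ) * this - (ip H φ (μ σ) - ip H φ (μ ρ)) * e2
  have s0 : ∑ σ ∈ fam H Q1 η, ip H φ σ = 0 := by
    rw [← ip_sum_right, ← (h.fam_spec hη h1).1, ip_ind_right h.n1.1 hφ.1]
    exact ip_eq_zero_of_disjoint fun x hx => Or.inl (CFon_off hφ fun e => e.2 hx)
  have cs := norm_ip_sq_le ⊤ (ind ⊤ H φ) (∑ σ ∈ fam H Q1 η, μ σ)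
  rw [nsq_eq_of_ip_eq (h.ti.ip_ind (h.le_sharp hφ) (h.le_sharp hφ)),
    nsq_sum_of_orth fun i hi' j hj n => ip_irr_of_ne (hμ i hi') (hμ j hj) fun e => n (hi hi' hj e),
    Finset.sum_congr rfl fun i hi' => nsq_irr (hμ i hi'), ip_ind_left le_top _
      (Submodule.sum_mem _ fun i hi' => irr_mem_CF (hμ i hi')), ip_sum_right,
    Finset.sum_congr rfl key, Finset.sum_add_distrib, ← Finset.mul_sum, s0, mul_zero, add_zero,
    Finset.sum_const, Finset.sum_const, (h.fam_spec hη h1).2.1, nsmul_eq_mul, nsmul_eq_mul,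
    norm_mul, Complex.norm_natCast] at cs
  have := card_pos_R A
  nlinarith

end

theorem const_on {Γ : G → ℂ} (hΓ : Γ ∈ CF H) (hc : ∀ η ∈ Irr Q1, η ≠ cf1 Q1 →
    ∀ ρ ∈ fam H Q1 η, ∀ σ ∈ fam H Q1 η, ip H Γ ρ = ip H Γ σ) {x : G} (hx : x ∈ Q) (hx1 : x ∉ Q1) :
    Γ x = Γ t := by
  classical
  have key : ∀ x, x ∉ Q1 → Γ x = ∑ ρ ∈ Irr H with Q1 ≤ cfKer ρ, ip H Γ ρ * ρ x := by
    intro x hx
    rw [apply_eq_sum_irr hΓ, ← Finset.sum_filter_add_sum_filter_not _ fun ρ => Q1 ≤ cfKer ρ,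
      add_eq_left, ← Finset.sum_fiberwise_of_maps_to fun ρ hρ =>
        Finset.mem_image_of_mem (res Q1) hρ]
    refine Finset.sum_eq_zero fun r hr => ?_
    obtain ⟨ρ, hρ, rfl⟩ := Finset.mem_image.1 hr
    obtain ⟨hρ, hk⟩ := Finset.mem_filter.1 hρ
    obtain ⟨η, hη⟩ := exists_constt_res h.n1.1 hρ
    have h0 := (mem_constt.1 hη).1
    have h1 : η ≠ cf1 Q1 := fun e => hk ((le_cfKer_iff_of_constt_res h.n1 le_rfl h.n1.2 hρ hη).2
      (e ▸ le_cfKer_cf1 Q1))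
    have hf := (mem_constt_ind_iff h.n1.1 h0 hρ).2 hη
    rw [show ({i ∈ {ρ ∈ Irr H | ¬ Q1 ≤ cfKer ρ} | res Q1 i = res Q1 ρ} : Finset _) = fam H Q1 η
      from ?_, Finset.sum_congr rfl fun σ hσ => by rw [hc η h0 h1 σ hσ ρ hf], ← Finset.mul_sum,
      h.sum_fam h0 h1 hx, mul_zero]
    ext σ
    simp only [Finset.mem_filter]
    exact ⟨fun hσ => (mem_constt_ind_iff h.n1.1 h0 hσ.1.1).2 (hσ.2 ▸ hη), fun hσ =>
      ⟨⟨fam_subset _ _ _ hσ, h.fam_not_ker h0 h1 hσ⟩, by rw [h.fam_res h0 h1 hσ, h.fam_res h0 h1 hf]⟩⟩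
  rw [key x hx1, key t h.t_notMem]
  refine Finset.sum_congr rfl fun ρ hρ => ?_
  obtain ⟨hρ, hk⟩ := Finset.mem_filter.1 hρ
  obtain ⟨a, ha, y, hy, rfl⟩ := h.dp.mem_iff.1 hx
  obtain ⟨g, hg, rfl⟩ := h.cls a ha fun e => hx1 (by rwa [e, one_mul])
  rw [apply_mul_of_mem_cfKer (irr_mem_CF hρ) (hk hy), CF_conj (irr_mem_CF hρ) hg]

theorem nsq_delta : ip H (cf1 Q - cf1 Q1) (cf1 Q - cf1 Q1) =
    (𝐨(A) - 1) / (𝐨(A) * Q.relIndex H) := by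
  have e1 := ip_eq_ip_of_supp h.nQ.1 (φ := cf1 Q) (fun _ _ => cf1_of_notMem) (cf1 Q)
  have e2 := ip_eq_ip_of_supp h.n1.1 (φ := cf1 Q1) (fun _ _ => cf1_of_notMem) (cf1 Q1)
  have e3 : ip H (cf1 Q1) (cf1 Q) = ip H (cf1 Q1) (cf1 Q1) :=
    ip_congr_of_supp (A := Q1) (fun _ _ => cf1_of_notMem) fun x hx => by
      rw [cf1_of_mem hx, cf1_of_mem (h.dp.le_right hx)]
  have e4 : ip H (cf1 Q) (cf1 Q1) = ip H (cf1 Q1) (cf1 Q1) := by rw [← conj_ip, e3, conj_ip]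
  rw [ip_cf1_cf1] at e1 e2
  rw [← relIndex_mul_relIndex _ _ _ h.dp.le_right h.nQ.1, h.dp.symm.sdProd.relIndex_left,
    Nat.cast_mul] at e2
  rw [ip_sub_left, ip_sub_right, ip_sub_right, e3, e4, eq_div_iff
    (mul_ne_zero (card_ne_zero_C A) (CH1.relIndex_ne_zero_C Q H))]
  linear_combination (𝐨(A) : ℂ) * e1 - e2

theorem false (ne : Q1 ≠ ⊥) (ho : ∀ g, g ∉ H → Odd (orderOf (g * t * g⁻¹ * t))) {v : ℕ}
    (hv : 3 ≤ v) (hn : Q.relIndex H = (𝐨(A) - 1) * v) (hG : H.index = 𝐨(Q) + 1) : False := by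
  classical
  obtain ⟨η, hη, h1⟩ : ∃ η ∈ Irr Q1, η ≠ cf1 Q1 := by
    by_contra! hc
    have := sum_irr_dg_sq Q1
    rw [Finset.eq_singleton_iff_unique_mem.2 ⟨cf1_mem_Irr Q1, hc⟩, Finset.sum_singleton,
      dg_cf1] at this
    exact ne (card_eq_one.1 this.symm)
  obtain ⟨ε, hε, μ, hμ, hi, he⟩ := h.exists_iso hη h1
  obtain ⟨ρ, hρ, kρ⟩ := h.exists_ker hη h1
  obtain ⟨σ, hσ, kσ⟩ := h.exists_not_ker hη h1
  obtain ⟨k, hk⟩ : ∃ k, 𝐨(A) = k + 2 := ⟨𝐨(A) - 2, by have := h.four; omega⟩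
  have k2 : 2 ≤ k := by have := h.four; omega
  have hn' : Q.relIndex H = (k + 1) * v := by rw [hn, hk]; rfl
  have e2 : (ε : ℂ) * ε = 1 := by rcases hε with rfl | rfl <;> simp
  have k1 : (k + 1 : ℂ) ≠ 0 := by exact_mod_cast k.succ_ne_zero
  have v0 : (0 : ℝ) < v := by exact_mod_cast lt_of_lt_of_le (by norm_num) hv
  have iρ := fam_subset _ _ _ hρ
  have vρ : ρ t = (k + 1) * v * dg η := by
    rw [apply_of_mem_cfKer (kρ h.tA), h.fam_one hη h1 hρ, hn']; push_cast; ring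
  have vσ : σ t = -(v * dg η) := by
    have := h.val_t (fam_subset _ _ _ hσ) kσ
    rw [h.fam_one hη h1 hσ, hn', hk] at this
    push_cast at this
    exact mul_left_cancel₀ k1 (by linear_combination this)
  -- the restriction of `μ ρ`
  have hV : res H (μ ρ) - (ε : ℂ) • ρ ∈ VChar H :=
    sub_mem (vchar_res le_top (irr_mem_VChar (hμ ρ hρ))) (vchar_int_smul (irr_mem_VChar iρ) ε)
  have bd : ∀ φ ∈ CFon H {x | x ∈ Q ∧ x ∉ Q1},
      (k + 2) * ‖ip H φ (res H (μ ρ) - (ε : ℂ) • ρ)‖ ^ 2 ≤ nsq H φ := fun φ hφ => by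
    have := h.bound hη h1 hε hμ hi he hφ hρ
    rwa [hk, ip_sub_right, ← ip_res_right, ← ip_sub_right, Nat.cast_add, Nat.cast_ofNat] at this
  have vΓ : μ ρ t = (res H (μ ρ) - (ε : ℂ) • ρ) t + ε * ρ t := by
    rw [Pi.sub_apply, res_of_mem _ (h.nA.1 h.tA), Pi.smul_apply, smul_eq_mul, sub_add_cancel]
  generalize res H (μ ρ) - (ε : ℂ) • ρ = Γ at hV bd vΓ
  have cst : ∀ x ∈ Q, x ∉ Q1 → Γ x = Γ t := fun x => h.const_on (vchar_mem_CF hV)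
    fun η' h0 h1' α hα β hβ => by
    have iα := fam_subset _ _ _ hα
    have iβ := fam_subset _ _ _ hβ
    by_cases e : α = β
    · rw [e]
    have := bd _ (h.fam_sub h0 h1' hα hβ)
    obtain ⟨n, hn⟩ := vchar_ip_int (sub_mem (irr_mem_VChar iα) (irr_mem_VChar iβ)) hV
    rw [hn, nsq_sub_of_orth (ip_irr_of_ne iα iβ e), nsq_irr iα, nsq_irr iβ, Complex.norm_intCast,
      sq_abs] at this
    have h3 : ((k : ℤ) + 2) * n ^ 2 ≤ 1 + 1 := by exact_mod_cast this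
    have h4 : n = 0 := by
      by_contra n0
      have := Int.one_le_abs n0
      nlinarith [sq_abs n]
    rw [← sub_eq_zero, ← ip_sub_right, ip_comm_of_int hn, h4, Int.cast_zero]
  have hΔ : cf1 Q - cf1 Q1 ∈ CFon H {x | x ∈ Q ∧ x ∉ Q1} := by
    refine mem_CFon_of (sub_mem ?_ ?_) fun x _ hx => ?_
    · exact mem_CF.2 ⟨fun x hx => cf1_of_notMem fun e => hx (h.nQ.1 e), fun g hg x =>
        by simpa [mul_assoc] using (norm_le_inertia_cf1 Q (inv_mem (h.nQ.2 hg)) x)⟩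
    · exact mem_CF.2 ⟨fun x hx => cf1_of_notMem fun e => hx (h.n1.1 e), fun g hg x =>
        by simpa [mul_assoc] using (norm_le_inertia_cf1 Q1 (inv_mem (h.n1.2 hg)) x)⟩
    rw [Pi.sub_apply]
    by_cases e : x ∈ Q1
    · rw [cf1_of_mem e, cf1_of_mem (h.dp.le_right e), sub_self]
    · rw [cf1_of_notMem e, cf1_of_notMem fun e' => hx ⟨e', e⟩, sub_self]
  have hc : ‖Γ t‖ ^ 2 ≤ v := by
    have e0 : ip H (cf1 Q - cf1 Q1) (cf1 Q - cf1 Q1) = (((k + 2) * v : ℝ)⁻¹ : ℝ) := by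
      rw [h.nsq_delta, hk, hn']
      have : (v : ℂ) ≠ 0 := by exact_mod_cast v0.ne'
      have : (k + 2 : ℂ) ≠ 0 := by exact_mod_cast (k + 1).succ_ne_zero
      push_cast; field_simp; ring
    have := bd _ hΔ
    rw [ip_congr_of_supp (ψ' := Γ t • (cf1 Q - cf1 Q1)) (fun x _ hx => CFon_off hΔ hx)
      fun x hx => by
        rw [cst x hx.1 hx.2, Pi.smul_apply, Pi.sub_apply, cf1_of_mem hx.1, cf1_of_notMem hx.2]
        simp,
      ip_smul_right, e0, nsq_eq_of_ip e0, norm_mul, Complex.norm_conj, Complex.norm_real,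
      Real.norm_of_nonneg (by positivity)] at this
    have p : (0 : ℝ) < (k + 2) * v := by positivity
    calc ‖Γ t‖ ^ 2 = (k + 2) * (‖Γ t‖ * ((k + 2) * v : ℝ)⁻¹) ^ 2 * ((k + 2) * v * v) := by
          field_simp
      _ ≤ ((k + 2) * v : ℝ)⁻¹ * ((k + 2) * v * v) := by gcongr
      _ = v := by field_simp
  -- the class sum
  have eθ : ∀ α ∈ fam H Q1 η, μ ρ - μ α = (ε : ℂ) • ind ⊤ H (ρ - α) := fun α hα => by
    rw [he ρ hρ α hα, smul_smul, e2, one_smul]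
  have d1 : ∀ α ∈ fam H Q1 η, μ ρ 1 = μ α 1 := fun α hα => by
    rw [← sub_eq_zero, ← Pi.sub_apply, eθ α hα, Pi.smul_apply,
      h.ind_odd (h.fam_sub hη h1 hρ hα) (by simp), smul_zero]
  have vθ : μ σ t = μ ρ t - ε * ((k + 2) * v * dg η) := by
    have := congrFun (eθ σ hσ) t
    rw [Pi.smul_apply, h.ti.ind_apply (h.le_sharp (h.fam_sub hη h1 hρ hσ))
      ⟨h.dp.le_left h.tA, h.t1⟩, Pi.sub_apply, Pi.sub_apply, vρ, vσ, smul_eq_mul] at this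
    linear_combination -this
  have s0 := h.sum_conj ho (sub_mem (irr_mem_CF (hμ ρ hρ)) (irr_mem_CF (hμ σ hσ))) fun x hx => by
    rw [eθ σ hσ, Pi.smul_apply, h.ind_odd (h.fam_sub hη h1 hρ hσ) hx, smul_zero]
  have s1 := P1.BS.dirr_sum_conj_mul (t := t) (Or.inl (hμ ρ hρ))
  have s2 := P1.BS.dirr_sum_conj_mul (t := t) (Or.inl (hμ σ hσ))
  simp only [Pi.sub_apply, Finset.sum_sub_distrib] at s0
  have cH : 𝐨(H) = 𝐨(Q) * ((k + 1) * v) := by rw [← hn', H1.card_mul_relIndex h.nQ.1]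
  have cG : 𝐨((⊤ : Subgroup G)) = (𝐨(Q) + 1) * (𝐨(Q) * ((k + 1) * v)) := by
    rw [card_top, ← H.index_mul_card, hG, cH]
  have cC : 𝐨((H ⊓ 𝐂[t] : Subgroup G)) = 𝐨(Q) * v := by
    have := CH1.card_cent_mul_card_class H t
    rw [card_fs, h.class_t, ncard_sharp, hk, cH] at this
    exact Nat.eq_of_mul_eq_mul_right k.succ_pos (this.trans (by rw [Nat.succ_eq_add_one]; ring))
  refine num_end (m := 𝐨(Q)) (x := dg (μ ρ)) k2 (irr_dg_pos hη) hv hε hc ?_ ?_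
  · rw [← cG, ← sum_irr_dg_sq, ← hk, ← (h.fam_spec hη h1).2.1, ← smul_eq_mul, ← Finset.sum_const,
      Finset.sum_congr rfl fun α hα => by rw [dg_congr (d1 α hα)],
      ← Finset.sum_image (f := fun χ => dg χ ^ 2) hi]
    exact Finset.sum_le_sum_of_subset fun χ hχ => by
      obtain ⟨α, hα, rfl⟩ := Finset.mem_image.1 hχ
      exact hμ α hα
  · rw [← d1 σ hσ] at s2
    rw [irr_one_eq (hμ ρ hρ), cG] at s1 s2
    rw [cC, hk] at s0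
    have nz : (𝐨(Q) * v * (ε * ((k + 2) * v * dg η)) : ℂ) ≠ 0 := by
      have : (v : ℂ) ≠ 0 := by exact_mod_cast v0.ne'
      have : (k + 2 : ℂ) ≠ 0 := by exact_mod_cast (k + 1).succ_ne_zero
      have : (dg η : ℂ) ≠ 0 := Nat.cast_ne_zero.2 (irr_dg_pos hη).ne'
      have : (ε : ℂ) ≠ 0 := left_ne_zero_of_mul_eq_one e2
      have := card_ne_zero_C Q
      positivity
    refine mul_left_cancel₀ nz ?_
    rw [vθ, vΓ, vρ] at s0 s2
    rw [vΓ, vρ] at s1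
    push_cast at s0 s1 s2
    linear_combination s1 - s2 - (dg (μ ρ) : ℂ) * s0

end CL

variable {Ω : Type v} [MulAction G Ω]

namespace Bn

variable {α β : Ω} {Q : Subgroup G} (h : Bn α β Q)
include h

theorem normedTI : NormedTI (sharp Q) ⊤ (stabilizer G α) := by
  obtain ⟨a, ha, a1⟩ := h.mc.exists_A α
  refine ⟨⟨a, h.Ale ha, a1⟩, fun e => e.2 rfl, fun x hx => h.QH hx.1, le_top, fun g hg x hx =>
    ⟨H1.conj_mem_of_le_normalizer h.norm hg hx.1, by simpa using hx.2⟩, fun g _ x hx hg => ?_⟩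
  by_contra n1
  exact hg.2 (h.free' hg.1 n1 (conj_fix (h.QH hx.1)))

theorem A_le_core : Av G α ≤ pCoreOf 2 Q :=
  le_pCoreOf ⟨h.Ale, h.QH.trans (h.mc.norm_A α)⟩ (elemAb_isPGroup (h.mc.elem α))

/-- The second case: every element of prime order of `V` centralizes a four-group. -/
theorem eac_of_rk2 (hC : ∀ X : Subgroup G, X ≤ St2 G α β → 𝐨(X).Prime →
    ∀ a ∈ Av G α, a ≠ 1 → a ∈ 𝐂(X) → Rk2 𝐂(X)) : L.EAC G := by
  by_cases hV : ∀ X : Subgroup G, X ≤ St2 G α β → 𝐨(X).Prime → ∀ a ∈ Av G α, a ≠ 1 → a ∉ 𝐂(X)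
  · exact h.eac_of_zt hV
  exfalso
  push Not at hV
  obtain ⟨X, hX, hp, a, ha, a1, hc⟩ := hV
  have X1 := ne_bot_of_card_prime hp
  have V1 : St2 G α β ⊓ 𝐂[a] ≠ ⊥ := fun e =>
    X1 (eq_bot_iff.2 (e ▸ le_inf hX (mem_cent_iff_cent1.1 hc)))
  have dp := dProd_pCoreOf_of_isNilpotent Nat.prime_two h.nil
  rw [le_antisymm (h.core_le hp (h.ne_two hX) (isPGroup_of_card_prime rfl) X1 hX
    (hC X hX hp a ha a1 hc)) h.A_le_core] at dp
  have n1 : H2.pPrimeCoreOf 2 Q ⊲ stabilizer G α :=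
    ⟨dp.le_right.trans h.QH, h.norm.trans (norm_le_norm_Od Q)⟩
  have o1 : Odd 𝐨(H2.pPrimeCoreOf 2 Q) := odd_Od Q
  generalize H2.pPrimeCoreOf 2 Q = Q1 at dp n1 o1
  have ne : Q1 ≠ ⊥ := fun e => V1 (h.V_eq_bot (by rw [← dp.sup, e, sup_bot_eq]) ha a1)
  have fr : Frob Q1 (St2 G α β) := by
    refine ⟨ne, fun e => X1 (eq_bot_iff.2 (e ▸ hX)), inf_le_left.trans n1.2,
      semiReg_of_prime fun Y hY hq => eq_bot_iff.2 ?_⟩
    by_cases hn : ∀ b ∈ Av G α, b ≠ 1 → b ∉ 𝐂(Y)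
    · exact h.QC_eq_bot hq (h.ne_two hY) (isPGroup_of_card_prime rfl) hY hn ▸
        inf_le_inf_right _ dp.le_right
    · push Not at hn
      obtain ⟨b, hb, b1, hb'⟩ := hn
      exact dp.disj ▸ le_inf ((inf_le_inf_right _ dp.le_right).trans (h.QC_le_A hq (h.ne_two hY)
        (isPGroup_of_card_prime rfl) (ne_bot_of_card_prime hq) hY (hC Y hY hq b hb b1 hb')))
        inf_le_left
  have cl : CL (stabilizer G α) Q Q1 (Av G α) a := by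
    refine ⟨h.normedTI, n1, ⟨h.mc.A_le α, h.mc.norm_A α⟩, dp, h.sol α, fun _ => h.mc.sq,
      (h.mc.elem α).1, ?_, fun g hg hQ => eq_bot_iff.2 fun z hz => by_contra fun z1 => hQ ?_, ha,
      a1, fun b hb b1 => ?_, h.mc.four_le α⟩
    · obtain ⟨n, -, e⟩ := h.mc.card_A α
      rw [e]
      exact (Nat.coprime_two_right.2 o1).pow_right n
    · obtain ⟨w, hw, d, hd, rfl⟩ := h.sd.mem_iff.1 hg
      obtain ⟨b, hb, y, hy, rfl⟩ := dp.mem_iff.1 hw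
      have := mul_mem (inv_mem (mem_cent1.2 (dp.commute hb hz.1).symm.eq))
        (mem_cent1_comm.1 hz.2)
      rw [mul_assoc, inv_mul_cancel_left] at this
      rw [mul_assoc]
      exact mul_mem (h.Ale hb) (dp.le_right (fr.cent1_le hz.1 z1 ⟨mul_mem_sup hy hd, this⟩))
    · obtain ⟨d, hd, e⟩ := (h.mc.gl1 h.ne).trans a ha a1 b hb b1
      exact ⟨d, hd.1, e⟩
  refine cl.false ne (fun g hg => h.se.odd_mul ((h.mc.inv ha a1).conj g) (h.mc.inv ha a1)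
    (conj_fix (h.mc.fix ha)) (h.mc.fix ha) hg) (v := 𝐨((St2 G α β ⊓ 𝐂[a] : Subgroup G))) ?_ ?_
    h.index_eq
  · obtain ⟨m, e⟩ := odd_of_le (inf_le_left : St2 G α β ⊓ 𝐂[a] ≤ _) (h.se.odd_St2 h.ne)
    have := mt card_eq_one.1 V1
    omega
  · rw [h.sd.relIndex_left, ← h.mc.relIndex_D h.ne ha a1, mul_comm, inf_comm,
      H1.card_inf_mul_relIndex]

end Bn

end Cfsg.Agent.P6
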