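/-
The uniqueness lemma for an odd `p`-group normalized by a large elementary abelian 2-group.
-/
import Cfsg.Agent.P6.Str

set_option autoImplicit false
set_option linter.unusedSectionVars false

namespace Cfsg.Agent.P6

open Subgroup Cfsg Cfsg.Agent Cfsg.Agent.FT MulAction
open scoped commutatorElement

universe u v

variable {G : Type u} [Group G] [Finite G] {Ω : Type v} [MulAction G Ω]

theorem comm_inv_left {x y : G} (h : ⁅x, y⁆ * x = x * ⁅x, y⁆) : ⁅x⁻¹, y⁆ = ⁅x, y⁆⁻¹ := by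
  have : ⁅x⁻¹, y⁆ = x⁻¹ * ⁅x, y⁆⁻¹ * x := by simp only [commutatorElement_def]; group
  rw [this, mul_assoc, (show Commute ⁅x, y⁆ x from h).inv_left.eq, inv_mul_cancel_left]

theorem comm_inv_right {x y : G} (h : ⁅x, y⁆ * y = y * ⁅x, y⁆) : ⁅x, y⁻¹⁆ = ⁅x, y⁆⁻¹ := by
  have : ⁅x, y⁻¹⁆ = y⁻¹ * ⁅x, y⁆⁻¹ * y := by simp only [commutatorElement_def]; group
  rw [this, mul_assoc, (show Commute ⁅x, y⁆ y from h).inv_left.eq, inv_mul_cancel_left]

theorem Inv.conj_comm {c : G} (hc : Inv c) (x y : G) :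
    c * ⁅x, y⁆ * c = ⁅c * x * c, c * y * c⁆ := by
  have := conjugate_commutatorElement x y c
  rwa [hc.inv_eq] at this

theorem Inv.conj_eq_of_comm {c x : G} (hc : Inv c) (h : c * x = x * c) : c * x * c = x := by
  rw [h, hc.mul_cancel_right]

theorem Inv.comm_of_conj_eq {c x : G} (hc : Inv c) (h : c * x * c = x) : c * x = x * c := by
  conv_rhs => rw [← h]
  rw [hc.mul_cancel_right]

theorem SE.le_stab_of_pair (h : SE G Ω) {p : ℕ} (hp : p.Prime) (hp2 : p ≠ 2) {e f a b c : G}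
    {δ : Ω} (he : orderOf e = p) (hf : orderOf f = p) (hef : e * f = f * e) (ha : Inv a)
    (hb : Inv b) (hc : Inv c) (ea : a • δ = δ) (eb : b • δ = δ) (ae : a * e * a = e⁻¹)
    (af : a * f * a = f⁻¹) (be : b * e = e * b) (bf : b * f = f * b) (ce : c * e = e * c)
    (cf : c * f * c = f⁻¹) {X : Subgroup G} (hX : 𝐨(X).Coprime p) (eX : e ∈ 𝐍(X))
    (fX : f ∈ 𝐍(X)) : X ≤ stabilizer G δ := by
  have hbc : zpowers f ≤ 𝐂(zpowers e) := by
    rw [cent_zpowers, zpowers_le]; exact mem_cent1.2 hef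
  have hE : IsElementaryAbelian p (zpowers e ⊔ zpowers f) :=
    elemAb_sup (elemAb_zpowers (he ▸ pow_orderOf_eq_one e))
      (elemAb_zpowers (hf ▸ pow_orderOf_eq_one f)) hbc
  have ho : Odd 𝐨((zpowers e ⊔ zpowers f : Subgroup G)) :=
    odd_of_isPGroup hp hp2 (elemAb_isPGroup hE)
  refine H1.le_of_forall_centralizer_le hE.1 (fun hcy => ?_)
    (sup_le (zpowers_le.2 eX) (zpowers_le.2 fX)) ?_ fun x hx hx1 => ?_
  · have h1 := eq_of_card_prime_of_isCyclic hp hcy le_sup_left le_sup_right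
      ((Nat.card_zpowers e).trans he) ((Nat.card_zpowers f).trans hf)
    have h2 : f ∈ 𝐂[c] := (zpowers_le.2 (mem_cent1.2 ce) : zpowers e ≤ 𝐂[c])
      (h1 ▸ mem_zpowers f)
    rw [hc.conj_eq_of_comm (mem_cent1.1 h2)] at cf
    have := eq_one_of_eq_inv (hf ▸ hp.odd_of_ne_two hp2) cf
    rw [this, orderOf_one] at hf
    exact hp.one_lt.ne hf
  · obtain ⟨n, hn⟩ := exists_card_eq_pow hp (elemAb_isPGroup hE)
    rw [hn]
    exact hX.symm.pow_left n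
  · have h1 : x ∈ 𝐂[b] := (sup_le (zpowers_le.2 (mem_cent1.2 be)) (zpowers_le.2 (mem_cent1.2 bf)) :
      zpowers e ⊔ zpowers f ≤ 𝐂[b]) hx
    have h2 : a * x * a = x⁻¹ := by
      obtain ⟨y, hy, z, hz, rfl⟩ := (mem_sup_of_norm (hbc.trans (cent_le_norm _))).1 hx
      calc a * (y * z) * a = (a * y * a) * (a * z * a) := by
            rw [mul_assoc (a * y) a, ← mul_assoc a (a * z), ha.mul_cancel_left]; group
        _ = (y * z)⁻¹ := by
            rw [inverts_of_mem_zpowers ha.sq ae hy, inverts_of_mem_zpowers ha.sq af hz,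
              mem_cent.1 (hbc hz) y hy, mul_inv_rev]
    refine inf_le_right.trans ?_
    rw [← cent_zpowers]
    exact (cent_le_norm _).trans (h.norm_le_of_inv_of_cent (odd_orderOf_of_mem ho hx) hx1 ha hb
      ea eb h2 (mem_cent1.1 h1))

theorem SE.le_stab_of_rank3 (h : SE G Ω) {p n : ℕ} (hp : p.Prime) (hp2 : p ≠ 2) {T A : Subgroup G}
    (hT : IsPGroup p T) (hA : IsElem 2 n A) (hn : 3 ≤ n) {δ : Ω} (hAδ : A ≤ stabilizer G δ)
    (hAT : A ≤ 𝐍(T)) (hf : ∀ a ∈ A, Inv a → a ∉ 𝐂(T)) {X : Subgroup G} (hX : 𝐨(X).Coprime p)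
    (hTX : T ≤ 𝐍(X)) : X ≤ stabilizer G δ := by
  have hinv : ∀ a ∈ A, a ≠ 1 → Inv a := fun a ha h1 =>
    ⟨h1, by rw [← pow_two]; exact hA.elemAb.2 a ha⟩
  have hA1 := hA.ne_bot Nat.prime_two (by omega)
  obtain ⟨a1, ha1, ha11⟩ := (A.bot_or_exists_ne_one).resolve_left hA1
  have hT1 : T ≠ ⊥ := by
    rintro rfl
    exact hf a1 ha1 (hinv a1 ha1 ha11) (by rw [cent_bot]; exact mem_top _)
  obtain ⟨P, hPT, hPn, -, hP2, hPe, hPf⟩ := critical_odd hp hp2 hT hT1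
  have hPo : Odd 𝐨(P) := odd_of_le hPT (odd_of_isPGroup hp hp2 hT)
  have hord : ∀ e ∈ P, e ≠ 1 → orderOf e = p := fun e he h1 =>
    haveI := Fact.mk hp; orderOf_eq_prime (hPe e he) h1
  have hcard : ∀ B : Subgroup G, B ≤ A → B.relIndex A ≤ 4 → ∃ b ∈ B, b ≠ 1 := fun B hB hi => by
    refine (B.bot_or_exists_ne_one).resolve_left ?_
    rintro rfl
    rw [relIndex_bot_left, hA.card] at hi
    have := Nat.pow_le_pow_right (by norm_num : 0 < 2) hn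
    omega
  have hidx : ∀ B : Subgroup G, B.relIndex A = 2 → ∀ x ∈ A, ∀ y ∈ A,
      (x * y ∈ B ↔ (x ∈ B ↔ y ∈ B)) := fun B hB x hx y hy =>
    mul_mem_iff_of_index_two (H := B.subgroupOf A) hB (a := ⟨x, hx⟩) (b := ⟨y, hy⟩)
  have wt : ∀ a ∈ A, a ≠ 1 → ∃ B : Subgroup G, B ≤ A ∧ B.relIndex A = 2 ∧ a ∉ B ∧
      ∃ e ∈ P, e ≠ 1 ∧ (∀ c ∈ B, c * e = e * c) ∧ ∀ c ∈ A, c ∉ B → c * e * c = e⁻¹ := by
    intro a ha h1
    have hai := hinv a ha h1
    obtain ⟨B, hB, hi, hc⟩ : ∃ B : Subgroup G, B ≤ A ∧ B.relIndex A = 2 ∧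
        ¬ P ⊓ 𝐂(B) ≤ 𝐂[a] := by
      by_contra hc
      push Not at hc
      have h2 := H1.le_of_forall_hyperplane Nat.prime_two hA.elemAb hA1 (hAT.trans hPn)
        (by rw [hA.card]; exact (Nat.coprime_two_left.2 hPo).pow_left n) hc
      exact hf a ha hai (hPf (zpowers a) (zpowers_le.2 (hAT ha))
        (by rw [hai.card_zpowers]; exact (Nat.coprime_primes Nat.prime_two hp).2 hp2.symm)
        (zpowers_le.2 (mem_cent_iff_cent1.2 h2)) (mem_zpowers a))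
    obtain ⟨e, he, he1, hie⟩ := exists_inverted hai.sq
      (H1.le_normalizer_inf_centralizer_of_comm hA.comm hB (hAT.trans hPn) ha)
      (fun hm => hc (mem_cent_iff_cent1.1 hm))
    have haB : a ∉ B := fun hm => hc (inf_le_right.trans (cent_le_cent1 hm))
    refine ⟨B, hB, hi, haB, e, he.1, he1, fun c hc => mem_cent.1 he.2 c hc, fun c hcA hcB => ?_⟩
    have h3 : c * a ∈ B := (hidx B hi c hcA a ha).2 (iff_of_false hcB haB)
    have h4 := mem_cent.1 he.2 _ h3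
    have h5 : c * a = a * c := mem_cent.1 (hA.le_cent ha) c hcA
    calc c * e * c = (c * a * a) * e * (a * (a * c)) := by
          rw [hai.mul_cancel_right, hai.mul_cancel_left]
      _ = (c * a) * (a * e * a) * (a * c) := by group
      _ = (c * a) * e⁻¹ * (c * a) := by rw [hie, h5]
      _ = e⁻¹ * ((c * a) * (c * a)) := by
          rw [(show Commute (c * a) e from h4).inv_right.eq, mul_assoc]
      _ = e⁻¹ := by
          rw [← pow_two, hA.elemAb.2 _ (mul_mem hcA ha), mul_one]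
  obtain ⟨B1, l1, i1, n1, e1, m1, o1, c1, d1⟩ := wt a1 ha1 ha11
  obtain ⟨a2, ha2, ha21⟩ := hcard B1 l1 (by omega)
  obtain ⟨B2, l2, i2, n2, e2, m2, o2, c2, d2⟩ := wt a2 (l1 ha2) ha21
  obtain ⟨b, hb, hb1⟩ := hcard (B1 ⊓ B2) (inf_le_left.trans l1)
    ((relIndex_inf_le).trans (by rw [i1, i2]))
  have hbi := hinv b (l1 hb.1) hb1
  have h2i := hinv a2 (l1 ha2) ha21
  have h12 : a1 * a2 ∈ A := mul_mem ha1 (l1 ha2)
  have n12 : a1 * a2 ∉ B1 := fun hm => n1 (((hidx B1 i1 a1 ha1 a2 (l1 ha2)).1 hm).2 ha2)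
  by_cases hc : e1 * e2 = e2 * e1
  · obtain ⟨a, ha, k1, k2⟩ : ∃ a ∈ A, a ∉ B1 ∧ a ∉ B2 := by
      by_cases k : a1 ∈ B2
      · exact ⟨_, h12, n12, fun hm => n2 (((hidx B2 i2 a1 ha1 a2 (l1 ha2)).1 hm).1 k)⟩
      · exact ⟨a1, ha1, n1, k⟩
    exact h.le_stab_of_pair hp hp2 (hord e1 m1 o1) (hord e2 m2 o2) hc
      (hinv a ha fun e => k1 (e ▸ one_mem _)) hbi h2i (hAδ ha) (hAδ (l1 hb.1)) (d1 a ha k1)
      (d2 a ha k2) (c1 b hb.1) (c2 b hb.2) (c1 a2 ha2) (d2 a2 (l1 ha2) n2) hX (hTX (hPT m1))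
      (hTX (hPT m2))
  · obtain ⟨a, ha, k1, k2⟩ : ∃ a ∈ A, a ∉ B1 ∧ a ∈ B2 := by
      by_cases k : a1 ∈ B2
      · exact ⟨a1, ha1, n1, k⟩
      · exact ⟨_, h12, n12, (hidx B2 i2 a1 ha1 a2 (l1 ha2)).2 (iff_of_false k n2)⟩
    have hz := hP2 (commutator_mem_commutator m1 (hPT m2))
    have hai := hinv a ha fun e => k1 (e ▸ one_mem _)
    have z1 := mem_cent.1 hz.2 e1 m1
    have z2 := mem_cent.1 hz.2 e2 m2
    refine h.le_stab_of_pair hp hp2 (hord e1 m1 o1) (hord _ hz.1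
      (fun e => hc (commutatorElement_eq_one_iff_mul_comm.1 e))) z1 hai hbi h2i (hAδ ha)
      (hAδ (l1 hb.1)) (d1 a ha k1) ?_ (c1 b hb.1) ?_ (c1 a2 ha2) ?_ hX (hTX (hPT m1))
      (hTX (hPT hz.1))
    · rw [hai.conj_comm, d1 a ha k1, hai.conj_eq_of_comm (c2 a k2), comm_inv_left z1.symm]
    · refine hbi.comm_of_conj_eq ?_
      rw [hbi.conj_comm, hbi.conj_eq_of_comm (c1 b hb.1), hbi.conj_eq_of_comm (c2 b hb.2)]
    · rw [h2i.conj_comm, h2i.conj_eq_of_comm (c1 a2 ha2), d2 a2 (l1 ha2) n2,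
        comm_inv_right z2.symm]

end Cfsg.Agent.P6
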