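/-
The involutions of a point stabilizer commute.
-/
import Cfsg.Agent.P6.U
import Cfsg.Agent.FT.BG06

set_option autoImplicit false
set_option linter.unusedSectionVars false

namespace Cfsg.Agent.P6

open Subgroup Cfsg Cfsg.Agent Cfsg.Agent.FT MulAction
open scoped commutatorElement

universe u v

variable {G : Type u} [Group G] [Finite G] {Ω : Type v} [MulAction G Ω]

/-- The kernel of the action of `N` on `Fx Ω N`. -/
def Ker (Ω : Type v) [MulAction G Ω] (N : Subgroup G) : Subgroup G where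
  carrier := {x | x ∈ N ∧ ∀ δ ∈ Fx Ω N, x • δ = δ}
  one_mem' := ⟨one_mem N, fun δ _ => one_smul G δ⟩
  mul_mem' := fun ⟨h1, h2⟩ ⟨h3, h4⟩ =>
    ⟨mul_mem h1 h3, fun δ hδ => by rw [mul_smul, h4 δ hδ, h2 δ hδ]⟩
  inv_mem' := fun ⟨h1, h2⟩ => ⟨inv_mem h1, fun δ hδ => inv_smul_eq_iff.2 (h2 δ hδ).symm⟩

theorem mem_Ker {N : Subgroup G} {x : G} : x ∈ Ker Ω N ↔ x ∈ N ∧ ∀ δ ∈ Fx Ω N, x • δ = δ := Iff.rfl

theorem norm_le_norm_Ker (N : Subgroup G) : 𝐍(N) ≤ 𝐍(Ker Ω N) := fun g hg =>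
  mem_norm_of_conj_le fun x hx => by
    obtain ⟨y, hy, rfl⟩ := mem_conj'.1 hx
    refine ⟨(mem_normalizer_iff.1 hg y).1 hy.1, fun δ hδ => ?_⟩
    rw [mul_smul, mul_smul, hy.2 _ (smul_mem_Fx (inv_mem hg) hδ), smul_inv_smul]

theorem rk2_of_two_le_pRank {N : Subgroup G} (h : 2 ≤ pRank 2 N) : Rk2 N := by
  obtain ⟨A, hA, hE⟩ := (le_pRank_iff (n := 2) Nat.prime_two).1 h
  have hsq : ∀ x ∈ A, x * x = 1 := fun x hx => by rw [← pow_two]; exact hE.elemAb.2 x hx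
  obtain ⟨a, ha, ha1⟩ := (A.bot_or_exists_ne_one).resolve_left (hE.ne_bot Nat.prime_two (by decide))
  have : ¬ A ≤ zpowers a := fun hle =>
    hE.not_isCyclic Nat.prime_two le_rfl (isCyclic_of_le hle (isCyclic_iff_zpowers.2 ⟨a, rfl⟩))
  obtain ⟨b, hb, hba⟩ := SetLike.not_le_iff_exists.1 this
  exact ⟨a, hA ha, b, hA hb, ⟨ha1, hsq a ha⟩,
    ⟨fun e => hba (e ▸ one_mem _), hsq b hb⟩, fun e => hba (e ▸ mem_zpowers a),
    mem_cent.1 (hE.le_cent hb) a ha⟩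

theorem not_dvd_relIndex_of_sup {K L H : Subgroup G} (hK : K ⊲ H) (hL : L ≤ H) (hs : K ⊔ L = H)
    (ho : Odd 𝐨(K)) : ¬ 2 ∣ L.relIndex H := by
  have h1 := FT.card_sup_mul_card_inf (hL.trans hK.2)
  rw [hs, ← H1.card_mul_relIndex hL, mul_assoc, mul_comm 𝐨(K)] at h1
  have h2 := Nat.eq_of_mul_eq_mul_left Nat.card_pos h1
  exact fun h3 => (Nat.not_even_iff_odd.2 ho) (even_iff_two_dvd.2 (h2 ▸ h3.mul_right _))

theorem conj_comm_mem {W : Subgroup G} {d x a : G} (hd : d ∈ 𝐍(W)) (h : ⁅x, a⁆ ∈ W) :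
    ⁅d * x * d⁻¹, d * a * d⁻¹⁆ ∈ W := by
  rw [← conjugate_commutatorElement]
  exact (mem_normalizer_iff.1 hd _).1 h

namespace Min

variable (h : Min G Ω)
include h

theorem iComm_of_nw (hnw : ∀ r : ℕ, r.Prime → r ≠ 2 → NW G Ω r) : IComm G Ω := by
  intro a b α ha hb ea eb
  have hm := (h.toHyp.sa α).comm_mem ha hb ea eb
  by_contra hne
  obtain ⟨y, hy, hp⟩ := exists_prime_pow_mem (x := ⁅a, b⁆)
    fun e => hne (commutatorElement_eq_one_iff_mul_comm.1 e)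
  have hyW := (zpowers_le.2 hm) hy
  refine hnw _ hp (fun e => ?_) y a α rfl ha ea ((Od_normal _).1 hyW)
    (inverts_of_mem_zpowers ha.sq ?_ hy)
  · exact (inv_of_orderOf e).not_mem_of_odd (odd_Od _) hyW
  · rw [commutatorElement_inv, commutatorElement_def, commutatorElement_def, ha.inv_eq, hb.inv_eq,
      ← mul_assoc, ← mul_assoc, ha.mul_cancel_left]

theorem dvd_w {p : ℕ} (hp : p.Prime) (hp2 : p ≠ 2) (hnw : ¬ NW G Ω p) {a : G} {α : Ω}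
    (ha : Inv a) (ea : a • α = α) : p ∣ 𝐂[a].relIndex (Od (stabilizer G α)) := by
  unfold NW at hnw
  push Not at hnw
  obtain ⟨x, b, β, hx, hb, eb, ex, hi⟩ := hnw
  obtain ⟨g, rfl⟩ := h.isConj hb ha
  obtain rfl := h.toSE.smul_eq_of_conj hb eb ea
  have ho : orderOf (g * x * g⁻¹) = p := by
    rw [← hx]; exact (MulAut.conj g).orderOf_eq x
  have hi' : g * b * g⁻¹ * (g * x * g⁻¹) * (g * b * g⁻¹) = (g * x * g⁻¹)⁻¹ := by
    calc _ = g * (b * x * b) * g⁻¹ := by group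
      _ = _ := by rw [hi]; group
  exact dvd_of_inverted hp (odd_Od _) ha ((Od_normal _).2 ea)
    ((h.toHyp.sa _).mem_Od_of_inv (conj_fix ex) ea ha (ho ▸ hp.odd_of_ne_two hp2) hi') ho hi'

theorem odd_cent_of_syl {p : ℕ} (hp : p.Prime) (hp2 : p ≠ 2) (hnw : ¬ NW G Ω p) {δ : Ω}
    {T : Subgroup G} (hT : IsSyl p T (Od (stabilizer G δ))) :
    Odd 𝐨((stabilizer G δ ⊓ 𝐂(T) : Subgroup G)) :=
  odd_of_no_inv fun _ hc hci => hT.ndvd ((h.dvd_w hp hp2 hnw hci hc.1).trans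
    (relIndex_dvd_of_le_left _ (mem_cent_iff_cent1.1 hc.2)))

theorem dvd_m {p : ℕ} (hp : p.Prime) (hp2 : p ≠ 2) (hnw : ¬ NW G Ω p) (α : Ω) :
    p ∣ (Iv G α).ncard := by
  obtain ⟨a, ha, ea⟩ := h.all α
  have := h.two
  obtain ⟨β, hne⟩ := exists_ne α
  have e : Iv G α = {c | ∃ y ∈ stabilizer G α, y * a * y⁻¹ = c} := by
    ext c
    constructor
    · rintro ⟨hc, ec⟩
      obtain ⟨d, hd, e⟩ := h.exists_conj_D ha hc ea ec hne.symm
      exact ⟨d, hd.1, e⟩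
    · rintro ⟨y, hy, rfl⟩
      exact ⟨ha.conj y, conj_fix' ea hy⟩
  rw [e, ncard_class]
  by_contra hd
  obtain ⟨P, hP⟩ := exists_isSyl hp (𝐂[a] ⊓ stabilizer G α)
  have h1 := (hP.trans hp inf_le_right (by rwa [inf_relIndex_right])).inf_normal hp (Od_normal _)
  exact (ha.not_mem_of_odd (h.odd_cent_of_syl hp hp2 hnw h1))
    ⟨ea, mem_cent_iff_cent1.2 ((inf_le_left.trans hP.le).trans inf_le_left)⟩

theorem caseA {p : ℕ} (hp : p.Prime) (hp2 : p ≠ 2) (hnw : ¬ NW G Ω p)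
    (hch : (∃ i, pRank 2 (⊤ : Subgroup G) = p ^ i) →
      ∀ r : ℕ, r.Prime → r ≠ 2 → r ≠ p → NW G Ω r)
    {R : Subgroup G} {α β : Ω} (hne : α ≠ β) (hR : IsPGroup p R) (hRD : R ≤ St2 G α β)
    (hmax : ∀ δ ε : Ω, δ ≠ ε → ∀ X : Subgroup G, IsPGroup p X → X ≤ St2 G δ ε → 𝐨(X) ≤ 𝐨(R)) :
    IsSyl p R (stabilizer G α) := by
  by_contra hA
  have hRα : R ≤ stabilizer G α := hRD.trans inf_le_left
  have hRβ : R ≤ stabilizer G β := hRD.trans inf_le_right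
  have hsyl : ∀ δ ε : Ω, δ ≠ ε → R ≤ stabilizer G δ → R ≤ stabilizer G ε →
      IsSyl p R (St2 G δ ε) := fun δ ε hn h1 h2 =>
    isSyl_of_maximal hp (le_inf h1 h2) hR fun Q hRQ hQ hQp =>
      (H1.eq_of_le_of_card_le hRQ (hmax δ ε hn Q hQp hQ)).symm
  have hRs := hsyl α β hne hRα hRβ
  have htr : ∀ δ ε : Ω, R ≤ stabilizer G δ → R ≤ stabilizer G ε → δ ∈ Fx Ω 𝐍(R) →
      ε ∈ Fx Ω 𝐍(R) := fun δ ε h1 h2 h3 => by
    by_cases e : δ = ε
    · exact e ▸ h3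
    · obtain ⟨v, hv, -, rfl⟩ := h.exists_swap_norm hp e (hsyl δ ε e h1 h2)
      exact smul_mem_Fx' hv h3
  obtain ⟨u, huN, hu, eu⟩ := h.exists_swap_norm hp hne hRs
  obtain ⟨R1, hlt, hR1α, hR1N, hR1⟩ := exists_gt_of_not_isSyl hp hR hRα hA
  have hRo := odd_of_isPGroup hp hp2 hR
  have hR1o := odd_of_isPGroup hp hp2 hR1
  have hm := h.dvd_m hp hp2 hnw α
  have hR0 : R ≠ ⊥ := hRs.ne_bot hp ((h.ncard_Iv' hu eu hne α ▸ hm).trans (relIndex_dvd_card' _ _))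
  have noBT : ∀ M : Subgroup G, M ≠ ⊤ → Rk2 M → α ∈ Fx Ω M → β ∈ Fx Ω M → ¬ R1 ≤ M := by
    intro M hM hrk h1 h2 h3
    obtain ⟨ε, -, hn, hf⟩ := (h.ih M hM hrk ⟨α, h1, β, h2, hne⟩).exists_fixed h.toSE
      ⟨α, h1, β, h2, hne⟩ h1 hR1o h3 hR1α
    have := hmax α ε hn.symm R1 hR1 (le_inf hR1α hf)
    have := H1.card_lt_of_lt hlt
    omega
  have hrk : ¬ Rk2 𝐍(R) := fun hrk => by
    obtain ⟨γ, eγ⟩ := h.ex hu
    have h1 : γ ∈ Fx Ω 𝐍(R) := ⟨u, huN, hu, eγ⟩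
    have h2 := h.toSE.le_stab_of_rk2 hrk hRo le_rfl h1
    exact noBT _ (h.norm_ne_top_of_odd hR0 hRo) hrk (htr γ α h2 hRα h1) (htr γ β h2 hRβ h1) hR1N
  have hnpc := hasNPC_of_not_rk2 h.ab hrk
  obtain ⟨γ, hγ, hγ1⟩ : ∃ γ : Ω, R ≤ stabilizer G γ ∧ γ ∈ Fx Ω 𝐍(R) := by
    obtain ⟨g, hg, hgβ⟩ : ∃ g ∈ R1, g • β ≠ β := by
      by_contra hc
      push Not at hc
      have := hmax α β hne R1 hR1 (le_inf hR1α hc)
      have := H1.card_lt_of_lt hlt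
      omega
    obtain ⟨v, hvN, hv, ev⟩ := h.exists_swap_norm hp hgβ.symm
      (hsyl _ _ hgβ.symm hRβ (le_stab_smul (hR1N hg) hRβ))
    obtain ⟨y, hy, e⟩ := exists_fixed_orbit (odd_Od _) hv ((Od_normal _).2 hvN)
      (le_Od_of_npc hnpc hR1N hR1o hg) ev
    exact ⟨_, le_stab_smul ((Od_normal _).1 hy) hRβ, v, hvN, hv, e⟩
  obtain ⟨a, haN, ha, ea⟩ := htr γ α hγ hRα hγ1
  obtain ⟨b, hbN, hb, eb⟩ := htr γ β hγ hRβ hγ1
  have h1 : ∀ (δ : Ω) (c g : G), c ∈ 𝐍(R) → Inv c → c • δ = δ → g ∈ 𝐍(R) → g • δ = δ →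
      ⁅g, c⁆ ∈ Od (stabilizer G δ) := fun δ c g hcN hc ec hgN eg =>
    (h.toHyp.sa δ).comm_mem_of_odd eg ec hc (by
      rw [commutatorElement_def, hc.inv_eq]
      exact odd_mul_of_not_rk2 hrk (mul_mem (mul_mem hgN hcN) (inv_mem hgN)) hcN (hc.conj g) hc)
  have sa := h.toHyp.sa α
  have hW := Od_normal (stabilizer G α)
  have hD := h.toSE.odd_St2 hne
  have h2 : R ⊓ Od (stabilizer G α) ≠ ⊥ := fun e => by
    refine hRs.ndvd ((h.ncard_Iv ha ea hne ▸ hm).trans (relIndex_dvd_of_le_left _ fun x hx => ?_))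
    rw [mem_cent1, eq_comm, ← commutatorElement_eq_one_iff_mul_comm, ← mem_bot, ← e]
    refine ⟨?_, h1 α a x haN ha ea (le_norm_self R hx) (hRα hx)⟩
    rw [commutatorElement_def, mul_assoc, mul_assoc, ← mul_assoc a]
    exact mul_mem hx ((mem_normalizer_iff.1 haN _).1 (inv_mem hx))
  have h3 : ∀ c ∈ stabilizer G α, Inv c → (∀ x ∈ R, ⁅x, c⁆ ∈ Od (stabilizer G α)) →
      a⁻¹ * c ∈ Od (stabilizer G α) := by
    intro c ec hc hcR
    obtain ⟨d, hd, rfl⟩ := h.exists_conj_D ha hc ea ec hne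
    obtain ⟨V, hV⟩ : ∃ V, V = St2 G α β ⊓ H1.unbar (stabilizer G α) (Od (stabilizer G α))
      𝐂[pr (stabilizer G α) ⟨_, ec⟩] := ⟨_, rfl⟩
    have hmem : ∀ x ∈ St2 G α β, x ∈ V ↔ ⁅x, d * a * d⁻¹⁆ ∈ Od (stabilizer G α) := fun x hx => by
      rw [hV, mem_inf, H1.mem_unbar, ← pr_comm_iff hx.1 ec]
      exact ⟨fun ⟨_, _, e⟩ => (mem_cent1.1 e).symm, fun e => ⟨hx, hx.1, mem_cent1.2 e.symm⟩⟩
    have hVD : V ≤ St2 G α β := hV ▸ inf_le_left
    have k1 := hRs.of_le (fun x hx => (hmem x (hRD hx)).2 (hcR x hx)) hVD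
    have k2 : R ^ᵍ d ≤ V := fun x hx => by
      refine (hmem x (conj_le_of_mem hRD hd hx)).2 ?_
      obtain ⟨y, hy, rfl⟩ := mem_conj'.1 hx
      exact conj_comm_mem (hW.2 hd.1) (h1 α a y haN ha ea (le_norm_self R hy) (hRα hy))
    obtain ⟨k, hk, e⟩ := k1.exists_conj_eq hp (k1.of_card_eq hp k2 (card_conj R d))
    rw [conj_conj, conj_eq_self_iff] at e
    have k3 := h1 α a (k * d) haN ha ea e (mul_mem (hVD hk).1 hd.1)
    have k4 := (hmem k (hVD hk)).1 hk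
    have k5 := (mem_normalizer_iff.1 (hW.2 (inv_mem ea)) _).1 (mul_mem (inv_mem k3) k4)
    have k6 := inv_mem k5
    convert k6 using 1
    simp only [commutatorElement_def]
    group
  have h4 : ∀ r : ℕ, r.Prime → r ≠ 2 → r ≠ p → NW G Ω r := hch (by
    rw [← h.pRank_stab α, sa.pRank_eq inf_le_left hD (h.trans_D hne) hRD ha ea
      (fun x hx => h1 α a x haN ha ea (le_norm_self R hx) (hRα hx)) h3]
    obtain ⟨n, hn⟩ := exists_card_eq_pow hp hR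
    obtain ⟨i, -, hi⟩ := (Nat.dvd_prime_pow hp).1 (hn ▸ relIndex_dvd_card' _ R)
    exact ⟨i, hi⟩)
  have h5 : R ⊓ Od (stabilizer G α) ≤ Od (stabilizer G β) := by
    by_contra hc
    obtain ⟨x, hx, r, hr, hxr, hf⟩ := (h.toHyp.sa β).exists_fpf inf_le_left
      (h.toSE.odd_St2 hne.symm) hb eb (h.trans_D hne.symm)
      (inf_normal hW (K := St2 G β α) inf_le_right)
      (fun hl => hc ((le_inf inf_le_right (inf_le_left.trans (le_inf hRβ hRα))).trans hl))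
    have hx1 : x ≠ 1 := fun e => hf b eb hb (by rw [e, commutatorElement_one_left]; exact one_mem _)
    have hr2 : r ≠ 2 := by
      rintro rfl
      exact hx1 (eq_one_of_odd_of_mem hxr (mem_zpowers x) (odd_orderOf_of_mem (odd_Od _) hx.1))
    have hrp : r ≠ p := by
      rintro rfl
      obtain ⟨d, hd, hl⟩ := hRs.exists_conj_le hr hxr (zpowers_le.2 ⟨hx.2.2, hx.2.1⟩)
      have hd2 : d⁻¹ ∈ stabilizer G β := inv_mem (mem_inf.1 hd).2
      have k1 := hl (conj_mem_conj (mem_zpowers x) d)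
      have k2 := conj_comm_mem ((Od_normal _).2 hd2)
        (h1 β b _ hbN hb eb (le_norm_self R k1) (hRβ k1))
      refine hf _ (conj_fix' eb hd2) (hb.conj d⁻¹) ?_
      convert k2 using 2
      group
    have hnr := h4 r hr hr2 hrp
    obtain ⟨P, hP, -, hPn⟩ := exists_invariant_isSyl hr (zpowers_le.2 (hW.2 ea))
      (ha.coprime (odd_Od _)) (Or.inl (Inv.solv a)) (IsPGroup.of_bot (p := r)) bot_le
      (by rw [norm_bot]; exact le_top)
    have k1 := hnr.mem_cent hr hP.pgrp (hP.le.trans hW.1) ha ea (hPn (mem_zpowers a))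
    obtain ⟨w, hw, hl⟩ := hP.exists_le_conj hr hxr (zpowers_le.2 hx.1)
    obtain ⟨c, hcx, hci, ec⟩ := h.L1 hr hnr hxr ⟨α, w * a * w⁻¹,
      cent_anti hl (by rw [cent_conj]; exact conj_mem_conj k1 w), ha.conj w,
      conj_fix' ea (hW.1 hw)⟩ (zpowers_le.2 hx.2.1)
    refine hf c ec hci ?_
    rw [commutatorElement_eq_one_iff_mul_comm.2 (mem_cent.1 hcx x (mem_zpowers x))]
    exact one_mem _
  have h6 : u ∈ 𝐍(R ⊓ Od (stabilizer G α)) := by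
    rw [← conj_eq_self_iff]
    refine (H1.eq_of_le_of_card_le ?_ (card_conj _ u).le).symm
    rw [conj_inf, conj_eq_of_mem_norm huN, ← Od_stab_smul, eu]
    exact le_inf inf_le_left h5
  have hNN : 𝐍(R) ⊓ stabilizer G α ≤ 𝐍(R ⊓ Od (stabilizer G α)) :=
    H1.le_normalizer_inf inf_le_left (inf_le_right.trans hW.2)
  have haN' := hNN ⟨haN, ea⟩
  have hα' : α ∈ Fx Ω 𝐍(R ⊓ Od (stabilizer G α)) := ⟨a, haN', ha, ea⟩
  refine noBT _ (h.norm_ne_top_of_odd h2 (odd_of_le inf_le_left hRo)) ?_ hα'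
    (eu ▸ smul_mem_Fx' h6 hα') ((le_inf hR1N hR1α).trans hNN)
  obtain ⟨c, ec, hc, hca⟩ : ∃ c ∈ stabilizer G α, Inv c ∧ a⁻¹ * c ∉ Od (stabilizer G α) := by
    obtain ⟨x, hx, y, hy, hxi, hyi, hxy, hcm⟩ := h.toSE.rk2_stab h.rk2 (h.mem_Fx_top α)
    by_contra hc
    push Not at hc
    have := mul_mem (inv_mem (hc x hx.2 hxi)) (hc y hy.2 hyi)
    rw [show (a⁻¹ * x)⁻¹ * (a⁻¹ * y) = x⁻¹ * y by group, hxi.inv_eq] at this
    exact (hxi.mul hyi hxy hcm).not_mem_of_odd (odd_Od _) this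
  obtain ⟨d, hd, rfl⟩ := h.exists_conj_D ha hc ea ec hne
  have hDW := inf_normal hW (K := St2 G α β) inf_le_left
  have k1 := hRs.inf_normal hp hDW
  rw [← inf_assoc, inf_eq_left.2 (inf_le_left.trans hRD)] at k1
  have k2 := k1.frattini hp hDW
  obtain ⟨w, hw, e, he, rfl⟩ := (mem_sup_of_norm (inf_le_left.trans hDW.2)).1 (k2.symm ▸ hd)
  refine sa.rk2_of_not_mem ha (ha.conj e) ea (conj_fix' ea he.1.1) (fun k3 => hca ?_) haN'
    (mul_mem (mul_mem he.2 haN') (inv_mem he.2))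
  have k4 := (mem_normalizer_iff.1 (hW.2 (inv_mem ea)) _).1 hw.1
  have k5 := mul_mem (mul_mem k4 k3) (inv_mem hw.1)
  convert k5 using 1
  group

theorem exists_syl_zl {p : ℕ} (hp : p.Prime) (hp2 : p ≠ 2) (hnw : ¬ NW G Ω p) {R : Subgroup G}
    {δ : Ω} (hR : IsSyl p R (stabilizer G δ)) : ∃ S, IsSyl 2 S (stabilizer G δ) ∧
      S ≤ 𝐍(R ⊓ Od (stabilizer G δ)) ∧ S ≤ 𝐍(H2.zl R) := by
  have := Fact.mk hp
  have hW := Od_normal (stabilizer G δ)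
  have hT := hR.inf_normal hp hW
  obtain ⟨M, hM⟩ : ∃ M, M = stabilizer G δ ⊓ 𝐍(R ⊓ Od (stabilizer G δ)) := ⟨_, rfl⟩
  have hMH : M ≤ stabilizer G δ := hM ▸ inf_le_left
  have hMT : M ≤ 𝐍(R ⊓ Od (stabilizer G δ)) := hM ▸ inf_le_right
  have hRM : R ≤ M := hM ▸ le_inf hR.le
    (H1.le_normalizer_inf (le_norm_self R) (hR.le.trans hW.2))
  have hO := pPrimeCoreOf_normal p M
  have hOo : Odd 𝐨(H2.pPrimeCoreOf p M) := by
    refine odd_of_le (le_inf (hO.1.trans hMH) ?_) (h.odd_cent_of_syl hp hp2 hnw hT)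
    obtain ⟨n, hn⟩ := exists_card_eq_pow hp hT.pgrp
    refine le_cent_of_norm_of_coprime (hO.1.trans hMT) ((inf_le_left.trans hRM).trans hO.2) ?_
    rw [hn]
    exact ((Nat.Prime.coprime_iff_not_dvd hp).2 (not_dvd_card_pPrimeCoreOf hp M)).pow_left n
  have hs : H2.pPrimeCoreOf p M ⊔ (M ⊓ 𝐍(H2.zl R)) = M :=
    le_antisymm (sup_le hO.1 inf_le_left) fun x hx => by
      obtain ⟨o, ho, n, hn, rfl⟩ := H2.exists_mul_normalizer_zl hp2
        (H1.isSolvable_of_le hMH (h.sol δ)) (fun T _ => h.ab T) hRM hR.pgrp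
        (hR.of_le hRM hMH).ndvd hx
      exact mul_mem_sup ho hn
  obtain ⟨S, hS⟩ := exists_isSyl Nat.prime_two (M ⊓ 𝐍(H2.zl R))
  refine ⟨S, (hS.trans Nat.prime_two inf_le_left
    (not_dvd_relIndex_of_sup hO inf_le_left hs hOo)).trans Nat.prime_two hMH
    (not_dvd_relIndex_of_sup hW hMH (hM ▸ hT.frattini hp hW) (odd_Od _)),
    (hS.le.trans inf_le_left).trans hMT, hS.le.trans inf_le_right⟩

theorem rk2_syl {δ : Ω} {S : Subgroup G} (hS : IsSyl 2 S (stabilizer G δ)) : Rk2 S :=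
  rk2_of_two_le_pRank (by
    rw [hS.pRank_eq Nat.prime_two, h.pRank_stab]; exact h.rk2.two_le_pRank)

theorem mem_Fx_syl {δ : Ω} {S : Subgroup G} (hS : IsSyl 2 S (stabilizer G δ)) : δ ∈ Fx Ω S := by
  obtain ⟨a, ha, -, -, hi, -⟩ := h.rk2_syl hS
  exact ⟨a, ha, hi, hS.le ha⟩

theorem caseB {p : ℕ} (hp : p.Prime) (hp2 : p ≠ 2) (hnw : ¬ NW G Ω p)
    (hR2 : ∀ S : Subgroup G, IsSyl 2 S ⊤ → ¬ IsElem 2 2 S)
    {R : Subgroup G} {α β : Ω} (hne : α ≠ β) (hRβ : R ≤ stabilizer G β)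
    (hR : IsSyl p R (stabilizer G α)) : False := by
  have := Fact.mk hp
  obtain ⟨u, huN, hu, eu⟩ := h.exists_swap_norm hp hne
    (hR.of_le (le_inf hR.le hRβ) inf_le_left)
  have hR' : IsSyl p R (stabilizer G β) := by
    have := hR.conj u
    rwa [conj_eq_of_mem_norm huN, ← stabilizer_smul', eu] at this
  have hW := Od_normal (stabilizer G α)
  have hW' := Od_normal (stabilizer G β)
  have hWu : Od (stabilizer G β) = Od (stabilizer G α) ^ᵍ u := by rw [← Od_stab_smul, eu]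
  have hT := hR.inf_normal hp hW
  obtain ⟨a, ha, ea⟩ := h.all α
  have hT0 : R ⊓ Od (stabilizer G α) ≠ ⊥ :=
    hT.ne_bot hp ((h.dvd_w hp hp2 hnw ha ea).trans (relIndex_dvd_card' _ _))
  have hR0 : R ≠ ⊥ := fun e => hT0 (by rw [e, bot_inf_eq])
  have hnil := isNilpotent_of_isPGroup hp hR.pgrp
  obtain ⟨S, hS, hST, hSZ⟩ := h.exists_syl_zl hp hp2 hnw hR
  obtain ⟨S', hS', hST', hSZ'⟩ := h.exists_syl_zl hp hp2 hnw hR'
  have hN1 : 𝐍(H2.zl R) ≠ ⊤ := h.norm_ne_top_of_le (H2.zl_ne_bot hR0) ((H2.zl_le R).trans hR.le)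
  have hα := Fx_mono hSZ (h.mem_Fx_syl hS)
  have hβ := Fx_mono hSZ' (h.mem_Fx_syl hS')
  have hnt : (Fx Ω 𝐍(H2.zl R)).Nontrivial := ⟨α, hα, β, hβ, hne⟩
  have hbt := h.ih _ hN1 ((h.rk2_syl hS).mono hSZ) hnt
  have hRZ : R ≤ 𝐍(H2.zl R) := (le_norm_self R).trans (H2.normalizer_le_normalizer_zl R)
  have hTβ : R ⊓ Od (stabilizer G α) ≤ Od (stabilizer G β) := by
    have k1 : R ⊓ Od (stabilizer G α) ≤ Ker Ω 𝐍(H2.zl R) := fun x hx =>
      ⟨hRZ hx.1, fun δ hδ => hbt.fix_of_normal h.toSE hα (odd_of_le inf_le_left (odd_Od _))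
        (inf_normal hW inf_le_right) hδ ⟨hx.2, hRZ hx.1, hR.le hx.1⟩⟩
    refine k1.trans ((h.toHyp.sa β).le_Od_of_norm hS' (fun x hx => hx.2 β hβ)
      (odd_of_le (Y := St2 G α β) (fun x hx => ⟨hx.2 α hα, hx.2 β hβ⟩) (h.toSE.odd_St2 hne)) ?_)
    exact ((omegaOne_le _ _).trans hSZ').trans ((le_norm_self _).trans (norm_le_norm_Ker _))
  have hTT : R ⊓ Od (stabilizer G α) = R ⊓ Od (stabilizer G β) := by
    refine H1.eq_of_le_of_card_le (le_inf inf_le_left hTβ) ?_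
    rw [hWu]
    conv_lhs => rw [← conj_eq_of_mem_norm huN, ← conj_inf, card_conj]
  have hn : 3 ≤ pRank 2 (⊤ : Subgroup G) := by
    by_contra hc
    have k1 := isElem_omegaOne_of_comm Nat.prime_two (h.ab S hS.pgrp)
    rw [omegaOne_eq_self (fun x hx => by
      rw [pow_two]; exact hbt.sq_eq_one h.toSE hnt (hSZ hx) (hS.pgrp.to_le (zpowers_le.2 hx))),
      hS.pRank_eq Nat.prime_two, h.pRank_stab] at k1
    have k2 := h.rk2.two_le_pRank
    rw [show pRank 2 (⊤ : Subgroup G) = 2 by omega] at k1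
    exact hR2 S (h.toSE.isSyl_top (h.mem_Fx_top α) hS) k1
  have hT' := hR'.inf_normal hp hW'
  rw [← hTT] at hT' hST'
  generalize R ⊓ Od (stabilizer G α) = T at hT hT0 hST hTβ hT' hST'
  have hX := pPrimeCoreOf_normal p (Od (stabilizer G α))
  have hXc : 𝐨(H2.pPrimeCoreOf p (Od (stabilizer G α))).Coprime p :=
    ((Nat.Prime.coprime_iff_not_dvd hp).2 (not_dvd_card_pPrimeCoreOf hp _)).symm
  have hXu : H2.pPrimeCoreOf p (Od (stabilizer G β)) =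
      H2.pPrimeCoreOf p (Od (stabilizer G α)) ^ᵍ u := by rw [hWu, pPrimeCoreOf_conj _ _ hp]
  have hXn : stabilizer G α ≤ 𝐍(H2.pPrimeCoreOf p (Od (stabilizer G α))) := by
    rw [pPrimeCoreOf_eq hp]; exact hW.2.trans (norm_le_norm_piCoreOf _ _)
  generalize hXe : H2.pPrimeCoreOf p (Od (stabilizer G α)) = X at hX hXc hXu hXn
  have hTX : T ≤ 𝐍(X) := hT.le.trans hX.2
  have hoC := h.odd_cent_of_syl hp hp2 hnw hT'
  have hXβ : X ≤ stabilizer G β := by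
    have k1 := isElem_omegaOne_of_comm Nat.prime_two (h.ab S' hS'.pgrp)
    rw [hS'.pRank_eq Nat.prime_two, h.pRank_stab] at k1
    exact h.toSE.le_stab_of_rank3 hp hp2 hT.pgrp k1 hn ((omegaOne_le _ _).trans hS'.le)
      ((omegaOne_le _ _).trans hST') (fun c hc hci hcT =>
        hci.not_mem_of_odd hoC ⟨hS'.le (omegaOne_le _ _ hc), hcT⟩) hXc hTX
  obtain ⟨n, hTn⟩ := exists_card_eq_pow hp hT.pgrp
  have hXW : X ≤ Od (stabilizer G β) := by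
    rw [← H1.commutator_sup_centralizer hTX (by rw [hTn]; exact hXc.symm.pow_left n)
      (Or.inl (isSolvable_of_isNilpotent (isNilpotent_of_isPGroup hp hT.pgrp)))]
    refine sup_le ((commutator_mono hXβ hTβ).trans (comm_le_right_iff.2 hW'.2))
      ((inf_le_inf_right _ hXβ).trans ((h.toHyp.sa β).le_Od_of_norm hS' inf_le_left hoC ?_))
    exact H1.le_normalizer_inf (((omegaOne_le _ _).trans hS'.le).trans (le_norm_self _))
      (H1.le_normalizer_centralizer ((omegaOne_le _ _).trans hST'))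
  have hXX : X ≤ H2.pPrimeCoreOf p (Od (stabilizer G β)) := by
    have k0 := pPrimePCoreOf_normal p (Od (stabilizer G β))
    refine BG06.le_pPrimeCoreOf_of_le hp (BG06.le_pPrimePCoreOf_of_comm_le hp
      (H1.isSolvable_of_le hW'.1 (h.sol β)) (hT'.inf_normal hp k0) hXW
      (BG06.le_pPrimeCoreOf_of_le hp ?_ ?_)) hXc
    · exact (commutator_mono inf_le_right hXW).trans (comm_le_left_iff.2 k0.2)
    · exact Nat.Coprime.coprime_dvd_left
        (FT.card_dvd_of_le (comm_le_right_iff.2 (inf_le_left.trans hTX))) hXc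
  have huα : u • α ≠ α := eu ▸ hne.symm
  have hX0 : X = ⊥ := by
    by_contra hc
    refine h.norm_ne_top_of_odd hc (odd_of_le hX.1 (odd_Od _)) (h.eq_top hXn ?_ huα)
    rw [← conj_eq_self_iff, ← hXu]
    exact (H1.eq_of_le_of_card_le hXX (by rw [hXu, card_conj])).symm
  have hO := pPrimeCoreOf_normal p (stabilizer G α)
  have hOc : 𝐨(H2.pPrimeCoreOf p (stabilizer G α)).Coprime p :=
    ((Nat.Prime.coprime_iff_not_dvd hp).2 (not_dvd_card_pPrimeCoreOf hp _)).symm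
  have hOW : H2.pPrimeCoreOf p (stabilizer G α) ⊓ Od (stabilizer G α) = ⊥ := by
    rw [eq_bot_iff, ← hX0, ← hXe]
    exact le_pPrimeCoreOf (inf_normal hO hW.1)
      (Nat.Coprime.coprime_dvd_left (FT.card_dvd_of_le inf_le_left) hOc)
  have hO0 : H2.pPrimeCoreOf p (stabilizer G α) = ⊥ := by
    rw [← hOW, eq_comm, inf_eq_left]
    refine le_Od hO (odd_of_le (le_inf hO.1 ?_) (h.odd_cent_of_syl hp hp2 hnw hT))
    exact (cent_comm.1 (le_cent_of_norm_of_disj (hW.1.trans hO.2) (hO.1.trans hW.2) hOW)).trans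
      (cent_anti hT.le)
  refine hN1 (h.eq_top (fun x hx => ?_) (H2.normalizer_le_normalizer_zl R huN) huα)
  obtain ⟨o, ho, n, hn, rfl⟩ := H2.exists_mul_normalizer_zl hp2 (h.sol α) (fun T _ => h.ab T)
    hR.le hR.pgrp hR.ndvd hx
  rw [hO0, mem_bot] at ho
  rw [ho, one_mul]
  exact hn.2

/-- Section 3: the involutions of a point stabilizer commute, unless the Sylow 2-subgroups
are four-groups. -/
theorem iComm_of_ne (hR2 : ∀ S : Subgroup G, IsSyl 2 S ⊤ → ¬ IsElem 2 2 S) : IComm G Ω := by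
  by_contra hc
  obtain ⟨p, hp, hp2, hnw, hch⟩ : ∃ p : ℕ, p.Prime ∧ p ≠ 2 ∧ ¬ NW G Ω p ∧
      ((∃ i, pRank 2 (⊤ : Subgroup G) = p ^ i) →
        ∀ r : ℕ, r.Prime → r ≠ 2 → r ≠ p → NW G Ω r) := by
    obtain ⟨r, hr, hr2, hnr⟩ : ∃ r : ℕ, r.Prime ∧ r ≠ 2 ∧ ¬ NW G Ω r := by
      by_contra h2
      push Not at h2
      exact hc (h.iComm_of_nw h2)
    by_contra h2
    push Not at h2
    obtain ⟨⟨i, hi⟩, s, hs, hs2, hsr, hns⟩ := h2 r hr hr2 hnr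
    obtain ⟨⟨j, hj⟩, -⟩ := h2 s hs hs2 hns
    have h3 := h.rk2.two_le_pRank
    have h4 : j ≠ 0 := by rintro rfl; rw [pow_zero] at hj; omega
    exact hsr ((Nat.prime_dvd_prime_iff_eq hs hr).1
      (hs.dvd_of_dvd_pow (hi ▸ hj ▸ dvd_pow_self s h4)))
  have := h.two
  obtain ⟨α0, β0, hne0⟩ := exists_pair_ne Ω
  obtain ⟨R, ⟨hR, α, β, hne, hRD⟩, hmax⟩ := exists_max_card
    (P := fun R : Subgroup G => IsPGroup p R ∧ ∃ α β : Ω, α ≠ β ∧ R ≤ St2 G α β)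
    ⟨⊥, IsPGroup.of_bot, α0, β0, hne0, bot_le⟩
  exact h.caseB hp hp2 hnw hR2 hne (hRD.trans inf_le_right) (h.caseA hp hp2 hnw hch hne hR hRD
    fun δ ε hn X hX hXD => hmax X ⟨hX, δ, ε, hn, hXD⟩)

end Min

end Cfsg.Agent.P6
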