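/-
Sylow 2-subgroups of order four: the principal block bounds the degree of the action.
-/
import Cfsg.Agent.P6.Sec3
import Cfsg.Agent.P1.Frob
import Cfsg.Agent.P1.Block

set_option autoImplicit false
set_option linter.unusedSectionVars false

namespace Cfsg.Agent.P6

open Subgroup Cfsg Cfsg.Agent Cfsg.Agent.FT MulAction
open scoped commutatorElement ComplexConjugate

universe u v

variable {G : Type u} [Group G] [Finite G] {Ω : Type v} [MulAction G Ω]

theorem Inv.mem_zpowers_iff {t x : G} (ht : Inv t) : x ∈ zpowers t ↔ x = 1 ∨ x = t := by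
  constructor
  · intro hx
    obtain ⟨n, rfl⟩ := (mem_powers_iff_mem_zpowers.2 hx)
    rcases Nat.even_or_odd' n with ⟨k, rfl | rfl⟩
    · left; simp only [pow_mul, pow_two, ht.sq, one_pow]
    · right; simp only [pow_succ, pow_mul, pow_zero, one_mul, ht.sq, one_pow]
  · rintro (rfl | rfl)
    · exact one_mem _
    · exact mem_zpowers _

theorem Inv.sum_zpowers {t : G} (ht : Inv t) (f : G → ℂ) :
    ∑ x ∈ fs ((zpowers t : Subgroup G) : Set G), f x = f 1 + f t := by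
  have h1 : ((zpowers t : Subgroup G) : Set G) = {1} ∪ {t} := by
    ext x; simp [ht.mem_zpowers_iff, or_comm]
  rw [h1, sum_fs_union (by simpa using ht.ne.symm), sum_fs_singleton, sum_fs_singleton]

theorem Inv.exists_int {t : G} (ht : Inv t) {χ : G → ℂ} (hχ : IsChar ⊤ χ) :
    ∃ e : ℤ, χ t = e ∧ Even (e + dg χ) := by
  obtain ⟨n, hn⟩ := (hχ.res (K := zpowers t) le_top).ip_nat (isChar_cf1 _)
  rw [ip_res_left, ip_cf1_right, ht.sum_zpowers, ht.card_zpowers, hχ.one_eq] at hn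
  refine ⟨2 * n - dg χ, ?_, by simp⟩
  push_cast at hn ⊢
  linear_combination 2 * hn

theorem num_aux {a b c : ℤ} (ha : 0 < a) (hb : 3 ≤ |b|) (hc : 3 ≤ |c|) (ob : Odd b) (oc : Odd c)
    (h : 1 + a + b + c = 0) : (4 / 9 : ℝ) ≤ 1 + (a : ℝ)⁻¹ + (b : ℝ)⁻¹ + (c : ℝ)⁻¹ := by
  have h3 : ∀ x : ℤ, 3 ≤ |x| → (-1 / 3 : ℝ) ≤ (x : ℝ)⁻¹ := fun x hx => by
    rcases le_abs'.1 hx with hx | hx
    · have : (x : ℝ) ≤ -3 := by exact_mod_cast hx
      rw [show (-1 / 3 : ℝ) = (-3 : ℝ)⁻¹ by norm_num]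
      exact (inv_le_inv_of_neg (by norm_num) (by linarith)).2 this
    · have : (0 : ℝ) < x := by exact_mod_cast (by omega : 0 < x)
      have := inv_pos.2 this
      linarith
  have h5 : ∀ x : ℤ, 3 ≤ |x| → Odd x → x ≠ -3 → (-1 / 5 : ℝ) ≤ (x : ℝ)⁻¹ := fun x hx ho hne => by
    rcases le_abs'.1 hx with hx | hx
    · obtain ⟨k, hk⟩ := ho
      have : (x : ℝ) ≤ -5 := by exact_mod_cast (by omega : x ≤ -5)
      rw [show (-1 / 5 : ℝ) = (-5 : ℝ)⁻¹ by norm_num]
      exact (inv_le_inv_of_neg (by norm_num) (by linarith)).2 this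
    · have : (0 : ℝ) < x := by exact_mod_cast (by omega : 0 < x)
      have := inv_pos.2 this
      linarith
  have h0 : (0 : ℝ) < (a : ℝ)⁻¹ := inv_pos.2 (by exact_mod_cast ha)
  by_cases e1 : b = -3
  · by_cases e2 : c = -3
    · obtain rfl : a = 5 := by omega
      subst e1 e2
      norm_num
    · have := h3 b hb
      have := h5 c hc oc e2
      linarith
  · have := h5 b hb ob e1
    have := h3 c hc
    linarith

theorem num_three {a b c : ℤ} (ha : 3 ≤ |a|) (hb : 3 ≤ |b|) (hc : 3 ≤ |c|) (oa : Odd a)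
    (ob : Odd b) (oc : Odd c) (h : 1 + a + b + c = 0) :
    (4 / 9 : ℝ) ≤ 1 + (a : ℝ)⁻¹ + (b : ℝ)⁻¹ + (c : ℝ)⁻¹ := by
  by_cases h1 : 0 < a
  · exact num_aux h1 hb hc ob oc h
  by_cases h2 : 0 < b
  · have := num_aux (a := b) (b := a) (c := c) h2 ha hc oa oc (by omega)
    linarith
  have h3 : 0 < c := by
    rcases le_abs'.1 ha with ha | ha <;> rcases le_abs'.1 hb with hb | hb <;> omega
  have := num_aux (a := c) (b := a) (c := b) h3 ha hb oa ob (by omega)
  linarith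

theorem num_fin {ι : Type*} {B : Finset ι} (hB : B.card ≤ 3) {e : ι → ℤ}
    (h3 : ∀ i ∈ B, 3 ≤ |e i|) (ho : ∀ i ∈ B, Odd (e i)) (h : 1 + ∑ i ∈ B, e i = 0) :
    (4 / 9 : ℝ) ≤ 1 + ∑ i ∈ B, (e i : ℝ)⁻¹ := by
  classical
  have hc : B.card = 0 ∨ B.card = 1 ∨ B.card = 2 ∨ B.card = 3 := by omega
  rcases hc with hc | hc | hc | hc
  · rw [Finset.card_eq_zero.1 hc] at h; simp at h
  · obtain ⟨a, rfl⟩ := Finset.card_eq_one.1 hc
    rw [Finset.sum_singleton] at h
    have := h3 a (by simp)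
    rcases le_abs'.1 this with h1 | h1 <;> omega
  · obtain ⟨a, b, hab, rfl⟩ := Finset.card_eq_two.1 hc
    rw [Finset.sum_pair hab] at h
    obtain ⟨k, hk⟩ := ho a (by simp)
    obtain ⟨l, hl⟩ := ho b (by simp)
    omega
  · obtain ⟨a, b, c, hab, hac, hbc, rfl⟩ := Finset.card_eq_three.1 hc
    rw [Finset.sum_insert (by simp [hab, hac]), Finset.sum_pair hbc] at h ⊢
    have := num_three (h3 a (by simp)) (h3 b (by simp)) (h3 c (by simp)) (ho a (by simp))
      (ho b (by simp)) (ho c (by simp)) (by omega)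
    linarith

/-- The class sum of the principal block when the Sylow 2-subgroups have order four. -/
theorem card_le_of_four {t : G} (ht : Inv t) {Q : Subgroup G} (hQ : 𝐨(Q) = 4)
    (hi : ¬ 2 ∣ Q.relIndex ⊤) (hb : ∀ g : G, Even (orderOf g) → ∀ χ ∈ P1.B0 2 ⊤, χ g = χ t)
    (hl : ∀ χ ∈ Irr (⊤ : Subgroup G), dg χ = 1 → χ = cf1 ⊤) :
    𝐨((⊤ : Subgroup G)) ≤ 9 * {a : G | Even (orderOf (a * t * a⁻¹ * t))}.ncard := by
  classical
  have := Fintype.ofFinite G
  have hex : ∀ χ : G → ℂ, ∃ e : ℤ, χ ∈ Irr (⊤ : Subgroup G) → χ t = e ∧ Even (e + dg χ) := by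
    intro χ
    by_cases hχ : χ ∈ Irr (⊤ : Subgroup G)
    · obtain ⟨e, he⟩ := ht.exists_int (irr_isChar hχ)
      exact ⟨e, fun _ => he⟩
    · exact ⟨0, fun h => (hχ h).elim⟩
  choose ε hε using hex
  have hsub := P1.B0_subset 2 (⊤ : Subgroup G)
  have h1B := P1.cf1_mem_B0 2 (⊤ : Subgroup G)
  have hε1 : ε (cf1 ⊤) = 1 := by
    have := (hε _ (cf1_mem_Irr ⊤)).1
    rw [cf1_top_apply] at this
    exact_mod_cast this.symm
  obtain ⟨Θ, hΘ⟩ : ∃ Θ : G → ℂ, Θ = ∑ χ ∈ P1.B0 2 ⊤, (ε χ : ℂ) • χ := ⟨_, rfl⟩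
  obtain ⟨N, hN⟩ : ∃ N : ℤ, N = ∑ χ ∈ P1.B0 2 ⊤, ε χ ^ 2 := ⟨_, rfl⟩
  have hap : ∀ x, Θ x = ∑ χ ∈ P1.B0 2 ⊤, (ε χ : ℂ) * χ x := fun x => by
    rw [hΘ, Finset.sum_apply]; rfl
  have hodd : ∀ x : G, Odd (orderOf x) → Θ x = 0 := fun x hx => by
    rw [hap, ← P1.sum_B0_reg_sing Nat.prime_two ⊤ (Nat.coprime_two_right.2 hx)
      (g := t) (by rw [ht.orderOf_eq])]
    refine Finset.sum_congr rfl fun χ hχ => ?_
    rw [(hε χ (hsub hχ)).1, map_intCast, mul_comm]
  have heven : ∀ x : G, Even (orderOf x) → Θ x = N := fun x hx => by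
    rw [hap, hN]
    push_cast
    refine Finset.sum_congr rfl fun χ hχ => ?_
    rw [hb x hx χ hχ, (hε χ (hsub hχ)).1, sq]
  have hΘ' : Θ = (N : ℂ) • (cf1 ⊤ - P1.rho 2 ⊤) := by
    ext x
    rw [Pi.smul_apply, Pi.sub_apply, cf1_top_apply, smul_eq_mul]
    rcases Nat.even_or_odd (orderOf x) with hx | hx
    · rw [heven x hx, P1.rho_of_notMem fun h =>
        (Nat.not_odd_iff_even.2 hx) (Nat.coprime_two_right.1 h.2)]
      ring
    · rw [hodd x hx, P1.rho_of_mem ⟨mem_top x, Nat.coprime_two_right.2 hx⟩]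
      ring
  have hip : ip ⊤ Θ (cf1 ⊤) = 1 := by
    rw [hΘ, ((on_Irr ⊤).mono hsub).ip_sum_smul (fun χ => (ε χ : ℂ)) h1B, hε1, Int.cast_one]
  have hN4 : N ≤ 4 := by
    have hv := P1.smul_rho_mem_VChar Nat.prime_two (le_top (a := Q)) hi
    rw [hQ] at hv
    obtain ⟨k, hk⟩ := vchar_ip_int (Submodule.sub_mem _ (vchar_nat_smul (cf1_mem_VChar ⊤) 4) hv)
      (cf1_mem_VChar ⊤)
    rw [← smul_sub, ip_smul_left] at hk
    rw [hΘ', ip_smul_left] at hip
    have h4 : (N : ℂ) * k = 4 := by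
      rw [← hk]; push_cast; linear_combination 4 * hip
    have h5 : N * k = 4 := by exact_mod_cast h4
    exact Int.le_of_dvd (by norm_num) ⟨k, h5.symm⟩
  obtain ⟨B, hB⟩ : ∃ B, B = ((P1.B0 2 (⊤ : Subgroup G)).erase (cf1 ⊤)).filter fun χ => ε χ ≠ 0 :=
    ⟨_, rfl⟩
  have hsum : ∀ {M : Type} [AddCommMonoid M] (F : (G → ℂ) → M), (∀ χ, ε χ = 0 → F χ = 0) →
      ∑ χ ∈ P1.B0 2 ⊤, F χ = F (cf1 ⊤) + ∑ χ ∈ B, F χ := by
    intro M _ F hF
    rw [← Finset.add_sum_erase _ _ h1B, hB, Finset.sum_filter_of_ne]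
    exact fun χ _ h e => h (hF χ e)
  have hBm : ∀ χ ∈ B, χ ∈ Irr (⊤ : Subgroup G) ∧ χ ≠ cf1 ⊤ ∧ ε χ ≠ 0 := fun χ hχ => by
    rw [hB, Finset.mem_filter, Finset.mem_erase] at hχ
    exact ⟨hsub hχ.1.2, hχ.1.1, hχ.2⟩
  have hs3 : ∑ χ ∈ B, ε χ ^ 2 ≤ 3 := by
    rw [hN, hsum _ fun χ h => by rw [h]; ring, hε1] at hN4
    linarith
  have hone : ∀ χ ∈ B, 1 ≤ ε χ ^ 2 := fun χ hχ => by
    have := (hBm χ hχ).2.2
    have := sq_pos_of_ne_zero this
    omega
  have hcard : B.card ≤ 3 := by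
    have := Finset.card_nsmul_le_sum B _ _ hone
    rw [nsmul_eq_mul, mul_one] at this
    exact_mod_cast this.trans hs3
  have hpm : ∀ χ ∈ B, ε χ = 1 ∨ ε χ = -1 := fun χ hχ => by
    have h1 := (Finset.single_le_sum (f := fun χ => ε χ ^ 2) (fun _ _ => sq_nonneg _) hχ).trans hs3
    have h2 := (hBm χ hχ).2.2
    have h3 : -2 < ε χ := by nlinarith
    have h4 : ε χ < 2 := by nlinarith
    omega
  have hdg : ∀ χ ∈ B, Odd (dg χ : ℤ) ∧ 3 ≤ dg χ := fun χ hχ => by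
    obtain ⟨h1, h2, -⟩ := hBm χ hχ
    obtain ⟨k, hk⟩ := (hε χ h1).2
    have h3 := irr_dg_pos h1
    have h4 : dg χ ≠ 1 := fun e => h2 (hl χ h1 e)
    rcases hpm χ hχ with e | e
    · exact ⟨⟨k - 1, by omega⟩, by omega⟩
    · exact ⟨⟨k, by omega⟩, by omega⟩
  have hnum := num_fin hcard (e := fun χ => ε χ * dg χ)
    (fun χ hχ => by
      have := (hdg χ hχ).2
      rcases hpm χ hχ with e | e <;> simp [e] <;> exact_mod_cast this)
    (fun χ hχ => by
      have := (hdg χ hχ).1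
      rcases hpm χ hχ with e | e <;> simpa [e] using this)
    (by
      have h0 := hodd 1 (by simp)
      rw [hap, hsum _ fun χ h => by rw [h]; simp, hε1, cf1_one,
        Finset.sum_congr rfl fun χ hχ => by rw [irr_one_eq (hBm χ hχ).1]] at h0
      exact_mod_cast h0)
  obtain ⟨A, hA⟩ : ∃ A, A = {a : G | Even (orderOf (a * t * a⁻¹ * t))} := ⟨_, rfl⟩
  have hL : ∑ a ∈ fs ((⊤ : Subgroup G) : Set G), Θ (a * t * a⁻¹ * t) = A.ncard * N := by
    rw [← sum_fs_subset (A := A) (fun _ _ => mem_top _) fun a _ ha =>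
      hodd _ (Nat.not_even_iff_odd.1 (by rw [hA] at ha; exact ha)),
      sum_fs_congr (g := fun _ => (N : ℂ)) fun a ha => heven _ (by rw [hA] at ha; exact ha),
      Finset.sum_const, card_fs, nsmul_eq_mul]
  have hR : ∑ a ∈ fs ((⊤ : Subgroup G) : Set G), Θ (a * t * a⁻¹ * t) =
      𝐨((⊤ : Subgroup G)) * (1 + ∑ χ ∈ B, (((ε χ * dg χ : ℤ) : ℂ))⁻¹) := by
    simp only [hap]
    rw [Finset.sum_comm, hsum _ fun χ h => by simp [h], mul_add, Finset.mul_sum]
    congr 1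
    · simp only [hε1, cf1_top_apply, Int.cast_one, mul_one, sum_fs_const, nsmul_eq_mul]
    · refine Finset.sum_congr rfl fun χ hχ => ?_
      have h1 := (hBm χ hχ).1
      have h2 := P1.sum_conj_mul h1 (mem_top t) t
      have h3 := irr_one_ne_zero h1
      rw [(hε χ h1).1, irr_one_eq h1] at h2
      rw [irr_one_eq h1] at h3
      rw [← Finset.mul_sum]
      rcases hpm χ hχ with e | e
      · rw [e] at h2 ⊢; push_cast at h2 ⊢; field_simp; linear_combination h2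
      · rw [e] at h2 ⊢; push_cast at h2 ⊢; field_simp; linear_combination -h2
  have hE : (A.ncard * N : ℝ) = 𝐨((⊤ : Subgroup G)) * (1 + ∑ χ ∈ B, (((ε χ * dg χ : ℤ) : ℝ))⁻¹) := by
    have := hL.symm.trans hR
    apply Complex.ofReal_injective
    push_cast at this ⊢
    exact this
  have h4 : (N : ℝ) ≤ 4 := by exact_mod_cast hN4
  have h5 := card_pos_R (⊤ : Subgroup G)
  have h6 : (0 : ℝ) ≤ A.ncard := Nat.cast_nonneg _
  have h7 : (𝐨((⊤ : Subgroup G)) : ℝ) ≤ 9 * A.ncard := by nlinarith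
  rw [← hA]
  exact_mod_cast h7

theorem exists_decomp (h4 : ∀ x : G, orderOf x ≠ 4) {g : G} (hg : Even (orderOf g)) :
    ∃ t y : G, Inv t ∧ Odd (orderOf y) ∧ t * y = y * t ∧ g = t * y := by
  obtain ⟨k, hk⟩ := hg.two_dvd
  have h0 : k ≠ 0 := fun e => (orderOf_pos g).ne' (by rw [hk, e, mul_zero])
  have hko : Odd k := by
    refine Nat.not_even_iff_odd.1 fun he => ?_
    obtain ⟨l, rfl⟩ := he.two_dvd
    have hl : l ≠ 0 := fun e => h0 (by rw [e, mul_zero])
    refine h4 (g ^ l) ?_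
    rw [orderOf_pow_of_dvd hl ⟨4, by rw [hk]; ring⟩, hk, ← mul_assoc,
      Nat.mul_div_cancel _ (Nat.pos_of_ne_zero hl)]
    rfl
  refine ⟨g ^ k, g ^ (k + 1), inv_of_orderOf ?_, ?_, (Commute.refl g).pow_pow _ _, ?_⟩
  · rw [orderOf_pow_of_dvd h0 (hk ▸ dvd_mul_left k 2), hk,
      Nat.mul_div_cancel _ (Nat.pos_of_ne_zero h0)]
  · refine hko.of_dvd_nat (orderOf_dvd_of_pow_eq_one ?_)
    obtain ⟨l, hl⟩ := hko
    rw [← pow_mul, show (k + 1) * k = orderOf g * (l + 1) by rw [hk, hl]; ring, pow_mul,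
      pow_orderOf_eq_one, one_pow]
  · rw [← pow_add, show k + (k + 1) = orderOf g + 1 by omega, pow_succ, pow_orderOf_eq_one,
      one_mul]

/-- In rank at most two, an element of odd order centralizing an involution lies in `O(H)`. -/
theorem SA.mem_Od_of_rank {H : Subgroup G} (h : SA H) (h2 : pRank 2 H ≤ 2) {t y : G} (ht : Inv t)
    (htH : t ∈ H) (hy : y ∈ H) (ho : Odd (orderOf y)) (hc : t * y = y * t) : y ∈ Od H := by
  refine h.mem_Od hy ho fun a ha hi => ?_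
  rw [← pr_comm_iff hy ha]
  obtain ⟨z, hz⟩ : ∃ z, z = pr H ⟨y, hy⟩ := ⟨_, rfl⟩
  obtain ⟨b, hb⟩ : ∃ b, b = pr H ⟨a, ha⟩ := ⟨_, rfl⟩
  obtain ⟨s, hs⟩ : ∃ s, s = pr H ⟨t, htH⟩ := ⟨_, rfl⟩
  have hzo : Odd (orderOf z) := hz ▸ odd_orderOf_pr hy ho
  have hbi : Inv b := hb ▸ hi.pr ha
  have hsi : Inv s := hs ▸ ht.pr htH
  have hsz : s * z = z * s := by
    rw [hs, hz, ← map_mul, ← map_mul]; congr 1; exact Subtype.ext hc
  rw [← hz, ← hb]
  have hsA : zpowers s ≤ Ab H := zpowers_le_of_mem (h.mem_Ab.2 hsi.sq)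
  have hbA : b ∈ Ab H := h.mem_Ab.2 hbi.sq
  have hcA : z * b * z⁻¹ ∈ Ab H := h.mem_Ab.2 (hbi.conj z).sq
  have hzs : z * s * z⁻¹ = s := by rw [← hsz]; group
  by_cases hbs : b ∈ zpowers s
  · rcases hsi.mem_zpowers_iff.1 hbs with e | e
    · rw [e, mul_one, one_mul]
    · rw [e, hsz]
  have hcs : z * b * z⁻¹ ∉ zpowers s := fun hm => by
    rcases hsi.mem_zpowers_iff.1 hm with e | e
    · exact (hbi.conj z).ne e
    · refine hbs ?_
      rw [← hzs, mul_left_inj, mul_right_inj] at e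
      rw [e]; exact mem_zpowers s
  have hidx : ((zpowers s).subgroupOf (Ab H)).index = 2 := by
    have h3 := H1.card_mul_relIndex hsA
    rw [hsi.card_zpowers, h.card_Ab] at h3
    have h4 : (zpowers s).relIndex (Ab H) ≠ 1 := fun e => hbs (relIndex_eq_one.1 e hbA)
    change (zpowers s).relIndex (Ab H) = 2
    interval_cases hr : pRank 2 H <;> omega
  have hm := (mul_mem_iff_of_index_two hidx (a := ⟨b, hbA⟩) (b := ⟨_, hcA⟩)).2
    ⟨fun h => (hbs h).elim, fun h => (hcs h).elim⟩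
  rcases hsi.mem_zpowers_iff.1 (mem_subgroupOf.1 hm) with e | e
  · have e' : b * (z * b * z⁻¹) = 1 := e
    rw [← hbi.sq, mul_right_inj, mul_inv_eq_iff_eq_mul] at e'
    exact e'
  · have e' : z * b * z⁻¹ = b * s := by
      have e'' : b * (z * b * z⁻¹) = s := e
      rw [← e'', hbi.mul_cancel_left]
    have := eq_of_swap_of_odd (β := Cj (Qt H)) hzo (x := b) (y := b * s) e' (by
      change z * (b * s) * z⁻¹ = b
      rw [← conj_mul, e', hzs, hsi.mul_cancel_right])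
    exact (hsi.ne (left_eq_mul.1 this)).elim

theorem Min.not_comm (h : Min G Ω) : ⁅(⊤ : Subgroup G), (⊤ : Subgroup G)⁆ = ⊤ := by
  have := h.simple
  rcases IsSimpleGroup.eq_bot_or_eq_top_of_normal ⁅(⊤ : Subgroup G), (⊤ : Subgroup G)⁆
    inferInstance with e | e
  · obtain ⟨a, -, b, -, ha, hb, hne, -⟩ := h.rk2
    obtain ⟨g, hg⟩ := h.isConj ha hb
    have := (isMulComm_iff_comm_eq_bot.2 e).is_comm.comm ⟨g, mem_top g⟩ ⟨a, mem_top a⟩
    have h2 : g * a = a * g := congrArg Subtype.val this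
    exact (hne (by rw [← hg, h2]; group)).elim
  · exact e

theorem Min.eq_one_of_fix (h : Min G Ω) {x : G} (hx : ∀ β : Ω, x • β = β) : x = 1 := by
  have := h.simple
  rcases IsSimpleGroup.eq_bot_or_eq_top_of_normal (toPermHom G Ω).ker inferInstance with e | e
  · have h1 : x ∈ (toPermHom G Ω).ker := by
      rw [MonoidHom.mem_ker]; exact Equiv.ext hx
    rwa [e, mem_bot] at h1
  · obtain ⟨α⟩ := h.two.to_nonempty
    refine (h.stab_ne_top α (top_le_iff.1 fun g _ => ?_)).elim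
    have h1 : g ∈ (toPermHom G Ω).ker := e ▸ mem_top g
    rw [MonoidHom.mem_ker] at h1
    exact Equiv.congr_fun h1 α

theorem Min.ncard_univ (h : Min G Ω) (α : Ω) :
    (Set.univ : Set Ω).ncard = (stabilizer G α).relIndex ⊤ := by
  rw [← ncard_orbit]
  congr 1
  exact (Set.eq_univ_of_forall fun β => (h.trans α β).imp fun g hg => ⟨mem_top g, hg⟩).symm

theorem Min.finite (h : Min G Ω) : Finite Ω := by
  obtain ⟨α⟩ := h.two.to_nonempty
  exact Finite.of_surjective (fun g : G => g • α) (h.trans α)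

theorem Min.iComm_of_four (h : Min G Ω) {S : Subgroup G} (hS : IsSyl 2 S ⊤) (he : IsElem 2 2 S) :
    IComm G Ω := by
  intro a b α ha hb ea eb
  have := h.finite
  have h4 : ∀ x : G, orderOf x ≠ 4 := fun x hx => by
    have hp : IsPGroup 2 (zpowers x) := IsPGroup.of_card (n := 2) (by rw [Nat.card_zpowers, hx]; rfl)
    obtain ⟨g, -, hg⟩ := hS.exists_le_conj Nat.prime_two hp le_top
    have h1 := (he.conj g).1.2 x (hg (mem_zpowers x))
    have h2 := orderOf_dvd_of_pow_eq_one h1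
    rw [hx] at h2
    omega
  have hrk : pRank 2 (⊤ : Subgroup G) = 2 := by
    rw [← hS.pRank_eq Nat.prime_two, he.pRank_eq Nat.prime_two]
  have hc := card_le_of_four ha he.card hS.ndvd (fun g hg χ hχ => by
      obtain ⟨t, y, ht, hy, hc, rfl⟩ := exists_decomp h4 hg
      obtain ⟨γ, hγ⟩ := h.ex ht
      obtain ⟨x, hx⟩ := h.isConj ha ht
      have hsa : SA (⊤ ⊓ 𝐂[t]) :=
        ⟨H1.isSolvable_of_le (inf_le_right.trans (h.toSE.cent1_le ht hγ)) (h.sol γ),
          fun P _ => h.ab P⟩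
      have hyC : y ∈ ⊤ ⊓ 𝐂[t] := ⟨mem_top _, mem_centralizer_singleton_iff.2 hc.symm⟩
      have := P1.B0_apply_mul Nat.prime_two (K := ⊤) (u := t) (y := 1) (k := 1) (mem_top t)
        (by rw [pow_one, pow_two, ht.sq]) (P1.one_mem_regSet _ _) (Od_normal _)
        (Nat.coprime_two_right.2 (odd_Od _))
        (hsa.mem_Od_of_rank ((pRank_mono Nat.prime_two le_top).trans hrk.le) ht
          ⟨mem_top _, mem_centralizer_singleton_iff.2 rfl⟩ hyC hy hc) hχ
      rw [mul_one] at this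
      rw [this, ← hx, CF_conj (irr_mem_CF (P1.B0_subset _ _ hχ)) (mem_top x)])
    fun χ hχ h1 => (irr_eq_cf1_iff hχ).2
      (h.not_comm.ge.trans ((irr_isChar hχ).isLin_of_dg h1).der_le_cfKer)
  obtain ⟨H, hH⟩ : ∃ H, H = stabilizer G α := ⟨_, rfl⟩
  have hlt : {g : G | Even (orderOf (g * a * g⁻¹ * a))}.ncard < 𝐨(H) := by
    rw [← SetLike.coe_sort_coe, Nat.card_coe_set_eq]
    refine Set.ncard_lt_ncard ⟨fun g hg => ?_, fun hs => ?_⟩
    · by_contra hn
      rw [hH] at hn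
      exact Nat.not_even_iff_odd.2 (h.toSE.odd_mul (ha.conj g) ha (conj_fix ea) ea hn) hg
    · have := hs H.one_mem
      simp [ha.sq] at this
  have hidx : H.relIndex ⊤ < 9 := by
    rw [← H1.card_mul_relIndex (le_top (a := H))] at hc
    nlinarith
  obtain ⟨T, hT⟩ := exists_isSyl Nat.prime_two H
  have hT4 : 𝐨(T) = 4 := by
    rw [hH] at hT
    rw [(h.toSE.isSyl_top (h.mem_Fx_top α) hT).card_eq Nat.prime_two hS, he.card]
    rfl
  have hW : ∀ β, Od H ≤ stabilizer G β := fun β => by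
    by_cases hne : α = β
    · rw [← hne, ← hH]; exact (Od_normal H).1
    have hD : Odd 𝐨((stabilizer G β ⊓ H : Subgroup G)) := by
      rw [hH]; exact h.toSE.odd_St2 (Ne.symm hne)
    have h8 : (stabilizer G β).relIndex H < 8 := by
      rw [← ncard_orbit]
      have h1 : {c | ∃ y ∈ H, y • β = c}.ncard < (Set.univ : Set Ω).ncard := by
        refine Set.ncard_lt_ncard ⟨Set.subset_univ _, fun hs => ?_⟩
        obtain ⟨y, hy, e⟩ := hs (Set.mem_univ α)
        rw [hH] at hy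
        exact hne ((smul_left_cancel_iff y).1 ((hy : y • α = α).trans e.symm))
      rw [h.ncard_univ α, ← hH] at h1
      omega
    obtain ⟨X, hX⟩ : ∃ X, X = (stabilizer G β ⊓ H) ⊔ Od H := ⟨_, rfl⟩
    have hXH : X ≤ H := hX ▸ sup_le inf_le_right (Od_normal H).1
    have hXo : Odd 𝐨(X) := hX ▸ (hD.mul (odd_Od H)).of_dvd_nat
      (H1.card_sup_dvd (inf_le_right.trans (Od_normal H).2))
    have h1 : 4 ∣ X.relIndex H := by
      have h2 := FT.card_dvd_of_le hT.le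
      rw [hT4, ← H1.card_mul_relIndex hXH] at h2
      exact (Nat.Coprime.pow_left 2 (Nat.coprime_two_left.2 hXo)).dvd_of_dvd_mul_left h2
    have h2 := relIndex_mul_relIndex (stabilizer G β ⊓ H) X H (hX ▸ le_sup_left) hXH
    rw [inf_relIndex_right] at h2
    have h3 : (stabilizer G β ⊓ H).relIndex X = 1 := by
      obtain ⟨m, hm⟩ := h1
      have h5 : (stabilizer G β).relIndex H ≠ 0 := index_ne_zero_of_finite
      rw [hm] at h2
      rcases Nat.lt_trichotomy ((stabilizer G β ⊓ H).relIndex X) 1 with e | e | e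
      · rw [Nat.lt_one_iff.1 e] at h2; omega
      · exact e
      · have : m ≠ 0 := fun e => by rw [e] at h2; omega
        nlinarith [Nat.pos_of_ne_zero this]
    exact (le_sup_right.trans (hX.ge.trans (relIndex_eq_one.1 h3))).trans inf_le_left
  have := (h.toHyp.sa α).comm_mem ha hb ea eb
  rw [← hH] at this
  exact commutatorElement_eq_one_iff_mul_comm.1 (h.eq_one_of_fix fun β => hW β this)

/-- The involutions of a point stabilizer commute. -/
theorem Min.iComm (h : Min G Ω) : IComm G Ω := by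
  by_cases hR : ∃ S : Subgroup G, IsSyl 2 S ⊤ ∧ IsElem 2 2 S
  · obtain ⟨S, hS, he⟩ := hR
    exact h.iComm_of_four hS he
  · exact h.iComm_of_ne fun S hS he => hR ⟨S, hS, he⟩

end Cfsg.Agent.P6
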