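/-
The first case: an element `y` of prime order of `V` whose centralizer contains no four-group.
-/
import Cfsg.Agent.P6.End3
import Cfsg.Agent.P6.R2
import Cfsg.Agent.FT.BG03a
import Cfsg.Agent.FT.Final
import Cfsg.Agent.H1.AbAct
import Cfsg.Agent.H5.Count

set_option autoImplicit false
set_option linter.unusedSectionVars false

namespace Cfsg.Agent.P6

open Subgroup Cfsg Cfsg.Agent Cfsg.Agent.FT MulAction
open scoped commutatorElement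

universe u v

variable {G : Type u} [Group G] [Finite G]

theorem pow_index_mem_der (hG : ⁅(⊤ : Subgroup G), (⊤ : Subgroup G)⁆ = ⊤) {H : Subgroup G} {y : G}
    (hy : y ∈ H) (hf : ∀ (k : ℕ) (g : G), g * y ^ k * g⁻¹ ∈ H →
      ∃ h ∈ H, h * y ^ k * h⁻¹ = g * y ^ k * g⁻¹) : y ^ H.index ∈ ⁅H, H⁆ := by
  classical
  let := Fintype.ofFinite (Quotient (orbitRel (zpowers y) (G ⧸ H)))
  have h1 : MonoidHom.transfer (Abelianization.of (G := H)) y = 1 :=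
    Abelianization.commutator_subset_ker _ (hG.ge (mem_top y))
  rw [MonoidHom.transfer_eq_prod_quotient_orbitRel_zpowers_quot, Finset.prod_congr rfl
    (g := fun q => Abelianization.of (⟨y, hy⟩ : H) ^ Function.minimalPeriod (y • ·) q.out) ?_,
    Finset.prod_pow_eq_pow_sum, ← index_eq_sum_minimalPeriod, ← map_pow, ← MonoidHom.mem_ker,
    Abelianization.ker_of] at h1
  · rw [← map_subtype_der]
    exact ⟨_, h1, rfl⟩
  intro q _
  obtain ⟨h, hh, e⟩ := hf _ q.out.out⁻¹ (by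
    simpa using QuotientGroup.out_conj_pow_minimalPeriod_mem H y q.out)
  rw [inv_inv] at e
  rw [← map_pow, ← mul_inv_cancel_comm (Abelianization.of (⟨h, hh⟩ : H))
    (Abelianization.of (_ ^ _)), ← map_inv, ← map_mul, ← map_mul]
  exact congrArg _ (Subtype.ext e.symm)

open scoped IsMulCommutative in
theorem card_le_cent_pow {p : ℕ} (hp : p.Prime) {V : Subgroup G} (hV : IsMulCommutative V)
    (he : ∀ v ∈ V, v ^ p = 1) {g : G} (hg : g ∈ 𝐍(V)) (gp : g ^ p = 1) :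
    𝐨(V) ≤ 𝐨((V ⊓ 𝐂[g] : Subgroup G)) ^ p := by
  let φ : MulAut V := V.normalizerMonoidHom ⟨g, hg⟩
  have h1 : φ ^ p ^ 1 = 1 := by
    rw [pow_one, ← map_pow, show (⟨g, hg⟩ : 𝐍(V)) ^ p = 1 from Subtype.ext gp, map_one]
  have h2 := H1.card_ker_pow_le (H1.commEnd φ) p
  rw [show MonoidHom.ker (H1.commEnd φ ^ p : Monoid.End V) = ⊤ from eq_top_iff.2 fun v _ => by
      have := H1.commEnd_pow_eq_one hp h1 (Subtype.ext (he v v.2))
      rwa [pow_one] at this, card_top] at h2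
  rw [← H2.card_subgroupOf_of_le (inf_le_left : V ⊓ 𝐂[g] ≤ V)]
  convert h2
  ext v
  rw [H1.mem_ker_commEnd, mem_subgroupOf, mem_inf, and_iff_right v.2, mem_cent1_comm,
    mem_cent1_iff_conj, Subtype.ext_iff]
  rfl

theorem syl_normal_of_lt {p : ℕ} (hp : p.Prime) {P M : Subgroup G} (h : IsSyl p P M)
    (hi : P.relIndex M < p) : M ≤ 𝐍(P) := by
  have := Fact.mk hp
  obtain ⟨S, hS⟩ := h.exists_sylow hp
  have h1 := card_sylow_modEq_one p M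
  have h2 := Nat.le_of_dvd (Nat.pos_of_ne_zero index_ne_zero_of_finite) S.card_dvd_index
  rw [hS] at h2
  have h3 := h1.eq_of_lt_of_lt (h2.trans_lt hi) hp.one_lt
  rw [S.card_eq_index_normalizer, index_eq_one] at h3
  exact (normal_subgroupOf_iff_le_normalizer h.le).1 (hS ▸ normalizer_eq_top_iff.1 h3)

theorem exists_pow_add_one {p c m : ℕ} (hp : p.Prime) (h2 : p ≠ 2) (hm : 0 < m)
    (hc : c + 1 = p ^ m) : ∃ t, ¬ p ∣ t ∧ c ^ p + 1 = p ^ (m + 1) * t := by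
  have := Fact.mk hp
  have h1 : p ∣ c + 1 := hc ▸ dvd_pow_self p hm.ne'
  have := padicValNat.pow_add_pow (hp.odd_of_ne_two h2) h1
    (fun e => hp.not_dvd_one ((Nat.dvd_add_right e).1 h1)) (hp.odd_of_ne_two h2)
  rw [one_pow, hc, padicValNat.prime_pow, padicValNat_self] at this
  obtain ⟨t, e⟩ := (padicValNat_dvd_iff_le (Nat.add_one_ne_zero (c ^ p))).2 this.ge
  refine ⟨t, fun ht => ?_, e⟩
  have h3 := mul_dvd_mul_left (p ^ (m + 1)) ht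
  rw [← e, ← pow_succ, padicValNat_dvd_iff_le (Nat.add_one_ne_zero _), this] at h3
  omega

variable {Ω : Type v} [MulAction G Ω]

/-- The first case. -/
structure FC (α β : Ω) (Q : Subgroup G) (y a : G) (p : ℕ) : Prop extends Bn α β Q where
  hp : p.Prime
  ord : orderOf y = p
  yD : y ∈ St2 G α β
  aA : a ∈ Av G α
  a1 : a ≠ 1
  ay : a ∈ 𝐂[y]
  nr : ¬ Rk2 𝐂[y]

namespace FC

variable {α β : Ω} {Q : Subgroup G} {y a : G} {p : ℕ} (h : FC α β Q y a p)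
include h

theorem bn : Bn α β Q := h.toBn

theorem mc : Mc G Ω := h.bn.mc

theorem cX : 𝐨(zpowers y) = p := by rw [Nat.card_zpowers, h.ord]

theorem prX : 𝐨(zpowers y).Prime := h.cX ▸ h.hp

theorem pX : IsPGroup p (zpowers y) := isPGroup_of_card_prime h.cX

theorem XD : zpowers y ≤ St2 G α β := zpowers_le.2 h.yD

theorem p2 : p ≠ 2 := h.cX ▸ h.bn.ne_two h.XD

theorem y1 : y ≠ 1 := fun e => h.hp.one_lt.ne (by rw [← h.ord, e, orderOf_one])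

theorem ai : Inv a := h.mc.inv h.aA h.a1

theorem card_AC {C : Subgroup G} (h1 : a ∈ C) (h2 : C ≤ 𝐂[y]) :
    𝐨((Av G α ⊓ C : Subgroup G)) = 2 := by
  refine le_antisymm (not_lt.1 fun hl => h.nr ((rk2_of_two_lt (A := Av G α ⊓ C)
    (fun _ hb => h.mc.sq hb.1) hl).mono (inf_le_right.trans h2))) ((one_lt_card_iff_ne_bot _).2 fun e => h.a1 ?_)
  exact mem_bot.1 (e ▸ (⟨h.aA, h1⟩ : a ∈ Av G α ⊓ C))

theorem AC_eq : Av G α ⊓ 𝐂[y] = zpowers a :=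
  (H1.eq_of_le_of_card_le (zpowers_le.2 (mem_inf.2 ⟨h.aA, h.ay⟩))
    (by rw [h.card_AC h.ay le_rfl, h.ai.card_zpowers])).symm

theorem eq_a {b : G} (hb : b ∈ Av G α) (hy : b ∈ 𝐂[y]) : b = 1 ∨ b = a :=
  h.ai.mem_zpowers_iff.1 (h.AC_eq ▸ (⟨hb, hy⟩ : b ∈ Av G α ⊓ 𝐂[y]))

theorem yC : y ∉ 𝐂(Av G α) := fun e => h.nr ((h.mc.rk2_A α).mono (mem_cent_iff_cent1.1 e))

theorem CX : 𝐂(Av G α) ⊓ zpowers y = ⊥ := by
  rw [inf_comm]
  exact (inf_eq_bot_or_le_of_card_prime h.prX _).resolve_right fun e => h.yC (zpowers_le.1 e)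

theorem cardA : 𝐨(Av G α) = 2 ^ p := by
  have := H1.card_inf_mul_relIndex 𝐂(Av G α) (zpowers y)
  rw [h.CX, card_bot, one_mul, h.cX] at this
  rw [(h.mc.gl1 h.ne).card_eq_pow h.XD h.aA h.a1 (zpowers_le.2 (mem_cent1_comm.1 h.ay)), this,
    cent_zpowers, h.card_AC h.ay le_rfl]

theorem V_eq : St2 G α β ⊓ 𝐂[a] = (St2 G α β ⊓ 𝐂(Av G α)) ⊔ zpowers y ∧
    𝐨((St2 G α β ⊓ 𝐂[a] : Subgroup G)) = 𝐨((St2 G α β ⊓ 𝐂(Av G α) : Subgroup G)) * p := by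
  have yV : y ∈ St2 G α β ⊓ 𝐂[a] := ⟨h.yD, mem_cent1_comm.1 h.ay⟩
  have e1 := (h.mc.gl1 h.ne).card_eq_pow inf_le_left h.aA h.a1 inf_le_right
  rw [h.card_AC (mem_cent_iff_cent1.2 inf_le_right) (cent_le_cent1 yV), h.cardA] at e1
  have e2 := H1.card_inf_mul_relIndex 𝐂(Av G α) (St2 G α β ⊓ 𝐂[a])
  rw [← Nat.pow_right_injective le_rfl e1, inf_comm, inf_assoc,
    inf_eq_right.2 (cent_le_cent1 h.aA)] at e2
  refine ⟨(H1.eq_of_le_of_card_le (sup_le (inf_le_inf_left _ (cent_le_cent1 h.aA))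
    (zpowers_le.2 yV)) ?_).symm, e2.symm⟩
  have sd : SdProd (St2 G α β ⊓ 𝐂(Av G α)) (zpowers y) _ := ⟨rfl, h.XD.trans
    (H1.le_normalizer_inf (le_norm_self _) (inf_le_left.trans (h.mc.norm_C α))), by
    rw [inf_assoc, h.CX, inf_bot_eq]⟩
  rw [sd.card, h.cX, e2]

theorem cardD : 𝐨(St2 G α β) = 𝐨((St2 G α β ⊓ 𝐂(Av G α) : Subgroup G)) * p * (2 ^ p - 1) := by
  rw [← h.V_eq.2, ← h.cardA, ← h.mc.relIndex_D h.ne h.aA h.a1, inf_comm _ 𝐂[a],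
    H1.card_inf_mul_relIndex]

theorem DN_le : St2 G α β ⊓ 𝐂[y] ≤ 𝐂[a] := fun d hd => mem_cent1_iff_conj.2
  ((h.eq_a (H1.conj_mem_of_le_normalizer (h.mc.norm_A α) hd.1.1 h.aA)
    (mul_mem (mul_mem hd.2 h.ay) (inv_mem hd.2))).resolve_left (by simpa using h.a1))

theorem DN_eq : St2 G α β ⊓ 𝐂[y] = (St2 G α β ⊓ 𝐂(Av G α) ⊓ 𝐂[y]) ⊔ zpowers y := by
  rw [← sup_inf_of_le_right (h.XD.trans (H1.le_normalizer_inf (le_norm_self _)
    (inf_le_left.trans (h.mc.norm_C α)))) (zpowers_le.2 (self_mem_cent1 y)), ← h.V_eq.1]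
  exact le_antisymm (le_inf (le_inf inf_le_left h.DN_le) inf_le_right)
    (inf_le_inf_right _ inf_le_left)

theorem mem_Fx {γ : Ω} (e : y • γ = γ) : γ ∈ Fx Ω 𝐂[y] := by
  rw [← cent_zpowers]
  exact h.mc.L1' h.hp h.p2 h.pX h.aA h.a1 (cent_zpowers y ▸ h.ay) (zpowers_le.2 e)

theorem fuse {g : G} (hg : g * y * g⁻¹ ∈ stabilizer G α) :
    ∃ x ∈ stabilizer G α, x * y * x⁻¹ = g * y * g⁻¹ := by
  obtain ⟨n, hn, e⟩ := h.bn.se.exists_smul_Fx (h.mem_Fx h.yD.1) (h.mem_Fx (γ := g⁻¹ • α) (by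
    rw [eq_inv_smul_iff, ← mul_smul, ← mul_smul]; exact hg))
  refine ⟨g * n, mem_stabilizer_iff.2 (by rw [mul_smul, e, smul_inv_smul]), ?_⟩
  conv_rhs => rw [← mem_cent1_iff_conj.1 hn]
  group

theorem not_der : y ∉ ⁅stabilizer G α, stabilizer G α⁆ := fun e => by
  obtain ⟨E, hE, hD, hf, -⟩ := h.bn.exists_F
  obtain ⟨z, hz, w, hw, e⟩ := (mem_sup_of_norm (hE.trans h.bn.sd.norm)).1
    ((h.bn.sd.der_le_sup.trans (sup_le_sup_left hD Q)) e)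
  refine h.yC (e ▸ mul_mem (h.le hz) (hf w hw a h.aA h.a1 (mem_cent1.1 ?_).symm))
  rw [eq_inv_mul_of_mul_eq e]
  exact mul_mem (inv_mem (cent_le_cent1 h.aA (h.le hz))) (mem_cent1_comm.1 h.ay)

theorem conj_eq {g : G} (hg : g * y * g⁻¹ ∈ zpowers y) : g * y * g⁻¹ = y := by
  obtain ⟨x, hx, e⟩ := h.fuse (h.XD hg).1
  have := (inf_eq_bot_or_le_of_card_prime h.prX ⁅stabilizer G α, stabilizer G α⁆).resolve_right
    fun e => h.not_der (zpowers_le.1 e)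
  rw [← mul_inv_eq_one, ← mem_bot, ← this]
  exact mem_inf.2 ⟨mul_mem hg (inv_mem (mem_zpowers y)), e ▸ commutator_mem_commutator hx h.yD.1⟩

theorem mem_of_pow {S : Subgroup G} {g : G} {i : ℕ} (hi : ¬ p ∣ i) (hg : g * y ^ i * g⁻¹ ∈ S) :
    g * y * g⁻¹ ∈ S := by
  rw [← conj_pow] at hg
  refine zpowers_le.2 hg (mem_zpowers_pow_iff.2 ?_)
  rw [← Nat.card_zpowers, zpowers_conj, card_conj, h.cX]
  exact (h.hp.coprime_iff_not_dvd.2 hi).symm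

theorem dvd_index {P : Subgroup G} (hy : y ∈ P)
    (hf : ∀ g, g * y * g⁻¹ ∈ P → ∃ x ∈ P, x * y * x⁻¹ = g * y * g⁻¹) (hn : y ∉ ⁅P, P⁆) :
    p ∣ P.index := by
  by_contra hi
  suffices y ^ P.index ∈ ⁅P, P⁆ from
    hn (by simpa using h.mem_of_pow (S := ⁅P, P⁆) (g := 1) hi (by simpa using this))
  refine pow_index_mem_der h.bn.mn.not_comm hy fun k g hg => ?_
  by_cases hk : p ∣ k
  · exact ⟨1, one_mem _, by simp [orderOf_dvd_iff_pow_eq_one.1 (h.ord ▸ hk)]⟩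
  · obtain ⟨x, hx, e⟩ := hf g (h.mem_of_pow hk hg)
    exact ⟨x, hx, by rw [← conj_pow, ← conj_pow, e]⟩

theorem dvd_Q : p ∣ 𝐨(Q) + 1 := h.bn.index_eq ▸ h.dvd_index h.yD.1 (fun _ => h.fuse) h.not_der

theorem not_dvd_Q : ¬ p ∣ 𝐨(Q) := fun e => h.hp.not_dvd_one ((Nat.dvd_add_right e).1 h.dvd_Q)

theorem dvd_c : p ∣ 𝐨((Q ⊓ 𝐂[y] : Subgroup G)) + 1 := by
  have := ncard_modEq_cent h.hp h.pX (S := Q) fun x hx s hs =>
    H1.conj_mem_of_le_normalizer h.norm (h.XD hx).1 hs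
  rw [cent_zpowers] at this
  exact (Nat.modEq_zero_iff_dvd).1 ((this.symm.add_right 1).trans h.dvd_Q.modEq_zero_nat)

theorem cardQ : 𝐨(Q) = 𝐨((Q ⊓ 𝐂[y] : Subgroup G)) ^ p ∧ 2 ^ p - 1 ∣ 𝐨(Q) - 1 := by
  obtain ⟨u, uy, hu, eu⟩ := h.bn.se.exists_swap_Fx (h.mem_Fx h.yD.1) (h.mem_Fx h.yD.2) h.ne
  obtain ⟨K, hK, cK, hf⟩ := h.bn.exists_K hu eu
  have fr : Frob K (zpowers y) := by
    refine ⟨hf.ne_botR, ne_bot_of_card_prime h.prX, zpowers_le.2 (mem_norm_of_conj_le ?_),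
      semiReg_of_card_prime h.prX (eq_bot_iff.2 fun k hk => ?_)⟩
    · rintro _ ⟨k, hk, rfl⟩
      obtain ⟨h1, h2⟩ := (hK k).1 hk
      refine (hK _).2 ⟨mul_mem (mul_mem h.yD h1) (inv_mem h.yD), ?_⟩
      have c1 := mem_cent1.1 uy
      have c2 := mem_cent1.1 (cent1_inv y ▸ uy)
      calc u * (y * k * y⁻¹) * u = u * y * k * (y⁻¹ * u) := by group
        _ = y * (u * k * u) * y⁻¹ := by rw [← c1, c2]; group
        _ = _ := by rw [h2]; simp [mul_assoc]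
    · obtain ⟨h1, h2⟩ := (hK k).1 hk.1
      exact h.bn.se.K_eq_one hu eu h.ne h.ai (h.mc.fix h.aA) h1 h2
        (mem_cent1.1 (h.DN_le ⟨h1, cent_zpowers y ▸ hk.2⟩)).symm
  refine ⟨?_, by rw [← h.cardA, ← cK]; exact hf.card_dvd⟩
  have := fr.wielandt_fix hf.norm (h.XD.trans h.bn.sd.norm) (by
    rw [fr.sdProd.card, h.cX]
    exact hf.coprime.mul_right ((h.hp.coprime_iff_not_dvd.2 h.not_dvd_Q).symm))
    (isSolvable_of_isNilpotent h.bn.nil)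
  rwa [cent_sup, ← inf_assoc, hf.cent_eq_bot, bot_inf_eq, card_bot, one_pow, one_mul, mul_one,
    h.cX, cent_zpowers] at this

theorem aQ : a ∈ Q ⊓ 𝐂[y] := ⟨h.Ale h.aA, h.ay⟩

theorem two_lt_c : 2 < 𝐨((Q ⊓ 𝐂[y] : Subgroup G)) := by
  refine lt_of_le_of_ne ((one_lt_card_iff_ne_bot _).2 fun e => h.a1 (mem_bot.1 (e ▸ h.aQ)))
    fun e => h.y1 (mem_bot.1 ?_)
  rw [← h.bn.V_eq_bot (H1.eq_of_le_of_card_le h.Ale (by rw [h.cardQ.1, ← e, h.cardA])).ge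
    h.aA h.a1]
  exact ⟨h.yD, mem_cent1_comm.1 h.ay⟩

theorem ncard_F : {γ : Ω | y • γ = γ}.ncard = 𝐨((Q ⊓ 𝐂[y] : Subgroup G)) + 1 := by
  have hn : α ∉ {c | ∃ z ∈ Q ⊓ 𝐂[y], z • β = c} := fun ⟨z, hz, e⟩ => h.bn.smul_ne (h.bn.QH hz.1) e
  rw [← h.bn.ncard_orb inf_le_left, ← Set.ncard_insert_of_notMem hn (finite_orbit _ β)]
  congr 1
  ext γ
  refine ⟨fun e => ?_, ?_⟩
  · by_cases n1 : γ = α
    · exact Or.inl n1
    · exact Or.inr (h.bn.exists_cent h.yD n1 e)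
  · rintro (rfl | ⟨z, hz, rfl⟩)
    · exact h.yD.1
    · exact h.bn.fix_of_cent h.XD (cent_zpowers y ▸ hz.2) (mem_zpowers y)

theorem smul_F {g : G} (hg : g ∈ 𝐂[y]) {γ : Ω} (e : y • γ = γ) : y • g • γ = g • γ := by
  rw [← mul_smul, mem_cent1.1 hg, mul_smul, e]

theorem fix3 {x : G} (hx : x ∈ St2 G α β ⊓ 𝐂(Av G α)) (x1 : x ≠ 1) {γ : Ω} :
    y • γ = γ ∧ x • γ = γ ↔ γ ∈ ({α, β, a • β} : Set Ω) := by
  refine ⟨fun ⟨e1, e2⟩ => ?_, ?_⟩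
  · by_cases n1 : γ = α
    · exact Or.inl n1
    obtain ⟨b, hb, rfl⟩ := h.mc.W_fix h.ne hx x1 e2 n1
    obtain ⟨z, hz, e⟩ := h.bn.exists_cent h.yD n1 e1
    rcases h.eq_a hb (h.bn.eq_of_smul hz.1 (h.Ale hb) e ▸ hz.2) with rfl | rfl
    · exact Or.inr (Or.inl (one_smul _ _))
    · exact Or.inr (Or.inr rfl)
  · rintro (rfl | rfl | rfl)
    · exact ⟨h.yD.1, hx.1.1⟩
    · exact ⟨h.yD.2, hx.1.2⟩
    · exact ⟨h.smul_F h.ay h.yD.2, by rw [← mul_smul, ← mem_cent.1 hx.2 a h.aA, mul_smul, hx.1.2]⟩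

theorem mem_X {r : G} (hr : r ∈ 𝐂[y]) (hf : ∀ γ : Ω, y • γ = γ → r • γ = γ) : r ∈ zpowers y := by
  have h1 : r ∈ St2 G α β ⊓ 𝐂[y] := ⟨⟨hf α h.yD.1, hf β h.yD.2⟩, hr⟩
  rw [h.DN_eq] at h1
  obtain ⟨x, hx, w, hw, rfl⟩ := (mem_sup_of_norm ((cent_comm.1
    (inf_le_right.trans (cent_zpowers y).ge)).trans (cent_le_norm _))).1 h1
  by_cases x1 : x = 1
  · rwa [x1, one_mul]
  have := Set.ncard_le_ncard (s := {γ : Ω | y • γ = γ}) (fun γ e => (h.fix3 hx.1 x1).1 ⟨e, by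
    have := hf γ e
    rwa [mul_smul, (zpowers_le (H := stabilizer G γ)).2 e hw] at this⟩) (Set.toFinite _)
  have h2 := Set.ncard_insert_le α {β, a • β}
  have h3 := Set.ncard_insert_le β {a • β}
  rw [Set.ncard_singleton] at h3
  rw [h.ncard_F] at this
  have := h.two_lt_c
  omega

theorem sol_N : Group.IsSolvable 𝐂[y] := by
  obtain ⟨S, hS⟩ := exists_isSyl Nat.prime_two 𝐂[y]
  have sd := (hasNPC_of_not_rk2 h.ab h.nr).sdProd Nat.prime_two hS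
  rw [← sd.sup, sup_comm]
  exact H2.isSolvable_sup_of_le_normalizer sd.norm
    (isSolvable_of_isNilpotent (isNilpotent_of_isPGroup Nat.prime_two hS.pgrp))
    (feit_thompson _ (odd_Od _))

end FC

/-- The regular normal subgroup of `C(y) / ⟨y⟩`. -/
structure FR (α β : Ω) (Q : Subgroup G) (y a : G) (p : ℕ) (R : Subgroup G) (m : ℕ) : Prop
    extends FC α β Q y a p where
  yR : y ∈ R
  nR : R ⊲ 𝐂[y]
  der : ⁅R, R⁆ ≤ zpowers y
  pw : ∀ s ∈ R, s ^ p ∈ zpowers y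
  RH : R ⊓ stabilizer G α = zpowers y
  trR : ∀ γ : Ω, y • γ = γ → ∃ s ∈ R, s • α = γ
  m0 : 0 < m
  cm : 𝐨((Q ⊓ 𝐂[y] : Subgroup G)) + 1 = p ^ m
  cR : 𝐨(R) = p ^ (m + 1)

theorem FC.exists_fr {α β : Ω} {Q : Subgroup G} {y a : G} {p : ℕ} (h : FC α β Q y a p) :
    ∃ R m, FR α β Q y a p R m := by
  have XN : zpowers y ≤ 𝐂[y] := zpowers_le.2 (self_mem_cent1 y)
  obtain ⟨R, -, hR⟩ := exists_chief_above (V := zpowers y) (H := 𝐂[y])
    ((cent_zpowers y).ge.trans (cent_le_norm _)) ⟨le_rfl, le_norm_self _⟩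
    (lt_of_le_of_ne XN fun e => h.ai.not_mem_of_odd (odd_of_le h.XD (h.bn.se.odd_St2 h.ne))
      (e ▸ h.ay))
  obtain ⟨s, hs, der, pw, m, m0, cm⟩ := chief_elem h.sol_N hR
  have tr : ∀ γ : Ω, y • γ = γ → ∃ s ∈ R, s • α = γ := by
    have : ∃ r ∈ R, r • α ≠ α := by
      by_contra! hn
      refine hR.lt.not_ge fun r hr => h.mem_X (hR.le hr) fun γ e => ?_
      obtain ⟨n, hn', rfl⟩ := h.bn.se.exists_smul_Fx (h.mem_Fx h.yD.1) (h.mem_Fx e)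
      exact le_stab_smul (hR.normU hn') hn hr
    obtain ⟨r, hr, n1⟩ := this
    obtain ⟨z, hz, e1⟩ := h.bn.exists_cent h.yD n1 (h.smul_F (hR.le hr) h.yD.1)
    intro γ e
    by_cases n2 : γ = α
    · exact ⟨1, one_mem _, by rw [n2, one_smul]⟩
    obtain ⟨w, hw, rfl⟩ := h.bn.exists_cent h.yD n2 e
    have hv := mul_mem hw (inv_mem hz)
    refine ⟨_, H1.conj_mem_of_le_normalizer hR.normU hv.2 hr, ?_⟩
    rw [mul_smul, mul_smul, inv_mem (h.bn.QH hv.1), ← e1, mul_smul, inv_smul_smul]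
  have RH : R ⊓ stabilizer G α = zpowers y := by
    refine le_antisymm (fun r hr => h.mem_X (hR.le hr.1) fun γ e => ?_)
      (le_inf hR.lt.le (h.XD.trans inf_le_left))
    obtain ⟨t, ht, rfl⟩ := tr γ e
    have := (h.XD (der (commutator_mem_commutator (inv_mem ht) hr.1))).1
    rw [← mul_smul, show r * t = t * (⁅t⁻¹, r⁆ * r) by group, mul_smul, mul_smul, hr.2, this]
  have cF : 𝐨((Q ⊓ 𝐂[y] : Subgroup G)) + 1 = s ^ m := by
    rw [← cm, ← RH, inf_relIndex_left, ← ncard_orbit, ← h.ncard_F]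
    congr 1
    ext γ
    refine ⟨tr γ, ?_⟩
    rintro ⟨r, hr, rfl⟩
    exact h.smul_F (hR.le hr) h.yD.1
  obtain rfl : p = s := (Nat.prime_dvd_prime_iff_eq h.hp hs).1
    (h.hp.dvd_of_dvd_pow (cF ▸ h.dvd_c))
  exact ⟨R, m, h, zpowers_le.1 hR.lt.le, ⟨hR.le, hR.normU⟩, der, pw, RH, tr, m0, cF, by
    rw [← H1.card_mul_relIndex hR.lt.le, cm, h.cX, pow_succ']⟩

end Cfsg.Agent.P6
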