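/-
The induction: reduction to simple groups.
-/
import Cfsg.Agent.P6.R2
import Cfsg.Agent.L.BSW2
import Cfsg.Agent.L.MinNormal

set_option autoImplicit false
set_option linter.unusedSectionVars false

namespace Cfsg.Agent.P6

open Subgroup Cfsg Cfsg.Agent Cfsg.Agent.FT MulAction
open scoped commutatorElement

universe u v

variable {G : Type u} [Group G] [Finite G] {Ω : Type v} [MulAction G Ω]

theorem Inv.map {G' : Type*} [Group G'] {f : G →* G'} (hf : Odd 𝐨(f.ker)) {a : G} (ha : Inv a) :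
    Inv (f a) :=
  ⟨fun e => ha.not_mem_of_odd hf e, by rw [← map_mul, ha.sq, map_one]⟩

theorem Inv.lift {G' : Type*} [Group G'] [Finite G'] {f : G →* G'} (hf : Function.Surjective f)
    {z : G'} (hz : Inv z) (ho : Odd 𝐨(f.ker)) : ∃ a : G, Inv a ∧ f a = z := by
  obtain ⟨a, ha, hi⟩ := exists_inv_of_even (X := (zpowers z).comap f) fun h => by
    have h1 := Subgroup.card_map_dvd ((zpowers z).comap f) f
    rw [map_comap_eq_self_of_surjective hf, hz.card_zpowers] at h1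
    exact absurd (h.of_dvd_nat h1) (by decide)
  exact ⟨a, hi, (hz.mem_zpowers_iff.1 ha).resolve_left (hi.map ho).ne⟩

theorem inv_coe {N : Subgroup G} {a : N} : Inv (a : G) ↔ Inv a :=
  ⟨fun h => ⟨fun e => h.ne (congrArg Subtype.val e), Subtype.ext h.sq⟩,
   fun h => ⟨fun e => h.ne (Subtype.ext e), congrArg Subtype.val h.sq⟩⟩

/-- The action of `N` on `Fx Ω N` factors through `f`, whose kernel has odd order. -/
structure Cov {G' : Type u} [Group G'] {Ω' : Type v} [MulAction G' Ω'] (N : Subgroup G)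
    (f : N →* G') (ι : Ω' → Ω) : Prop where
  surj : Function.Surjective f
  odd : Odd 𝐨(f.ker)
  inj : Function.Injective ι
  range : ∀ α, α ∈ Fx Ω N ↔ ∃ x, ι x = α
  smul : ∀ (g : N) (x : Ω'), ι (f g • x) = (g : G) • ι x

namespace Cov

variable {G' : Type u} [Group G'] [Finite G'] {Ω' : Type v} [MulAction G' Ω'] {N : Subgroup G}
  {f : N →* G'} {ι : Ω' → Ω} (c : Cov N f ι)
include c

theorem smul_iff {g : N} {x y : Ω'} : f g • x = y ↔ (g : G) • ι x = ι y := by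
  rw [← c.smul, c.inj.eq_iff]

theorem lift {z : G'} (hz : Inv z) : ∃ a : N, Inv (a : G) ∧ f a = z := by
  obtain ⟨a, ha, e⟩ := hz.lift c.surj c.odd
  exact ⟨a, inv_coe.2 ha, e⟩

theorem map {a : G} (ha : Inv a) (haN : a ∈ N) : Inv (f ⟨a, haN⟩) :=
  (inv_coe.1 (show Inv ((⟨a, haN⟩ : N) : G) from ha)).map c.odd

theorem all (x : Ω') : ∃ z : G', Inv z ∧ z • x = x := by
  obtain ⟨a, haN, ha, e⟩ := (c.range _).2 ⟨x, rfl⟩
  exact ⟨_, c.map ha haN, c.smul_iff.2 e⟩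

theorem mem_Fx (x : Ω') : x ∈ Fx Ω' (⊤ : Subgroup G') :=
  (c.all x).imp fun _ h => ⟨mem_top _, h⟩

theorem se (h : SE G Ω) : SE G' Ω' where
  uniq hz x y ex ey := by
    obtain ⟨a, ha, rfl⟩ := c.lift hz
    exact c.inj (h.uniq ha (c.smul_iff.1 ex) (c.smul_iff.1 ey))
  ex hz := by
    obtain ⟨a, ha, rfl⟩ := c.lift hz
    obtain ⟨α, e⟩ := h.ex ha
    obtain ⟨x, rfl⟩ := (c.range α).1 ⟨a, a.2, ha, e⟩
    exact ⟨x, c.smul_iff.2 e⟩

theorem hyp (h : Hyp G Ω) : Hyp G' Ω' where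
  toSE := c.se h.toSE
  ab P hP := by
    have := Fact.mk Nat.prime_two
    obtain ⟨S, -, hS, rfl⟩ := H1.exists_isPGroup_map_eq f (Q := ⊤)
      (le_top.trans (map_top_of_surjective f c.surj).ge) hP
    have := (isMulComm_map_iff N.subtype_injective).1 (h.ab _ (hS.map N.subtype))
    infer_instance
  sol x := by
    have h1 : stabilizer G' x ≤ ((stabilizer G (ι x)).subgroupOf N).map f := fun z hz => by
      obtain ⟨g, rfl⟩ := c.surj z
      exact mem_map_of_mem f (c.smul_iff.1 hz)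
    exact H1.isSolvable_of_le h1 (H1.isSolvable_map f (H1.isSolvable_subgroupOf (h.sol _) N))

theorem rk2 (h : Rk2 N) : Rk2 (⊤ : Subgroup G') := by
  obtain ⟨a, haN, b, hbN, ha, hb, hne, hc⟩ := h
  refine ⟨_, mem_top _, _, mem_top _, c.map ha haN, c.map hb hbN, fun e => ?_, ?_⟩
  · refine (c.map (ha.mul hb hne hc) (N.mul_mem haN hbN)).ne ?_
    rw [← (c.map hb hbN).sq]
    nth_rw 1 [← e]
    exact map_mul f ⟨a, haN⟩ ⟨b, hbN⟩
  · rw [← map_mul, ← map_mul]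
    exact congrArg f (Subtype.ext hc)

theorem nontrivial (h : (Fx Ω N).Nontrivial) : Nontrivial Ω' := by
  obtain ⟨α, hα, β, hβ, hne⟩ := h
  obtain ⟨x, rfl⟩ := (c.range α).1 hα
  obtain ⟨y, rfl⟩ := (c.range β).1 hβ
  exact ⟨x, y, fun e => hne (congrArg ι e)⟩

theorem bt (h : BT Ω' (⊤ : Subgroup G')) : BT Ω N where
  reg hα hβ hγ h1 h2 h3 := by
    obtain ⟨x, rfl⟩ := (c.range _).1 hα
    obtain ⟨y, rfl⟩ := (c.range _).1 hβ
    obtain ⟨z, rfl⟩ := (c.range _).1 hγ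
    obtain ⟨a', -, ha', e1, e2⟩ := h.reg (c.mem_Fx x) (c.mem_Fx y) (c.mem_Fx z)
      (fun e => h1 (congrArg ι e)) (fun e => h2 (congrArg ι e)) (fun e => h3 (congrArg ι e))
    obtain ⟨a, ha, rfl⟩ := c.lift ha'
    exact ⟨a, a.2, ha, c.smul_iff.1 e1, c.smul_iff.1 e2⟩
  comm a haN b hbN ha hb α ea eb δ hδ := by
    obtain ⟨x, rfl⟩ := (c.range α).1 ⟨a, haN, ha, ea⟩
    obtain ⟨y, rfl⟩ := (c.range δ).1 hδ
    have := congrArg ι (h.comm _ (mem_top _) _ (mem_top _) (c.map ha haN) (c.map hb hbN) x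
      (c.smul_iff.2 ea) (c.smul_iff.2 eb) y (c.mem_Fx y))
    simpa only [c.smul] using this
  odd Y hY ho := by
    obtain ⟨z, -, hz, h1⟩ := h.odd ((Y.subgroupOf N).map f) le_top
      ((ho.of_dvd_nat (H2.card_subgroupOf_of_le hY).dvd).of_dvd_nat (Subgroup.card_map_dvd _ f))
    obtain ⟨a, ha, rfl⟩ := c.lift hz
    refine ⟨a, a.2, ha, fun y hy e δ hδ => ?_⟩
    obtain ⟨x, rfl⟩ := (c.range δ).1 hδ
    refine c.smul_iff.1 (h1 (f ⟨y, hY hy⟩) (mem_map_of_mem f hy) ?_ x (c.mem_Fx x))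
    rw [← map_mul, ← map_mul, ← map_inv]
    exact congrArg f (Subtype.ext e)

end Cov

theorem cov_sub (N : Subgroup G) :
    Cov N (MonoidHom.id N) (fun x : fxSub Ω N => (x : Ω)) where
  surj := Function.surjective_id
  odd := by rw [MonoidHom.ker_id, card_bot]; exact odd_one
  inj := Subtype.val_injective
  range α := ⟨fun h => ⟨⟨α, h⟩, rfl⟩, fun ⟨x, e⟩ => e ▸ x.2⟩
  smul _ _ := rfl

theorem exists_comm_normal {Y : Subgroup G} (hs : Group.IsSolvable Y) (h : Y ≠ ⊥) :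
    ∃ M : Subgroup G, M ⊲ Y ∧ M ≠ ⊥ ∧ IsMulCommutative M := by
  obtain ⟨M, hM, hmin⟩ := (wellFounded_lt (α := Subgroup G)).has_min
    {M | M ⊲ Y ∧ M ≠ ⊥} ⟨Y, ⟨le_rfl, le_normalizer⟩, h⟩
  refine ⟨M, hM.1, hM.2, isMulComm_iff_comm_eq_bot.2 ?_⟩
  by_contra hn
  have h1 := H1.commutator_lt_of_isSolvable (H1.isSolvable_of_le hM.1.1 hs) hM.2
  exact hmin _ ⟨⟨h1.le.trans hM.1.1, hM.1.2.trans (norm_le_norm_der M)⟩, hn⟩ h1

namespace Min

variable (h : Min G Ω) (he : L.EAC G)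
include h he

theorem mem_cent1_iff {t x : G} {α : Ω} (ht : Inv t) (et : t • α = α) :
    x ∈ 𝐂[t] ↔ x = 1 ∨ x ∈ Iv G α := by
  constructor
  · intro hx
    by_cases h1 : x = 1
    · exact Or.inl h1
    · exact Or.inr ⟨⟨h1, he.sq_of_mem ht.ne ht.sq x hx⟩, h.toSE.cent1_le ht et hx⟩
  · rintro (rfl | hx)
    · exact one_mem _
    · exact mem_cent1.2 (h.iComm _ _ α ht hx.1 et hx.2)

theorem ncard_univ_eq {t : G} (ht : Inv t) : (Set.univ : Set Ω).ncard = 𝐨(𝐂[t]) + 1 := by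
  obtain ⟨α, et⟩ := h.ex ht
  obtain ⟨β, hne⟩ := @exists_ne _ h.two α
  obtain ⟨s, hs, es⟩ := h.all β
  have hI : (Iv G α).ncard + 1 = 𝐨(𝐂[t]) := by
    rw [← Set.ncard_insert_of_notMem (a := 1) fun e => e.1.ne rfl, ← SetLike.coe_sort_coe,
      Nat.card_coe_set_eq]
    congr 1
    ext x
    exact (h.mem_cent1_iff he ht et).symm
  have h2 : 2 < 𝐨(𝐂[t]) := by
    obtain ⟨a, ha, b, hb, ia, ib, hab, -⟩ := h.toSE.rk2_stab h.rk2 (h.mem_Fx_top α)
    have : 1 < (Iv G α).ncard :=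
      (Set.one_lt_ncard (Set.toFinite _)).2 ⟨a, ⟨ia, ha.2⟩, b, ⟨ib, hb.2⟩, hab⟩
    omega
  obtain ⟨n, -, h3, h4, -⟩ := he.exists_galoisField ht.ne ht.sq hs.sq
    (fun hc => hne (h.uniq hs es (h.toSE.fix_of_commute ht et hc))) h2
  have h5 : (Iv G α).ncard = 𝐂[t].relIndex (stabilizer G α) := by
    rw [← ncard_class]
    congr 1
    ext x
    refine ⟨fun hx => ?_, fun ⟨y, hy, e⟩ => e ▸ ⟨ht.conj y, conj_fix' et hy⟩⟩
    obtain ⟨d, hd, e⟩ := h.exists_conj_D ht hx.1 et hx.2 hne.symm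
    exact ⟨d, hd.1, e⟩
  have h6 := H1.card_mul_relIndex (h.toSE.cent1_le ht et)
  have h7 := H1.card_mul_relIndex (le_top (a := stabilizer G α))
  rw [card_top, h4, ← h.ncard_univ α, ← h6, ← h5, ← h3, ← hI, Nat.add_sub_cancel] at h7
  rw [← hI]
  exact Nat.eq_of_mul_eq_mul_left (by apply Nat.mul_pos <;> omega) h7

theorem reg_of_eac {α β γ : Ω} (h1 : β ≠ α) (h2 : γ ≠ α) (h3 : β ≠ γ) :
    ∃ a : G, Inv a ∧ a • α = α ∧ a • β = γ := by
  have := h.finite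
  obtain ⟨t, ht, et⟩ := h.all α
  have hsub : (fun x : G => x • β) '' (𝐂[t] : Set G) ⊆ Set.univ \ {α} := by
    rintro _ ⟨x, hx, rfl⟩
    refine ⟨trivial, fun e => h1 ?_⟩
    exact (smul_left_cancel_iff x).1 ((e : x • β = α).trans (h.toSE.cent1_le ht et hx).symm)
  have hinj : Set.InjOn (fun x : G => x • β) (𝐂[t] : Set G) := fun x hx y hy e => by
    rcases (h.mem_cent1_iff he ht et).1 (mul_mem (inv_mem hy) hx) with e1 | e1
    · exact (inv_mul_eq_one.1 e1).symm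
    · refine (h1 (h.uniq e1.1 ?_ e1.2)).elim
      rw [mul_smul, inv_smul_eq_iff]; exact e
  have heq := Set.eq_of_subset_of_ncard_le hsub (by
    rw [Set.ncard_sdiff_singleton_of_mem (Set.mem_univ α), h.ncard_univ_eq he ht,
      hinj.ncard_image, ← Nat.card_coe_set_eq, SetLike.coe_sort_coe, Nat.add_sub_cancel])
  obtain ⟨x, hx, e⟩ := heq.ge ⟨Set.mem_univ γ, h2⟩
  rcases (h.mem_cent1_iff he ht et).1 hx with rfl | e1
  · exact (h3 (by simpa using e)).elim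
  · exact ⟨x, e1.1, e1.2, e⟩

theorem sq_of_swap {g : G} {α β : Ω} (hne : α ≠ β) (e1 : g • α = β) (e2 : g • β = α) :
    g * g = 1 := by
  obtain ⟨a, ha, ea⟩ := h.all α
  obtain ⟨v, hv, h1, h2, -⟩ := h.toSE.exists_swap ha (ha.conj g) ea (e1 ▸ conj_fix ea) hne
  have h3 : v * g ∈ 𝐂[a] := mem_cent1.2 (by
    calc a * (v * g) = v * (v * a * v) * g := by rw [← mul_assoc, ← mul_assoc, ← mul_assoc, hv.sq,
          one_mul]
      _ = v * g * a := by rw [h1]; group)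
  rcases (h.mem_cent1_iff he ha ea).1 h3 with e | e
  · rw [eq_inv_of_mul_eq_one_right e, hv.inv_eq, hv.sq]
  · exact (hne (h.uniq e.1 e.2 (by rw [mul_smul, e2, h2]))).elim

theorem exists_invBy {y : G} (hy : y ≠ 1) (ho : Odd (orderOf y)) : ∃ v, L.InvBy v y := by
  obtain ⟨α, hα⟩ : ∃ α : Ω, y • α ≠ α := by
    by_contra hn
    push Not at hn
    exact hy (h.eq_one_of_fix hn)
  have h1 : y⁻¹ • α ≠ α := fun e => hα (inv_smul_eq_iff.1 e).symm
  obtain ⟨v, hv, e1, e2⟩ := h.reg_of_eac he hα h1 fun e =>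
    hα (eq_of_swap_of_odd ho rfl (by rw [e, smul_inv_smul])).symm
  have h2 := h.sq_of_swap he (g := v * y) h1.symm (by rw [mul_smul, e2])
    (by rw [mul_smul, smul_inv_smul, e1])
  refine ⟨v, fun e => hy (eq_one_of_eq_inv ho (eq_inv_of_mul_eq_one_left e)), hv.ne, hv.sq, ?_⟩
  exact eq_inv_of_mul_eq_one_left (by rw [← h2]; group)

theorem bt_of_eac : BT Ω (⊤ : Subgroup G) where
  reg _ _ _ h1 h2 h3 := (h.reg_of_eac he h1 h2 h3).imp fun _ ha => ⟨mem_top _, ha⟩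
  comm a _ b _ ha hb α ea eb δ _ := by
    rw [← mul_smul, h.iComm a b α ha hb ea eb, mul_smul]
  odd Y _ ho := by
    obtain ⟨a, -, b, -, ha, hb, hab, hc⟩ := h.rk2
    by_cases hY : Y = ⊥
    · exact ⟨a, mem_top _, ha, fun y hy _ δ _ => by rw [hY, mem_bot] at hy; rw [hy, one_smul]⟩
    obtain ⟨M, hM, hM1, hMc⟩ := exists_comm_normal (feit_thompson Y ho) hY
    obtain ⟨m, hm, hm1⟩ := (M.bot_or_exists_ne_one).resolve_left hM1
    obtain ⟨w, hw⟩ := h.exists_invBy he hm1 (odd_orderOf_of_mem ho (hM.1 hm))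
    have hYC : Y ≤ 𝐂[m] := fun g hg => by
      have h1 : g * m * g⁻¹ ∈ 𝐂[m] := mem_cent1.2 (mem_cent.1 (isMulComm_iff_le_cent.1 hMc
        (H1.conj_mem_of_le_normalizer hM.2 hg hm)) m hm)
      have h2 := he.cent_eq_of_invBy hw _ h1 (by simpa using hm1)
      rcases he.mem_or_of_mem_normalizer hw (g := g) (conj_eq_self_iff.1 (by
        rw [← cent1_conj, h2])) with e | e
      · exact e
      · have h3 := he.inverts hw _ e
        rw [← mul_assoc, hw.2.2.1, one_mul, mul_inv_rev, L.inv_eq_self_of_mul_self hw.2.2.1,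
          mul_left_inj] at h3
        rw [eq_one_of_eq_inv (odd_orderOf_of_mem ho hg) h3]
        exact one_mem _
    have key : ∀ c, Inv c → c * m * c ≠ m⁻¹ → ∃ c ∈ (⊤ : Subgroup G), Inv c ∧
        ∀ y ∈ Y, c * y * c = y⁻¹ → ∀ δ ∈ Fx Ω (⊤ : Subgroup G), y • δ = δ := fun c hc hn =>
      ⟨c, mem_top _, hc, fun y hy e δ _ => by
        by_cases h1 : y = 1
        · rw [h1, one_smul]
        · exact (hn (he.inverts ⟨fun e => h1 (eq_one_of_eq_inv (odd_orderOf_of_mem ho hy)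
            (eq_inv_of_mul_eq_one_left e)), hc.ne, hc.sq, e⟩ m
            (mem_cent1.2 (mem_cent1.1 (hYC hy)).symm))).elim⟩
    by_cases e1 : a * m * a = m⁻¹
    · refine key b hb fun e2 => (ha.mul hb hab hc).ne ?_
      exact he.eq_one_of_real hw.1 _ (L.EAC.mul_mem_cent_of_inverts hb.sq ha.sq e2 e1)
        (ha.mul hb hab hc).sq
    · exact key a ha e1

end Min

/-- The end of the analysis of the simple group. -/
def EacHyp : Prop :=
  ∀ (G : Type u) [Group G] [Finite G] (Ω : Type v) [MulAction G Ω], Min G Ω → IComm G Ω → L.EAC G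

theorem BT.of_normal {N : Subgroup G} [N.Normal] (hN : ∀ a : G, Inv a → a ∈ N) (h : BT Ω N) :
    BT Ω (⊤ : Subgroup G) := by
  have hF : Fx Ω (⊤ : Subgroup G) ⊆ Fx Ω N := fun α ⟨a, _, ha, e⟩ => ⟨a, hN a ha, ha, e⟩
  refine ⟨fun hα hβ hγ h1 h2 h3 => ?_, fun a _ b _ ha hb α ea eb δ hδ => ?_, fun Y _ ho => ?_⟩
  · exact (h.reg (hF hα) (hF hβ) (hF hγ) h1 h2 h3).imp fun _ ha => ⟨mem_top _, ha.2⟩
  · exact h.comm a (hN a ha) b (hN b hb) ha hb α ea eb δ (hF hδ)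
  · obtain ⟨c, hc, hi, h1⟩ := h.odd (Y ⊓ N) inf_le_right (odd_of_le inf_le_left ho)
    refine ⟨c, mem_top _, hi, fun y hy e δ hδ => h1 y ⟨hy, ?_⟩ e δ (hF hδ)⟩
    refine mem_of_sq_mem (odd_orderOf_of_mem ho hy) ?_
    have h2 : y * y = c * (y⁻¹ * c * y⁻¹⁻¹) := by
      rw [inv_inv, ← e]
      calc y * y = (c * c) * y * (c * c) * y := by rw [hi.sq]; group
        _ = _ := by group
    rw [h2]
    exact N.mul_mem hc (Normal.conj_mem inferInstance c hc _)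

theorem bt_aux (hE : EacHyp.{u, v}) (n : ℕ) : ∀ (G : Type u) [Group G] [Finite G] (Ω : Type v)
    [MulAction G Ω], Nat.card G = n → Hyp G Ω → Rk2 (⊤ : Subgroup G) → Nontrivial Ω →
    (∀ α : Ω, ∃ a : G, Inv a ∧ a • α = α) → BT Ω (⊤ : Subgroup G) := by
  induction n using Nat.strong_induction_on with
  | _ n ih =>
  intro G _ _ Ω _ hn h h2 hΩ hall
  have hF : ∀ α, α ∈ Fx Ω (⊤ : Subgroup G) := fun α => (hall α).imp fun _ ha => ⟨mem_top _, ha⟩
  have hsub : ∀ N : Subgroup G, N ≠ ⊤ → Rk2 N → (Fx Ω N).Nontrivial → BT Ω N :=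
    fun N hN h3 h4 =>
      have c := cov_sub (Ω := Ω) N
      c.bt (ih _ (by
        rw [← hn, ← card_top (G := G)]; exact H1.card_lt_of_lt (Ne.lt_top hN)) _ _ rfl (c.hyp h) (c.rk2 h3) (c.nontrivial h4)
        c.all)
  by_cases hs : IsSimpleGroup G
  · have hm : Min G Ω := ⟨h, hs, h2, hΩ, hall, hsub⟩
    exact hm.bt_of_eac (hE G Ω hm hm.iComm)
  obtain ⟨N, hN, h1, h3⟩ : ∃ N : Subgroup G, N.Normal ∧ N ≠ ⊥ ∧ N ≠ ⊤ := by
    by_contra hc
    obtain ⟨a, -, -, -, ha, -⟩ := h2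
    have : Nontrivial G := ⟨a, 1, ha.ne⟩
    exact hs ⟨fun N hN => by
      by_contra h4
      exact hc ⟨N, hN, fun e => h4 (Or.inl e), fun e => h4 (Or.inr e)⟩⟩
  have hF2 : (Fx Ω (⊤ : Subgroup G)).Nontrivial := by
    obtain ⟨α, β, hne⟩ := hΩ
    exact ⟨α, hF α, β, hF β, hne⟩
  by_cases ho : Odd 𝐨(N)
  · have hker : N ≤ (toPermHom G Ω).ker := fun x hx => by
      rw [MonoidHom.mem_ker]
      exact Equiv.ext fun δ =>
        h.toSE.le_stab_of_rk2 h2 ho (normalizer_eq_top N).ge (hF δ) hx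
    let _ : MulAction (G ⧸ N) Ω := MulAction.compHom Ω (QuotientGroup.lift N (toPermHom G Ω) hker)
    have c : Cov (G' := G ⧸ N) (⊤ : Subgroup G) ((QuotientGroup.mk' N).comp (Subgroup.subtype ⊤))
        (id : Ω → Ω) :=
      { surj := fun z => by
          obtain ⟨g, rfl⟩ := QuotientGroup.mk_surjective z
          exact ⟨⟨g, mem_top g⟩, rfl⟩
        odd := by
          rw [← MonoidHom.comap_ker, QuotientGroup.ker_mk']
          exact ho.of_dvd_nat (H2.card_subgroupOf_of_le (le_top (a := N))).dvd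
        inj := Function.injective_id
        range := fun α => ⟨fun _ => ⟨α, rfl⟩, fun _ => hF α⟩
        smul := fun _ _ => rfl }
    exact c.bt (ih _ (hn ▸ L.card_quotient_lt N h1) _ _ rfl (c.hyp h) (c.rk2 h2) hΩ c.all)
  · obtain ⟨t, htN, ht⟩ := exists_inv_of_even ho
    have hI : ∀ a : G, Inv a → a ∈ N := fun a ha => by
      obtain ⟨g, -, e⟩ := h.toSE.exists_conj hF2 ht ha (mem_top _) (mem_top _)
      exact e ▸ hN.conj_mem t htN g
    refine BT.of_normal hI (hsub N h3 ?_ (hF2.mono fun α ⟨a, _, ha, e⟩ => ⟨a, hI a ha, ha, e⟩))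
    obtain ⟨a, -, b, -, ha, hb, h4⟩ := h2
    exact ⟨a, hI a ha, b, hI b hb, ha, hb, h4⟩

theorem EacHyp.bt (hE : EacHyp.{u, v}) (h : Hyp G Ω) {N : Subgroup G} (h2 : Rk2 N)
    (hF : (Fx Ω N).Nontrivial) : BT Ω N :=
  have c := cov_sub (Ω := Ω) N
  c.bt (bt_aux hE _ _ _ rfl (c.hyp h) (c.rk2 h2) (c.nontrivial hF) c.all)

theorem EacHyp.min (hE : EacHyp.{u, v}) (h : Hyp G Ω) (hs : IsSimpleGroup G)
    (h2 : Rk2 (⊤ : Subgroup G)) [hΩ : Nontrivial Ω] (hall : ∀ α : Ω, ∃ a : G, Inv a ∧ a • α = α) :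
    Min G Ω :=
  ⟨h, hs, h2, hΩ, hall, fun _ _ h3 h4 => hE.bt h h3 h4⟩

theorem EacHyp.simple_eac (hE : EacHyp.{u, v}) (h : Hyp G Ω) (hs : IsSimpleGroup G)
    (h2 : Rk2 (⊤ : Subgroup G)) [Nontrivial Ω] (hall : ∀ α : Ω, ∃ a : G, Inv a ∧ a • α = α) :
    L.EAC G :=
  hE G Ω (hE.min h hs h2 hall) (hE.min h hs h2 hall).iComm

end Cfsg.Agent.P6
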