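/-
The first case is impossible; the simple group of the induction step is `SL₂(2^n)`.
-/
import Cfsg.Agent.P6.End4
import Cfsg.Agent.P6.Ind
import Cfsg.Agent.FT.BG04

set_option autoImplicit false
set_option linter.unusedSectionVars false

namespace Cfsg.Agent.P6

open Subgroup Cfsg Cfsg.Agent Cfsg.Agent.FT MulAction
open scoped commutatorElement

universe u v

variable {G : Type u} [Group G] [Finite G] {Ω : Type v} [MulAction G Ω]

namespace FR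

variable {α β : Ω} {Q : Subgroup G} {y a : G} {p : ℕ} {R : Subgroup G} {m : ℕ}
  (h : FR α β Q y a p R m)
include h

theorem fc : FC α β Q y a p := h.toFC

theorem bn : Bn α β Q := h.fc.bn

theorem mc : Mc G Ω := h.fc.mc

theorem pR : IsPGroup p R := isPGroup_of_card_eq h.cR

theorem XR : zpowers y ≤ R := zpowers_le.2 h.yR

theorem three {x : G} (hx : x ∈ St2 G α β ⊓ 𝐂(Av G α)) (hy : x ∈ 𝐂[y]) (x1 : x ≠ 1) :
    p = 3 ∧ (x ^ p = 1 → m ≤ 3) := by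
  have XN := h.XR.trans h.nR.1
  have := H1.normal_subgroupOf_of_le ((cent_zpowers y).ge.trans (cent_le_norm _))
  have hT : ∀ s, s ∈ H1.unbar 𝐂[y] (zpowers y) (H1.bar 𝐂[y] (zpowers y) R ⊓
      𝐂[H1.qmk 𝐂[y] (zpowers y) ⟨x, hy⟩]) ↔ s ∈ R ∧ x • s • α = s • α := by
    intro s
    have key : ∀ hs : s ∈ R, H1.qmk 𝐂[y] (zpowers y) ⟨s, h.nR.1 hs⟩ ∈
        𝐂[H1.qmk 𝐂[y] (zpowers y) ⟨x, hy⟩] ↔ x • s • α = s • α := fun hs => by
      rw [← inv_mem_iff, mem_cent1_comm, mem_cent1, ← commutatorElement_eq_one_iff_mul_comm,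
        ← map_inv, ← map_commutatorElement, H1.qmk_eq_one_iff, ← h.RH]
      change ⁅s⁻¹, x⁆ ∈ _ ↔ _
      rw [mem_inf,
        and_iff_right (comm_le_left_iff.2 h.nR.2 (commutator_mem_commutator (inv_mem hs) hy)),
        mem_stabilizer_iff, commutatorElement_def, mul_smul, inv_mem (mem_stabilizer_iff.2 hx.1.1), inv_inv, mul_smul, mul_smul,
        inv_smul_eq_iff]
    rw [H1.mem_unbar]
    refine ⟨fun ⟨hs, h1, h2⟩ => ?_, fun ⟨hs, e⟩ => ⟨h.nR.1 hs, H1.qmk_mem_bar hs, (key hs).2 e⟩⟩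
    have hs' : s ∈ R := sup_eq_left.2 h.XR ▸ (H1.qmk_mem_bar_iff XN h.nR.1).1 h1
    exact ⟨hs', (key hs').1 h2⟩
  have c1 := H1.card_unbar XN (H1.bar 𝐂[y] (zpowers y) R ⊓ 𝐂[H1.qmk 𝐂[y] (zpowers y) ⟨x, hy⟩])
  have XT := H1.le_unbar XN (H1.bar 𝐂[y] (zpowers y) R ⊓ 𝐂[H1.qmk 𝐂[y] (zpowers y) ⟨x, hy⟩])
  generalize H1.unbar 𝐂[y] (zpowers y) _ = T at hT c1 XT
  have c2 := H1.card_inf_mul_relIndex (stabilizer G α) T
  rw [show stabilizer G α ⊓ T = zpowers y from le_antisymm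
      (fun s hs => h.RH ▸ mem_inf.2 ⟨((hT s).1 hs.2).1, hs.1⟩)
      (le_inf (h.fc.XD.trans inf_le_left) XT),
    ← ncard_orbit, c1, show {c | ∃ s ∈ T, s • α = c} = {α, β, a • β} from ?_,
    Set.ncard_eq_three.2 ⟨_, _, _, h.ne, (h.bn.smul_ne (h.mc.fix h.aA)).symm,
      fun e => h.a1 (h.mc.eq_one_of_fix h.ne h.aA e.symm), rfl⟩] at c2
  swap
  · ext γ
    rw [← h.fc.fix3 hx x1]
    refine ⟨?_, fun ⟨e1, e2⟩ => ?_⟩
    · rintro ⟨s, hs, rfl⟩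
      exact ⟨h.fc.smul_F (h.nR.1 ((hT s).1 hs).1) h.yD.1, ((hT s).1 hs).2⟩
    · obtain ⟨s, hs, rfl⟩ := h.trR γ e1
      exact ⟨s, (hT s).2 ⟨hs, e2⟩, rfl⟩
  have c3 := Nat.eq_of_mul_eq_mul_left Nat.card_pos c2
  have c4 : 𝐨(H1.bar 𝐂[y] (zpowers y) R) = p ^ m := by
    have := H1.card_mul_relIndex h.XR
    rw [h.fc.cX, h.cR, pow_succ'] at this
    rw [H1.card_bar h.nR.1, Nat.eq_of_mul_eq_mul_left h.hp.pos this]
  have p3 : p = 3 := ((Nat.prime_dvd_prime_iff_eq Nat.prime_three h.hp).1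
    (Nat.prime_three.dvd_of_dvd_pow (by rw [← c4, c3]; exact FT.card_dvd_of_le inf_le_left))).symm
  refine ⟨p3, fun xp => ?_⟩
  have := card_le_cent_pow h.hp ((H1.isMulCommutative_bar_iff h.nR.1).2 h.der) (by
      intro v hv
      obtain ⟨s, hs, rfl⟩ := H1.mem_bar.1 hv
      rw [← map_pow, H1.qmk_eq_one_iff]
      exact h.pw s hs) (g := H1.qmk 𝐂[y] (zpowers y) ⟨x, hy⟩)
    (H1.bar_le_normalizer h.nR.2 (H1.qmk_mem_bar hy))
    (by rw [← map_pow, show (⟨x, hy⟩ : 𝐂[y]) ^ p = 1 from Subtype.ext xp, map_one])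
  rw [c4, ← c3, p3] at this
  exact (Nat.pow_le_pow_iff_right (by norm_num)).1 this

theorem not_dvd_W : ¬ p ∣ 𝐨((St2 G α β ⊓ 𝐂(Av G α) : Subgroup G)) := fun hd => by
  have nW : St2 G α β ⊓ 𝐂(Av G α) ⊲ St2 G α β := ⟨inf_le_left,
    H1.le_normalizer_inf (le_norm_self _) (inf_le_left.trans (h.mc.norm_C α))⟩
  obtain ⟨P, hP, XP⟩ := exists_isSyl_ge h.hp h.fc.pX h.fc.XD
  have h1 := inf_center_ne_bot (isNilpotent_of_isPGroup h.hp hP.pgrp)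
    (inf_comm P _ ▸ inf_normal nW hP.le) ((hP.inf_normal h.hp nW).ne_bot h.hp hd)
  obtain ⟨x, hx, ox⟩ := exists_mem_orderOf_eq_prime h.hp (prime_dvd_card_of_isPGroup h.hp
    (hP.pgrp.to_le (inf_le_left.trans inf_le_left)) h1)
  have x1 : x ≠ 1 := fun e => h.hp.one_lt.ne (by rw [← ox, e, orderOf_one])
  obtain ⟨p3, hm⟩ := h.three hx.1.2 (cent_le_cent1 (zpowers_le.1 XP) hx.2) x1
  have m3 := hm (ox ▸ pow_orderOf_eq_one x)
  have core := h.bn.core_le h.hp h.fc.p2 (X := zpowers x)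
    (isPGroup_of_card_prime (by rw [Nat.card_zpowers, ox])) (zpowers_ne_bot.2 x1)
    (zpowers_le.2 hx.1.2.1) ((h.mc.rk2_A α).mono (cent_comm.1 (zpowers_le.2 hx.1.2.2)))
  have c1 := h.cm
  have c2 := h.fc.two_lt_c
  obtain ⟨c3, c4⟩ := h.fc.cardQ
  have m0 := h.m0
  subst p3
  interval_cases m
  · omega
  · have c5 : 𝐨((Q ⊓ 𝐂[y] : Subgroup G)) = 2 ^ 3 := by omega
    have := FT.card_dvd_of_le (le_inf (((isSyl_pCoreOf_of_isNilpotent Nat.prime_two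
      h.bn.nil).le_of_normal Nat.prime_two (pCoreOf_normal 2 Q).2 (isPGroup_of_card_eq c5)
      inf_le_left).trans core) inf_le_right)
    rw [c5, h.fc.card_AC h.ay le_rfl] at this
    omega
  · rw [c3, show 𝐨((Q ⊓ 𝐂[y] : Subgroup G)) = 26 by omega] at c4
    omega

theorem cardH : ∃ t, ¬ p ∣ t ∧ 𝐨(stabilizer G α) = p * t := by
  refine ⟨𝐨(Q) * 𝐨((St2 G α β ⊓ 𝐂(Av G α) : Subgroup G)) * (2 ^ p - 1), fun e => ?_, by
    rw [h.bn.sd.card, h.fc.cardD]; ring⟩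
  rcases (h.hp.dvd_mul).1 e with e | e
  · exact ((h.hp.dvd_mul).1 e).elim h.fc.not_dvd_Q h.not_dvd_W
  · have := Fact.mk h.hp
    have h1 := (ZMod.natCast_eq_zero_iff _ _).2 e
    rw [Nat.cast_sub Nat.one_le_two_pow, Nat.cast_pow, ZMod.pow_card] at h1
    norm_num at h1

theorem cardG : ∃ t, ¬ p ∣ t ∧ Nat.card G = p ^ (m + 2) * t := by
  obtain ⟨t, ht, e⟩ := h.cardH
  obtain ⟨s, hs, e'⟩ := exists_pow_add_one h.hp h.fc.p2 h.m0 h.cm
  refine ⟨s * t, fun e => (h.hp.dvd_mul.1 e).elim hs ht, ?_⟩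
  rw [← (stabilizer G α).index_mul_card, h.bn.index_eq, h.fc.cardQ.1, e, e']
  ring

theorem le_of_dvd {n : ℕ} (hn : p ^ n ∣ Nat.card G) : n ≤ m + 2 := by
  obtain ⟨t, ht, e⟩ := h.cardG
  exact (Nat.pow_dvd_pow_iff_le_right h.hp.one_lt).1
    (((h.hp.coprime_iff_not_dvd.2 ht).pow_left n).dvd_of_dvd_mul_right (e ▸ hn))

theorem sylX : IsSyl p (zpowers y) (stabilizer G α) := by
  obtain ⟨t, ht, e⟩ := h.cardH
  have := H1.card_mul_relIndex (h.fc.XD.trans inf_le_left)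
  rw [h.fc.cX, e] at this
  exact ⟨h.fc.XD.trans inf_le_left, h.fc.pX, Nat.eq_of_mul_eq_mul_left h.hp.pos this ▸ ht⟩

theorem inf_H {Y : Subgroup G} (hY : IsPGroup p Y) (hy : y ∈ Y) :
    Y ⊓ stabilizer G α = zpowers y :=
  h.sylX.eq_of_le h.hp (le_inf (zpowers_le.2 hy) h.sylX.le) inf_le_right (hY.to_le inf_le_left)

theorem relN : R.relIndex 𝐂[y] = (zpowers y).relIndex (𝐂[y] ⊓ stabilizer G α) := by
  have : R ⊔ 𝐂[y] ⊓ stabilizer G α = 𝐂[y] := by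
    refine le_antisymm (sup_le h.nR.1 inf_le_left) fun g hg => ?_
    obtain ⟨s, hs, e⟩ := h.trR _ (h.fc.smul_F hg h.yD.1)
    rw [← mul_inv_cancel_left s g]
    exact mul_mem_sup hs (mem_inf.2 ⟨mul_mem (inv_mem (h.nR.1 hs)) hg, mem_stabilizer_iff.2 (by
      rw [mul_smul, ← e, inv_smul_smul])⟩)
  conv_lhs => rw [← this]
  rw [relIndex_sup_of_norm (inf_le_left.trans h.nR.2), ← inf_relIndex_right, ← h.RH, ← inf_assoc,
    inf_eq_left.2 h.nR.1]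

theorem sylR : IsSyl p R 𝐂[y] :=
  ⟨h.nR.1, h.pR, h.relN ▸ (h.sylX.of_le (le_inf (h.XR.trans h.nR.1) h.sylX.le) inf_le_right).ndvd⟩

theorem cnt {Y : Subgroup G} (hY : IsPGroup p Y) (hy : y ∈ Y) (hn : 𝐂[y] ≤ 𝐍(Y)) :
    p * 𝐂[y].relIndex 𝐍(Y) ≤ 𝐨(Y) ∧ 𝐨((Q ⊓ 𝐂[y] : Subgroup G)) ∣ 𝐂[y].relIndex 𝐍(Y) - 1 := by
  rw [← ncard_class]
  have hZ : ∀ z ∈ {c | ∃ g ∈ 𝐍(Y), g * y * g⁻¹ = c}, z ∈ Y := by
    rintro _ ⟨g, hg, rfl⟩
    exact H1.conj_mem_of_le_normalizer le_rfl hg hy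
  constructor
  · have c1 := H1.card_inf_mul_relIndex 𝐂[a] Y
    rw [show 𝐂[a] ⊓ Y = zpowers y from le_antisymm (h.inf_H hY hy ▸ le_inf inf_le_right
      (inf_le_left.trans (h.bn.se.cent1_le h.fc.ai (h.mc.fix h.aA))))
      (zpowers_le.2 (mem_inf.2 ⟨mem_cent1_comm.1 h.ay, hy⟩)), h.fc.cX, ← ncard_class,
      ← Set.ncard_image_of_injective _ (mul_left_injective a)] at c1
    have key : ∀ g : G, ∀ i ∈ Set.Ioo 0 p, g * y ^ i * g⁻¹ ∈ zpowers y → g * y ^ i * g⁻¹ = y ^ i :=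
      fun g i hi e => by
      rw [← conj_pow, h.fc.conj_eq (h.fc.mem_of_pow (Nat.not_dvd_of_pos_of_lt hi.1 hi.2) e)]
    have inj : Set.InjOn (fun x : G × ℕ => x.1 ^ x.2)
        ({c | ∃ g ∈ 𝐍(Y), g * y * g⁻¹ = c} ×ˢ Set.Ioo 0 p) := by
      rintro ⟨_, i⟩ ⟨⟨g, -, rfl⟩, hi⟩ ⟨_, j⟩ ⟨⟨k, -, rfl⟩, hj⟩ e
      simp only [conj_pow] at e
      have e1 : k⁻¹ * g * y ^ i * (k⁻¹ * g)⁻¹ = y ^ j := by
        rw [show k⁻¹ * g * y ^ i * (k⁻¹ * g)⁻¹ = k⁻¹ * (g * y ^ i * g⁻¹) * k by group, e]; group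
      have e2 := h.fc.conj_eq (h.fc.mem_of_pow (Nat.not_dvd_of_pos_of_lt hi.1 hi.2)
        (e1 ▸ pow_mem (mem_zpowers y) j))
      rw [key _ i hi (e1 ▸ pow_mem (mem_zpowers y) j)] at e1
      refine Prod.ext ?_ (pow_injOn_Iio_orderOf (h.ord ▸ hi.2) (h.ord ▸ hj.2) e1)
      conv_rhs => rw [← e2]
      group
    have c2 := inj.ncard_image
    rw [Set.ncard_prod, Set.ncard_Ioo_nat] at c2
    have c3 := Set.ncard_union_eq (s := (fun x : G × ℕ => x.1 ^ x.2) ''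
        ({c | ∃ g ∈ 𝐍(Y), g * y * g⁻¹ = c} ×ˢ Set.Ioo 0 p))
      (t := (· * a) '' {c | ∃ s ∈ Y, s * a * s⁻¹ = c}) (Set.disjoint_left.2 ?_)
      (Set.toFinite _) (Set.toFinite _)
    · have c4 := Set.ncard_le_ncard (t := (Y : Set G)) (Set.union_subset ?_ ?_ : (fun x : G × ℕ =>
        x.1 ^ x.2) '' ({c | ∃ g ∈ 𝐍(Y), g * y * g⁻¹ = c} ×ˢ Set.Ioo 0 p) ∪
        (· * a) '' {c | ∃ s ∈ Y, s * a * s⁻¹ = c} ⊆ _) (Set.toFinite _)
      · rw [c3, c2] at c4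
        change _ ≤ 𝐨(Y) at c4
        obtain ⟨n, e⟩ : ∃ n, p = n + 2 := ⟨p - 2, by have := h.hp.two_le; omega⟩
        rw [← c1] at c4 ⊢
        rw [e] at c4 ⊢
        refine Nat.mul_le_mul_left _ (Nat.le_of_mul_le_mul_right ?_ n.succ_pos)
        simp only [Nat.succ_eq_add_one, Nat.reduceSubDiff] at c4 ⊢
        nlinarith
      · rintro _ ⟨x, hx, rfl⟩
        exact pow_mem (hZ _ hx.1) _
      · rintro _ ⟨_, ⟨s, hs, rfl⟩, rfl⟩
        have := mul_mem hs (H1.conj_mem_of_le_normalizer hn h.ay (inv_mem hs))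
        rwa [h.fc.ai.inv_eq, ← mul_assoc, ← mul_assoc] at this
    · rintro _ ⟨⟨_, i⟩, ⟨⟨g, -, rfl⟩, hi⟩, rfl⟩ ⟨_, ⟨s, -, rfl⟩, e⟩
      simp only [conj_pow] at e
      have e1 : g⁻¹ * a * g * y ^ i * (g⁻¹ * a * g)⁻¹ = (y ^ i)⁻¹ := by
        calc _ = g⁻¹ * (a * (g * y ^ i * g⁻¹) * a⁻¹) * g := by group
          _ = g⁻¹ * (s * a⁻¹ * s⁻¹ * a⁻¹)⁻¹ * g := by rw [← e]; group
          _ = _ := by rw [h.fc.ai.inv_eq, e]; group
      rw [key _ i hi (e1 ▸ inv_mem (pow_mem (mem_zpowers y) i))] at e1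
      exact Nat.not_dvd_of_pos_of_lt hi.1 hi.2 (h.ord ▸ orderOf_dvd_of_pow_eq_one
        (eq_one_of_eq_inv (odd_orderOf_of_mem (h.bn.se.odd_St2 h.ne) (pow_mem h.yD i)) e1))
  · rw [← Set.ncard_sdiff_singleton_of_mem (a := y) (s := {c | ∃ g ∈ 𝐍(Y), g * y * g⁻¹ = c})
      ⟨1, one_mem _, by simp⟩]
    refine H5.card_dvd_ncard_of_conj ?_ ?_
    · rintro z hz _ ⟨⟨g, hg, rfl⟩, n1⟩
      refine ⟨⟨z * g, mul_mem (hn hz.2) hg, by group⟩, fun e => n1 ?_⟩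
      rw [Set.mem_singleton_iff] at e ⊢
      calc _ = z⁻¹ * (z * (g * y * g⁻¹) * z⁻¹) * z⁻¹⁻¹ := by group
        _ = y := by rw [e, mem_cent1_iff_conj.1 (inv_mem (mem_inf.1 hz).2)]
    · rintro z hz w ⟨hw, n1⟩ e
      by_contra z1
      have := h.inf_H hY hy ▸ mem_inf.2 ⟨hZ w hw, h.bn.cent_le hz.1 z1 (mem_cent1.2 e)⟩
      obtain ⟨g, -, rfl⟩ := hw
      exact n1 (h.fc.conj_eq this)

theorem relM : 𝐂[y].relIndex 𝐍(R) = p ^ m := by
  obtain ⟨c1, c2⟩ := h.cnt h.pR h.yR h.nR.2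
  rw [h.cR, pow_succ'] at c1
  have c3 := Nat.le_of_mul_le_mul_left c1 h.hp.pos
  have c4 := CH1.relIndex_ne_zero' 𝐂[y] 𝐍(R)
  have c5 : 𝐂[y].relIndex 𝐍(R) ≠ 1 := fun e => by
    obtain ⟨Y, h1, -, h2, h3⟩ := exists_gt_of_not_isSyl h.hp h.pR le_top fun hs => hs.ndvd (by
      obtain ⟨t, -, e⟩ := h.cardG
      have := R.card_mul_index
      rw [h.cR, e, pow_succ _ (m + 1), mul_assoc] at this
      exact ⟨t, by rw [relIndex_top_right, Nat.eq_of_mul_eq_mul_left (pow_pos h.hp.pos _) this]⟩)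
    exact h1.ne' (h.sylR.eq_of_le h.hp h1.le (h2.trans (relIndex_eq_one.1 e)) h3)
  have := Nat.le_of_dvd (by omega) c2
  have := h.cm
  omega

theorem m_eq : m = 1 := by
  have c1 := H1.card_mul_relIndex h.nR.2
  rw [h.relM, ← H1.card_mul_relIndex h.nR.1, h.cR, mul_right_comm, ← pow_add] at c1
  have := h.le_of_dvd ((Dvd.intro _ c1).trans (card_subgroup_dvd_card _))
  have := h.m0
  omega

theorem relN_lt : R.relIndex 𝐂[y] < p := by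
  have c1 := h.cm
  have c2 := h.fc.two_lt_c
  rw [h.m_eq, pow_one] at c1
  have W1 : St2 G α β ⊓ 𝐂(Av G α) ⊓ 𝐂[y] = ⊥ := eq_bot_iff.2 fun x hx => by_contra fun x1 => by
    have := (h.three hx.1 hx.2 x1).1
    omega
  have e : 𝐂[y] ⊓ stabilizer G α = zpowers y ⊔ Q ⊓ 𝐂[y] := by
    refine le_antisymm (fun g hg => ?_) (sup_le (le_inf (h.XR.trans h.nR.1) h.sylX.le)
      (le_inf inf_le_right (inf_le_left.trans h.bn.QH)))
    obtain ⟨z, hz, e⟩ := h.bn.exists_cent h.yD (h.bn.smul_ne hg.2) (h.fc.smul_F hg.1 h.yD.2)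
    have : z⁻¹ * g ∈ St2 G α β ⊓ 𝐂[y] := mem_inf.2 ⟨mem_inf.2 ⟨mul_mem (inv_mem (h.bn.QH hz.1))
      hg.2, mem_stabilizer_iff.2 (by rw [mul_smul, ← e, inv_smul_smul])⟩,
      mul_mem (inv_mem (mem_inf.1 hz).2) hg.1⟩
    rw [h.fc.DN_eq, W1, bot_sup_eq] at this
    rw [← mul_inv_cancel_left z g]
    exact mul_mem (mem_sup_right hz) (mem_sup_left this)
  rw [h.relN, e, relIndex_sup_of_norm (inf_le_right.trans
    ((cent_zpowers y).ge.trans (cent_le_norm _)))]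
  have := Nat.le_of_dvd Nat.card_pos (relIndex_dvd_card' (zpowers y) (Q ⊓ 𝐂[y]))
  omega

theorem false : False := by
  have m1 := h.m_eq
  subst m1
  obtain ⟨P, hP, RP⟩ := exists_isSyl_ge h.hp h.pR (le_norm_self R)
  have e1 : R.relIndex P * P.relIndex 𝐍(R) = p * R.relIndex 𝐂[y] := by
    rw [relIndex_mul_relIndex _ _ _ RP hP.le, ← relIndex_mul_relIndex _ _ _ h.nR.1 h.nR.2, h.relM,
      pow_one, mul_comm]
  obtain ⟨t, ht⟩ := (h.hp.dvd_mul.1 (Dvd.intro _ e1.symm)).resolve_right hP.ndvd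
  have t0 : 0 < t := Nat.pos_of_ne_zero fun e => CH1.relIndex_ne_zero' R P (by rw [ht, e, mul_zero])
  have nP : 𝐍(R) ≤ 𝐍(P) := syl_normal_of_lt h.hp hP (lt_of_le_of_lt (by
    rw [ht, mul_assoc] at e1
    exact Nat.eq_of_mul_eq_mul_left h.hp.pos e1 ▸ Nat.le_mul_of_pos_left _ t0) h.relN_lt)
  have cP : 𝐨(P) = p ^ 3 := by
    obtain ⟨n, e⟩ := exists_card_eq_pow h.hp hP.pgrp
    have c1 := h.le_of_dvd (e ▸ card_subgroup_dvd_card P)
    have c2 := H1.card_mul_relIndex RP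
    rw [h.cR, ht, ← mul_assoc, ← pow_succ, e] at c2
    have := (Nat.pow_dvd_pow_iff_le_right h.hp.one_lt).1 (Dvd.intro _ c2)
    rw [e, show n = 3 by omega]
  have iP : ¬ p ∣ P.index := fun e => by
    have := mul_dvd_mul_left (p ^ 3) e
    rw [← pow_succ, ← cP, card_mul_index] at this
    have := h.le_of_dvd this
    omega
  have yP := RP h.yR
  have sylc : ∀ g : G, IsSyl p (R ^ᵍ g) 𝐂[g * y * g⁻¹] ∧ 𝐂[g * y * g⁻¹] ≤ 𝐍(R ^ᵍ g) := fun g => by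
    rw [cent1_conj]
    exact ⟨h.sylR.conj g, conj_le_norm_iff.2 h.nR.2⟩
  have lt : p ^ 2 < p ^ 3 := Nat.pow_lt_pow_right h.hp.one_lt (by norm_num)
  have nc : ∀ g : G, ¬ P ≤ 𝐂[g * y * g⁻¹] := fun g e => by
    have := card_le_of_le ((sylc g).1.le_of_normal h.hp (sylc g).2 hP.pgrp e)
    rw [card_conj, h.cR, cP] at this
    exact lt.not_ge this
  have ny : ¬ P ≤ 𝐂[y] := by simpa using nc 1
  have hZ := BG04.center_of_card_cube h.hp cP fun e =>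
    ny (mem_cent_iff_cent1.1 (isMulComm_iff_le_cent.1 e yP))
  have key : ∀ g : G, g * y * g⁻¹ ∈ P → g ∈ 𝐍(P) := fun g hg => by
    have h1 : P ⊓ 𝐂[g * y * g⁻¹] = R ^ᵍ g := by
      refine H1.eq_of_le_of_card_le ((sylc g).1.le_of_normal h.hp (sylc g).2
        (hP.pgrp.to_le inf_le_left) inf_le_right) ?_
      obtain ⟨n, e⟩ := exists_card_eq_pow h.hp (hP.pgrp.to_le (inf_le_left : P ⊓ 𝐂[g * y * g⁻¹] ≤ P))
      have := H1.card_lt_of_lt (lt_of_le_of_ne (inf_le_inf_left P (cent_le_cent1 hg)) fun e =>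
        nc g (mem_cent_iff_cent1.1 (e.ge ⟨hg, self_mem_cent1 _⟩).2))
      rw [hZ.2, hZ.1, e] at this
      rw [card_conj, h.cR, e]
      exact Nat.pow_le_pow_right h.hp.pos ((Nat.pow_lt_pow_iff_right h.hp.one_lt).1
        (by rwa [pow_one]))
    have h2 : P ≤ 𝐍(R ^ᵍ g) := by
      have l1 := lt_inf_norm_of_isNilpotent (isNilpotent_of_isPGroup h.hp hP.pgrp)
        (lt_of_le_of_ne (h1 ▸ inf_le_left) fun e : R ^ᵍ g = P => nc g (e ▸ (sylc g).1.le))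
      obtain ⟨n, e⟩ := exists_card_eq_pow h.hp (hP.pgrp.to_le (inf_le_left : P ⊓ 𝐍(R ^ᵍ g) ≤ P))
      have := H1.card_lt_of_lt l1
      rw [card_conj, h.cR, e] at this
      refine inf_eq_left.1 (H1.eq_of_le_of_card_le inf_le_left ?_)
      rw [cP, e]
      exact Nat.pow_le_pow_right h.hp.pos ((Nat.pow_lt_pow_iff_right h.hp.one_lt).1 this)
    rw [norm_conj] at h2
    exact conj_eq_self_iff.1 (H1.eq_of_le_of_card_le ((hP.conj g).le_of_normal h.hp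
      (conj_le_norm_iff.2 nP) hP.pgrp h2) (card_conj P g).le).symm
  obtain ⟨c1, c2⟩ := h.cnt hP.pgrp yP (h.nR.2.trans nP)
  have c3 : 𝐂[y].relIndex 𝐍(P) = p := by
    have d1 : ¬ p ∣ 𝐍(R).relIndex 𝐍(P) := fun e => iP (e.trans ((Dvd.intro_left _
      (relIndex_mul_relIndex _ _ _ hP.le nP)).trans (relIndex_dvd_index_of_le (le_norm_self P))))
    have d0 := CH1.relIndex_ne_zero' 𝐍(R) 𝐍(P)
    have d2 := h.cm
    have d3 := h.fc.two_lt_c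
    rw [← relIndex_mul_relIndex _ _ _ h.nR.2 nP, h.relM, pow_one] at c1 c2 ⊢
    rw [cP, pow_succ', pow_two] at c1
    have d4 := Nat.le_of_mul_le_mul_left (Nat.le_of_mul_le_mul_left c1 h.hp.pos) h.hp.pos
    have d5 := lt_of_le_of_ne d4 fun e => d1 (e ▸ dvd_rfl)
    generalize 𝐍(R).relIndex 𝐍(P) = j at *
    generalize 𝐨((Q ⊓ 𝐂[y] : Subgroup G)) = c at *
    rw [pow_one] at d2
    rw [← d2, show (c + 1) * j - 1 = c * j + (j - 1) by rw [add_mul]; omega,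
      Nat.dvd_add_right (dvd_mul_right c j)] at c2
    rw [show j = 1 by have := Nat.eq_zero_of_dvd_of_lt c2 (by omega); omega, mul_one]
  have c4 : 𝐂[y].relIndex P = p := by
    have := H1.card_inf_mul_relIndex 𝐂[y] P
    rw [h.sylR.eq_of_le h.hp (le_inf h.nR.1 RP) inf_le_left (hP.pgrp.to_le inf_le_right), h.cR, cP,
      pow_succ _ 2] at this
    exact Nat.eq_of_mul_eq_mul_left (pow_pos h.hp.pos _) this
  have c5 : {c | ∃ g ∈ P, g * y * g⁻¹ = c} = {c | ∃ g ∈ 𝐍(P), g * y * g⁻¹ = c} :=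
    Set.eq_of_subset_of_ncard_le (fun _ ⟨g, hg, e⟩ => ⟨g, le_norm_self P hg, e⟩)
      (by rw [ncard_class, ncard_class, c3, c4]) (Set.toFinite _)
  exact iP (h.fc.dvd_index yP (fun g hg => c5.ge ⟨g, key g hg, rfl⟩) fun e =>
    ny (mem_cent_iff_cent1.1 (hZ.2.ge e).2))

end FR

/-- The simple group of the induction step has elementary abelian involution centralizers. -/
theorem Min.eac (h : Min G Ω) : L.EAC G := by
  have := h.two
  obtain ⟨α, β, hne⟩ := exists_pair_ne Ω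
  obtain ⟨Q, hQ⟩ := Mc.exists_bn ⟨h, h.iComm⟩ hne
  refine hQ.eac_of_rk2 fun X hX hp a ha a1 hc => by_contra fun nr => ?_
  obtain ⟨y, rfl⟩ := isCyclic_iff_zpowers.1 (isCyclic_of_card_prime hp)
  rw [cent_zpowers] at hc nr
  obtain ⟨R, m, hR⟩ := FC.exists_fr ⟨hQ, hp, (Nat.card_zpowers y).symm, zpowers_le.1 hX, ha, a1,
    hc, nr⟩
  exact hR.false

theorem eacHyp : EacHyp.{u, v} := fun _ _ _ _ _ h _ => h.eac

end Cfsg.Agent.P6
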