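/-
Strongly embedded subgroups and solvable centralizers of involutions.
-/
import Cfsg.Agent.P6.Ind
import Cfsg.Agent.H2.ZC1

set_option autoImplicit false
set_option linter.unusedSectionVars false

namespace Cfsg.Agent.P6

open Subgroup Cfsg Cfsg.Agent Cfsg.Agent.FT MulAction
open scoped commutatorElement

universe u v

variable {G : Type u} [Group G] [Finite G]

theorem smul_mk_eq_iff {M : Subgroup G} {a g : G} :
    a • (g : G ⧸ M) = g ↔ g⁻¹ * a * g ∈ M := by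
  rw [eq_comm, mul_assoc]; exact QuotientGroup.eq

theorem stab_mk (M : Subgroup G) (g : G) : stabilizer G (g : G ⧸ M) = M ^ᵍ g := by
  ext a; rw [mem_stabilizer_iff, smul_mk_eq_iff, mem_conj]

/-- Control of fusion of involutions gives a strongly embedded subgroup. -/
theorem se_quot {S M : Subgroup G} (hS : IsSyl 2 S ⊤) (hSM : S ≤ M)
    (h : ∀ s ∈ S, Inv s → ∀ g : G, g * s * g⁻¹ ∈ S → g ∈ M) : SE G (G ⧸ M) := by
  refine ⟨fun {c} hc x y hx hy => ?_, fun {c} hc => ?_⟩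
  · obtain ⟨x, rfl⟩ := QuotientGroup.mk_surjective x
    obtain ⟨y, rfl⟩ := QuotientGroup.mk_surjective y
    have key : ∀ z : G, c • (z : G ⧸ M) = z → ∃ m ∈ M, m * (z⁻¹ * c * z) * m⁻¹ ∈ S := fun z hz => by
      obtain ⟨m, hm, e⟩ := (hS.of_le hSM le_top).exists_conj_le Nat.prime_two
        (hc.conj' z).isPGroup (zpowers_le.2 (smul_mk_eq_iff.1 hz))
      exact ⟨m, hm, e (conj_mem_conj (mem_zpowers _) m)⟩
    obtain ⟨m, hm, e1⟩ := key x hx
    obtain ⟨k, hk, e2⟩ := key y hy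
    have := h _ e2 ((hc.conj' y).conj k) (m * (x⁻¹ * y) * k⁻¹) (by convert e1 using 1; group)
    exact QuotientGroup.eq.2 ((mul_mem_cancel_left hm).1 ((mul_mem_cancel_right (inv_mem hk)).1 this))
  · obtain ⟨g, -, e⟩ := hS.exists_le_conj Nat.prime_two hc.isPGroup le_top
    exact ⟨(g : G ⧸ M), smul_mk_eq_iff.2 (hSM (mem_conj.1 (e (mem_zpowers c))))⟩

theorem se_of_stronglyEmbedded {M : Subgroup G} (h : IsStronglyEmbedded M) : SE G (G ⧸ M) := by
  have h1 : ∀ s ∈ M, Inv s → ∀ g : G, g * s * g⁻¹ ∈ M → g ∈ M := fun s hs hi g hg => by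
    by_contra hn
    exact (hi.conj g).not_mem_of_odd (h.2.2 g hn) ⟨hg, conj_mem_conj hs g⟩
  obtain ⟨S, hS⟩ := exists_isSyl Nat.prime_two M
  obtain ⟨t, ht, hi⟩ := exists_inv_of_even (X := S) fun ho =>
    Nat.not_odd_iff_even.2 h.2.1 (by
      rw [← H1.card_mul_relIndex hS.le]
      exact ho.mul (Nat.odd_iff.2 (Nat.two_dvd_ne_zero.1 hS.ndvd)))
  refine se_quot (IsSyl.of_norm Nat.prime_two (hS.of_le (le_inf le_top (le_norm_self S)) ?_)) hS.le
    fun s hs hi g hg => h1 s (hS.le hs) hi g (hS.le hg)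
  exact fun g hg => h1 t (hS.le ht) hi g (hS.le ((mem_normalizer_iff.1 hg.2 t).1 ht))

theorem hyp_quot {M : Subgroup G} (h : SE G (G ⧸ M))
    (ab : ∀ P : Subgroup G, IsPGroup 2 P → IsMulCommutative P) (hM : Group.IsSolvable M) :
    Hyp G (G ⧸ M) :=
  ⟨h, ab, fun x => by
    obtain ⟨g, rfl⟩ := QuotientGroup.mk_surjective x
    rw [stab_mk]
    exact H1.isSolvable_map _ hM⟩

theorem all_quot {M : Subgroup G} {t : G} (ht : Inv t) (hM : t ∈ M) (x : G ⧸ M) :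
    ∃ a : G, Inv a ∧ a • x = x := by
  obtain ⟨g, rfl⟩ := QuotientGroup.mk_surjective x
  exact ⟨_, ht.conj g, smul_mk_eq_iff.2 (by simpa [mul_assoc] using hM)⟩

theorem nontrivial_quot {M : Subgroup G} (hM : M ≠ ⊤) : Nontrivial (G ⧸ M) := by
  obtain ⟨g, -, hg⟩ := SetLike.exists_of_lt (Ne.lt_top hM)
  exact ⟨(1 : G), g, fun e => hg (by simpa using QuotientGroup.eq.1 e)⟩

theorem EacHyp.of_se (hE : EacHyp.{u, u}) (hs : IsSimpleGroup G)
    (ab : ∀ P : Subgroup G, IsPGroup 2 P → IsMulCommutative P) (h2 : Rk2 (⊤ : Subgroup G))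
    {M : Subgroup G} (h : IsStronglyEmbedded M) (hM : Group.IsSolvable M) : L.EAC G := by
  obtain ⟨t, ht, hi⟩ := exists_inv_of_even (Nat.not_odd_iff_even.2 h.2.1)
  have := nontrivial_quot h.1
  exact hE.simple_eac (hyp_quot (se_of_stronglyEmbedded h) ab hM) hs h2 (all_quot hi ht)

theorem Rk2.not_isSolvable (hs : IsSimpleGroup G) (h2 : Rk2 (⊤ : Subgroup G)) :
    ¬ Group.IsSolvable (⊤ : Subgroup G) := fun h => by
  obtain ⟨a, -, b, -, ha, hb, hne, -⟩ := h2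
  have h1 := H1.commutator_lt_of_isSolvable h fun e => ha.ne (mem_bot.1 (e ▸ mem_top a))
  have h3 := isMulComm_iff_le_cent.1 (isMulComm_iff_comm_eq_bot.2
    ((hs.eq_bot_or_eq_top_of_normal _ inferInstance).resolve_right h1.ne))
  have h4 : (zpowers a).Normal := ⟨fun x hx g => by
    rwa [mem_cent1_iff_conj.1 (cent_le_cent1 (mem_top x) (h3 (mem_top g)))]⟩
  rcases hs.eq_bot_or_eq_top_of_normal _ h4 with e | e
  · exact ha.ne (mem_bot.1 (e ▸ mem_zpowers a))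
  · rcases ha.mem_zpowers_iff.1 (e ▸ mem_top b : b ∈ zpowers a) with e | e
    · exact hb.ne e
    · exact hne e.symm

/-- A solvable subgroup that controls fusion, for abelian Sylow 2-subgroups of rank at least three
and solvable centralizers of involutions. -/
theorem exists_control (ab : ∀ P : Subgroup G, IsPGroup 2 P → IsMulCommutative P)
    (h3 : 3 ≤ pRank 2 (⊤ : Subgroup G)) (hC : ∀ t : G, Inv t → Group.IsSolvable 𝐂[t]) :
    ∃ M : Subgroup G, Group.IsSolvable M ∧ SE G (G ⧸ M) ∧ ∃ t ∈ M, Inv t := by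
  have hC' : H2.ZC.CSolv G := fun t h1 h2 => hC t ⟨h1, by rw [← pow_two, h2]⟩
  obtain ⟨S, hS⟩ := exists_isSyl Nat.prime_two (⊤ : Subgroup G)
  have hSc := ab S hS.pgrp
  obtain ⟨A, hA⟩ : ∃ A, A = omegaOne 2 S := ⟨_, rfl⟩
  have hAe : IsElem 2 (pRank 2 (⊤ : Subgroup G)) A := by
    rw [hA, ← hS.pRank_eq Nat.prime_two]; exact isElem_omegaOne_of_comm Nat.prime_two hSc
  have hmem : ∀ {x : G}, x ∈ A ↔ x ∈ S ∧ x ^ 2 = 1 := hA ▸ mem_omegaOne_iff_of_comm hSc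
  have hAS : A ≤ S := fun x hx => (hmem.1 hx).1
  obtain ⟨E, hEA, hE⟩ := hAe.exists_le Nat.prime_two h3
  obtain ⟨B, hBE, hB⟩ := hE.exists_le Nat.prime_two (k := 2) (by norm_num)
  have hW : Odd 𝐨(H2.ZC.wc A) := by
    rw [hC'.wc_eq hAe.1 (hBE.trans hEA) hB, ← hC'.wc_eq hE.1 hBE hB]
    exact Nat.coprime_two_right.1 (hC'.e8 hE).1
  have hNW : 𝐍(A) ≤ 𝐍(H2.ZC.wc A) := fun g hg => by
    rw [← conj_eq_self_iff, ← H2.ZC.wc_conj, conj_eq_of_mem_norm hg]
  obtain ⟨t, ht, ht1⟩ := (A.bot_or_exists_ne_one).resolve_left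
    (hAe.ne_bot Nat.prime_two (by omega))
  have hi : Inv t := ⟨ht1, by rw [← pow_two]; exact (hmem.1 ht).2⟩
  have hSC : S ≤ 𝐂(A) := (isMulComm_iff_le_cent.1 hSc).trans (cent_anti hAS)
  have hN : Group.IsSolvable 𝐍(A) := by
    have : (𝐂(A).subgroupOf 𝐍(A)).Normal :=
      (normal_subgroupOf_iff_le_normalizer (cent_le_norm A)).2 (H1.normalizer_le_normalizer_centralizer A)
    have h1 : Group.IsSolvable (𝐂(A).subgroupOf 𝐍(A)) :=
      H1.isSolvable_subgroupOf (H1.isSolvable_of_le (cent_le_cent1 ht) (hC t hi)) _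
    have h2 : Group.IsSolvable (𝐍(A) ⧸ 𝐂(A).subgroupOf 𝐍(A)) := by
      refine feit_thompson _ (Nat.odd_iff.2 (Nat.two_dvd_ne_zero.1 fun hd => ?_))
      exact (hS.of_le (hSC.trans (cent_le_norm A)) le_top).ndvd
        (hd.trans (relIndex_dvd_of_le_left _ hSC))
    exact Group.isSolvable_of_ker_le_range (𝐂(A).subgroupOf 𝐍(A)).subtype 
      (QuotientGroup.mk' (𝐂(A).subgroupOf 𝐍(A)))
      (by rw [QuotientGroup.ker_mk', range_subtype])
  have hSM : S ≤ 𝐍(A) ⊔ H2.ZC.wc A := (hSC.trans (cent_le_norm A)).trans le_sup_left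
  refine ⟨𝐍(A) ⊔ H2.ZC.wc A, H2.isSolvable_sup_of_le_normalizer hNW hN (feit_thompson _ hW),
    se_quot hS hSM fun s hs hi g hg => ?_, t, hSM (hAS ht), hi⟩
  refine H2.ZC.mem_of_conj_mem (K := ⊤) hC' hS (V := A) (le_inf hAS (cent_comm.1 hSC))
    (fun x hx => mem_sup_left (mem_norm_of_conj_le fun y hy => hmem.2 ⟨hx hy, (hAe.conj x).1.2 y hy⟩))
    (fun s _ h1 h2 hx => (H2.ZC.le_wc (hmem.2 ⟨hx.1, h2⟩) h1).trans le_sup_right) (mem_top s) hi.ne
    (by rw [pow_two, hi.sq]) hs hg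

theorem EacHyp.sol (hE : EacHyp.{u, u}) (hs : IsSimpleGroup G)
    (ab : ∀ P : Subgroup G, IsPGroup 2 P → IsMulCommutative P)
    (h3 : 3 ≤ pRank 2 (⊤ : Subgroup G)) (hC : ∀ t : G, Inv t → Group.IsSolvable 𝐂[t]) :
    L.EAC G := by
  have h2 : Rk2 (⊤ : Subgroup G) := rk2_of_two_le_pRank (by omega)
  obtain ⟨M, hM, hse, t, ht, hi⟩ := exists_control ab h3 hC
  have := nontrivial_quot (M := M) fun e => h2.not_isSolvable hs (e ▸ hM)
  exact hE.simple_eac (hyp_quot hse ab hM) hs h2 (all_quot hi ht)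

end Cfsg.Agent.P6
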