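/-
The structure of a group with a solvable strongly embedded subgroup and abelian Sylow 2-subgroups.
-/
import Cfsg.Agent.P6.Sol

set_option autoImplicit false
set_option linter.unusedSectionVars false

namespace Cfsg.Agent.P6

open Subgroup Cfsg Cfsg.Agent Cfsg.Agent.FT MulAction
open scoped commutatorElement

universe u v

variable {G : Type u} [Group G] [Finite G] {Ω : Type v} [MulAction G Ω]

/-- `Fx Ω ⊤` as a `G`-set. -/
def fxTop (G : Type u) [Group G] (Ω : Type v) [MulAction G Ω] : SubMulAction G Ω where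
  carrier := Fx Ω (⊤ : Subgroup G)
  smul_mem' g _ h := smul_mem_Fx' (mem_top g) h

/-- The hypotheses pass to the quotient by a normal subgroup of odd order. -/
theorem Hyp.quotient (h : Hyp G Ω) (h2 : Rk2 (⊤ : Subgroup G))
    (hF : (Fx Ω (⊤ : Subgroup G)).Nontrivial) (N : Subgroup G) [N.Normal] (ho : Odd 𝐨(N)) :
    ∃ (Ω' : Type v) (_ : MulAction (G ⧸ N) Ω'), Hyp (G ⧸ N) Ω' ∧ Rk2 (⊤ : Subgroup (G ⧸ N)) ∧
      Nontrivial Ω' ∧ ∀ α : Ω', ∃ a : G ⧸ N, Inv a ∧ a • α = α := by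
  have hker : N ≤ (toPermHom G (fxTop G Ω)).ker := fun x hx => by
    rw [MonoidHom.mem_ker]
    exact Equiv.ext fun δ => Subtype.ext
      (h.toSE.le_stab_of_rk2 h2 ho (normalizer_eq_top N).ge δ.2 hx)
  let _ : MulAction (G ⧸ N) (fxTop G Ω) :=
    MulAction.compHom _ (QuotientGroup.lift N (toPermHom G (fxTop G Ω)) hker)
  have c : Cov (G' := G ⧸ N) (⊤ : Subgroup G) ((QuotientGroup.mk' N).comp (Subgroup.subtype ⊤))
      (fun x : fxTop G Ω => (x : Ω)) :=
    { surj := fun z => by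
        obtain ⟨g, rfl⟩ := QuotientGroup.mk_surjective z
        exact ⟨⟨g, mem_top g⟩, rfl⟩
      odd := by
        rw [← MonoidHom.comap_ker, QuotientGroup.ker_mk']
        exact ho.of_dvd_nat (H2.card_subgroupOf_of_le (le_top (a := N))).dvd
      inj := Subtype.val_injective
      range := fun α => ⟨fun h => ⟨⟨α, h⟩, rfl⟩, fun ⟨x, e⟩ => e ▸ x.2⟩
      smul := fun _ _ => rfl }
  exact ⟨_, _, c.hyp h, c.rk2 h2, c.nontrivial hF, c.all⟩

/-- If `O(G) = 1`, the involutions generate a simple normal subgroup of odd index with trivial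
centralizer, in which the centralizers of involutions are elementary abelian. -/
theorem EacHyp.structure (hE : EacHyp.{u, v}) (h : Hyp G Ω) (h2 : Rk2 (⊤ : Subgroup G))
    (hF : (Fx Ω (⊤ : Subgroup G)).Nontrivial)
    (hO : ∀ N : Subgroup G, N.Normal → Odd 𝐨(N) → N = ⊥) :
    ∃ K : Subgroup G, K.Normal ∧ IsSimpleGroup K ∧ L.EAC K ∧ Rk2 K ∧ Odd K.index ∧ 𝐂(K) = ⊥ ∧
      ∀ a : G, Inv a → a ∈ K := by
  obtain ⟨K, hK⟩ : ∃ K, K = closure {a : G | Inv a} := ⟨_, rfl⟩
  have hI : ∀ a : G, Inv a → a ∈ K := fun a ha => hK ▸ subset_closure ha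
  have hn : K.Normal := by
    rw [normal_iff_top_le]
    refine fun g _ => mem_norm_of_conj_le ?_
    rw [conj_le_iff, hK, closure_le]
    exact fun a ha => mem_conj.2 (subset_closure (by simpa using Inv.conj ha g))
  have hR : Rk2 K := by
    obtain ⟨a, -, b, -, ha, hb, h4⟩ := h2
    exact ⟨a, hI a ha, b, hI b hb, ha, hb, h4⟩
  have hFK : (Fx Ω K).Nontrivial := hF.mono fun α ⟨a, _, ha, e⟩ => ⟨a, hI a ha, ha, e⟩
  obtain ⟨a, haK, b, hbK, ha, hb, hab, -⟩ := id hR
  have hs : IsSimpleGroup K := by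
    have : Nontrivial K := ⟨⟨a, haK⟩, 1, fun e => ha.ne (congrArg Subtype.val e)⟩
    refine ⟨fun X hX => ?_⟩
    have hXn : X.map K.subtype ⊲ K :=
      ⟨map_subtype_le X, (normal_subgroupOf_iff_le_normalizer (map_subtype_le X)).1 (by
        rwa [subgroupOf, comap_map_eq_self_of_injective K.subtype_injective])⟩
    by_cases ho : Odd 𝐨(X.map K.subtype)
    · left
      have h1 := hO (Od K) (normal_iff_top_le.2 ((normal_iff_top_le.1 hn).trans (norm_le_norm_Od K)))
        (odd_Od K)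
      rw [← map_eq_bot_iff_of_injective X K.subtype_injective, eq_bot_iff, ← h1]
      exact le_Od hXn ho
    · right
      obtain ⟨t, htX, ht⟩ := exists_inv_of_even ho
      have h1 : K ≤ X.map K.subtype := by
        nth_rw 1 [hK]
        rw [closure_le]
        intro c hc
        obtain ⟨g, hg, e⟩ := h.toSE.exists_conj hFK ht hc (hXn.1 htX) (hI c hc)
        exact e ▸ H1.conj_mem_of_le_normalizer hXn.2 hg htX
      rw [eq_top_iff]
      intro x _
      obtain ⟨y, hy, e⟩ := h1 x.2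
      exact (Subtype.ext e : y = x) ▸ hy
  have c := cov_sub (Ω := Ω) K
  have := c.nontrivial hFK
  refine ⟨K, hn, hs, hE.simple_eac (c.hyp h) hs (c.rk2 hR) c.all, hR, ?_, ?_, hI⟩
  · obtain ⟨S, hS⟩ := exists_isSyl Nat.prime_two (⊤ : Subgroup G)
    have h1 : S ≤ K := fun x hx => by
      by_cases e : x = 1
      · rw [e]; exact one_mem K
      · exact hI x ⟨e, (hE.bt h h2 hF).sq_eq_one h.toSE hF (mem_top x)
          (hS.pgrp.to_le (zpowers_le.2 hx))⟩
    refine Nat.odd_iff.2 (Nat.two_dvd_ne_zero.1 fun hd => hS.ndvd ?_)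
    rw [relIndex_top_right]
    exact hd.trans (index_dvd_of_le h1)
  · refine hO _ (normal_iff_top_le.2 ((normal_iff_top_le.1 hn).trans
      (H1.normalizer_le_normalizer_centralizer K))) (odd_of_no_inv fun t htC ht => hab ?_)
    have key : ∀ c : G, Inv c → c = t := fun c hc => by
      obtain ⟨g, hg, e⟩ := h.toSE.exists_conj hFK ht hc (hI t ht) (hI c hc)
      rw [← e, mem_cent.1 htC g hg]; group
    rw [key a ha, key b hb]

/-- A simple group with elementary abelian centralizers of involutions and a four-group is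
`SL₂(2^n)`. -/
theorem exists_SL2_of_eac (he : L.EAC G) (hs : IsSimpleGroup G) (h2 : Rk2 (⊤ : Subgroup G)) :
    ∃ n : ℕ, 2 ≤ n ∧ n = pRank 2 (⊤ : Subgroup G) ∧
      Nat.card G = 2 ^ n * (2 ^ n - 1) * (2 ^ n + 1) ∧
      Nonempty (G ≃* Matrix.SpecialLinearGroup (Fin 2) (GaloisField 2 n)) ∧
      Nonempty (G ≃* Matrix.ProjectiveSpecialLinearGroup (Fin 2) (GaloisField 2 n)) := by
  have hns := h2.not_isSolvable hs
  obtain ⟨a, -, b, -, ha, hb, hab, hc⟩ := h2
  have hel : IsElementaryAbelian 2 𝐂[a] :=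
    ⟨isMulComm_iff_le_cent.2 fun x hx => mem_cent.2 fun y hy =>
      L.commute_of_sq_eq_one (he.sq_of_mem ha.ne ha.sq) hy hx,
     fun x hx => by rw [pow_two]; exact he.sq_of_mem ha.ne ha.sq x hx⟩
  obtain ⟨n, hn, h1, h3, h4⟩ := he.exists_galoisField_of_not_isSolvable ha.ne ha.sq
    (fun hn => by
      rcases hs.eq_bot_or_eq_top_of_normal _ hn with e | e
      · exact ha.ne (mem_bot.1 (e ▸ self_mem_cent1 a))
      · exact hns (e ▸ H1.isSolvable_of_isMulCommutative hel.1))
    (fun e => by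
      have h1 := H1.eq_of_le_of_card_le (zpowers_le.2 (self_mem_cent1 a))
        (by rw [e, ha.card_zpowers])
      rcases ha.mem_zpowers_iff.1 (h1 ▸ mem_cent1.2 hc : b ∈ zpowers a) with e | e
      · exact hb.ne e
      · exact hab e.symm)
  refine ⟨n, hn, ?_, h3, h4⟩
  have hS : IsSyl 2 𝐂[a] ⊤ := isSyl_of_maximal Nat.prime_two le_top (elemAb_isPGroup hel)
    fun Q hQ _ hQp => by
      have := Fact.mk Nat.prime_two
      obtain ⟨z, hz, hz1⟩ := ((𝐙(Q)).bot_or_exists_ne_one).resolve_left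
        (center_ne_bot hQp.isNilpotent fun e =>
          ha.ne (mem_bot.1 (e ▸ hQ (self_mem_cent1 a))))
      have h5 : z ∈ 𝐂[a] := cent_le_cent1 (hQ (self_mem_cent1 a)) hz.2
      refine le_antisymm ?_ hQ
      rw [← he.cent_eq ha.ne ha.sq h5 hz1]
      exact mem_cent_iff_cent1.1 hz.2
  rw [← hS.pRank_eq Nat.prime_two, IsElem.pRank_eq Nat.prime_two ⟨hel, h1⟩]

end Cfsg.Agent.P6
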